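import Cfsg.Agent.EqLemmas

/-!
# Commutator and power identities

Conventions are Mathlib's: `⁅a, b⁆ = a * b * a⁻¹ * b⁻¹`.
* `commutator_mul_left`, `commutator_mul_right`: product rules when the commutator is centralized.
* `commutator_pow_left`, `commutator_pow_right`: `⁅x ^ n, y⁆ = ⁅x, y⁆ ^ n`.
* `mul_pow_eq`: `(x * y) ^ n = ⁅y, x⁆ ^ C(n,2) * x ^ n * y ^ n` in class two.
* `mul_pow_eq_three`: the class three version.
* `mul_pow_prime_eq`, `mul_pow_prime_eq_three`: `(x*y)^p = x^p*y^p`.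
* `classTwo_comm_center`: from `⁅commutator G, ⊤⁆ = ⊥` commutators are central.
-/

open Subgroup
open scoped commutatorElement

namespace Cfsg.Agent.PGroup

variable {G : Type*} [Group G]

theorem commutator_mul_self_eq (x y : G) : ⁅x, y⁆ * y * x = x * y := by
  simp [commutatorElement_def, mul_assoc]

theorem commutator_mul_left {x x' y : G} (h : Commute x ⁅x', y⁆) :
    ⁅x * x', y⁆ = ⁅x', y⁆ * ⁅x, y⁆ := by
  rw [commutatorElement_mul_left_eq_conj_mul, h.eq]
  group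

theorem commutator_mul_right {x y y' : G} (h : Commute y ⁅x, y'⁆) :
    ⁅x, y * y'⁆ = ⁅x, y⁆ * ⁅x, y'⁆ := by
  have h' := commutator_mul_left (x := y) (x' := y') (y := x)
    (by rw [← commutatorElement_inv]; exact h.inv_right)
  rw [← commutatorElement_inv (y * y') x, h', mul_inv_rev, commutatorElement_inv,
    commutatorElement_inv]

theorem commutator_pow_left {x y : G} (h : Commute x ⁅x, y⁆) (n : ℕ) :
    ⁅x ^ n, y⁆ = ⁅x, y⁆ ^ n := by
  induction n with
  | zero => simp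
  | succ n ih =>
    rw [pow_succ x, commutator_mul_left (h.pow_left n), ih, ← pow_succ']

theorem commutator_pow_right {x y : G} (h : Commute y ⁅x, y⁆) (n : ℕ) :
    ⁅x, y ^ n⁆ = ⁅x, y⁆ ^ n := by
  rw [← commutatorElement_inv (y ^ n) x, commutator_pow_left (x := y) (y := x)
    (by rw [← commutatorElement_inv]; exact h.inv_right), ← inv_pow, commutatorElement_inv]

theorem pow_mul_eq {x y : G} (hy : Commute y ⁅y, x⁆) (n : ℕ) :
    y ^ n * x = ⁅y, x⁆ ^ n * x * y ^ n := by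
  rw [← commutator_pow_left hy n]
  exact (commutator_mul_self_eq _ _).symm

theorem mul_pow_eq {x y : G} (hx : Commute x ⁅y, x⁆) (hy : Commute y ⁅y, x⁆) (n : ℕ) :
    (x * y) ^ n = ⁅y, x⁆ ^ (n.choose 2) * x ^ n * y ^ n := by
  induction n with
  | zero => simp
  | succ n ih =>
    have h1 : x ^ n * ⁅y, x⁆ ^ n = ⁅y, x⁆ ^ n * x ^ n := (hx.pow_pow n n).eq
    calc (x * y) ^ (n + 1) = ⁅y, x⁆ ^ (n.choose 2) * x ^ n * (y ^ n * x) * y := by
          rw [pow_succ, ih]; group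
      _ = ⁅y, x⁆ ^ (n.choose 2) * (x ^ n * ⁅y, x⁆ ^ n) * x * (y ^ n * y) := by
          rw [pow_mul_eq hy n]; group
      _ = ⁅y, x⁆ ^ (n.choose 2) * ⁅y, x⁆ ^ n * (x ^ n * x) * (y ^ n * y) := by
          rw [h1]; group
      _ = _ := by
          rw [← pow_succ, ← pow_succ, ← pow_add, Nat.choose_succ_succ', Nat.choose_one_right,
            Nat.add_comm n (n.choose 2)]

theorem mul_pow_prime_eq {x y : G} {p : ℕ} (hp : p.Prime) (hp2 : p ≠ 2)
    (hx : Commute x ⁅y, x⁆) (hy : Commute y ⁅y, x⁆) (hc : ⁅y, x⁆ ^ p = 1) :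
    (x * y) ^ p = x ^ p * y ^ p := by
  obtain ⟨k, hk⟩ := hp.dvd_choose_self (k := 2) (by norm_num)
    (lt_of_le_of_ne hp.two_le (Ne.symm hp2))
  rw [mul_pow_eq hx hy, hk, pow_mul, hc, one_pow, one_mul]

/-- The exponent of `⁅x, ⁅y, x⁆⁆` in the class three power formula: `∑_{i<n} i^2`. -/
def sumSq (n : ℕ) : ℕ := ∑ i ∈ Finset.range n, i ^ 2

theorem sumSq_succ (n : ℕ) : sumSq (n + 1) = sumSq n + n ^ 2 := Finset.sum_range_succ _ _

theorem six_mul_sumSq (n : ℕ) : 6 * sumSq (n + 1) = n * (n + 1) * (2 * n + 1) := by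
  induction n with
  | zero => simp [sumSq]
  | succ n ih =>
    rw [sumSq, Finset.sum_range_succ, Nat.mul_add, ← sumSq, ih]; ring

theorem dvd_sumSq {p : ℕ} (hp : p.Prime) (hp3 : 3 < p) : p ∣ sumSq p := by
  obtain ⟨m, rfl⟩ : ∃ m, p = m + 1 := ⟨p - 1, by omega⟩
  have h : (m + 1) ∣ 6 * sumSq (m + 1) := by
    rw [six_mul_sumSq]; exact ⟨m * (2 * m + 1), by ring⟩
  refine (hp.coprime_iff_not_dvd.mpr fun h6 => ?_).dvd_of_dvd_mul_left h
  have : m + 1 ≤ 6 := Nat.le_of_dvd (by norm_num) h6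
  have hm : m + 1 = 4 ∨ m + 1 = 5 ∨ m + 1 = 6 := by omega
  rcases hm with h | h | h
  · rw [h] at hp; norm_num at hp
  · rw [h] at h6; norm_num at h6
  · rw [h] at hp; norm_num at hp

theorem conj_pow_eq_three {x y : G} (hey : Commute y ⁅y, ⁅y, x⁆⁆)
    (hec : Commute ⁅y, x⁆ ⁅y, ⁅y, x⁆⁆) (n : ℕ) :
    y ^ n * x = ⁅y, x⁆ ^ n * ⁅y, ⁅y, x⁆⁆ ^ (n.choose 2) * x * y ^ n := by
  induction n with
  | zero => simp
  | succ n ih =>
    set c := ⁅y, x⁆ with hc
    set e := ⁅y, c⁆ with he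
    have h1 : y * c ^ n = e ^ n * c ^ n * y := by
      have := commutator_pow_right (x := y) (y := c) hec n
      rw [← commutator_mul_self_eq y (c ^ n), this]
    have h2 : y * x = c * x * y := (commutator_mul_self_eq y x).symm
    have h3 : y * e ^ (n.choose 2) = e ^ (n.choose 2) * y := (hey.pow_right _).eq
    have h4 : c ^ n * e ^ (n.choose 2) * c = c ^ (n + 1) * e ^ (n.choose 2) := by
      rw [mul_assoc, ← (hec.pow_right _).eq, ← mul_assoc, ← pow_succ]
    have h5 : c ^ (n + 1) * e ^ n = e ^ n * c ^ (n + 1) := (hec.pow_pow _ _).eq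
    calc y ^ (n + 1) * x = y * (y ^ n * x) := by rw [pow_succ']; group
      _ = (y * c ^ n) * e ^ (n.choose 2) * x * y ^ n := by rw [ih]; group
      _ = e ^ n * c ^ n * (y * e ^ (n.choose 2)) * x * y ^ n := by rw [h1]; group
      _ = e ^ n * c ^ n * e ^ (n.choose 2) * (y * x) * y ^ n := by rw [h3]; group
      _ = e ^ n * (c ^ n * e ^ (n.choose 2) * c) * x * (y * y ^ n) := by rw [h2]; group
      _ = c ^ (n + 1) * (e ^ n * e ^ (n.choose 2)) * x * y ^ (n + 1) := by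
          rw [h4, ← pow_succ', ← mul_assoc (e ^ n), ← h5]; group
      _ = _ := by rw [← pow_add, Nat.choose_succ_succ', Nat.choose_one_right]

theorem mul_pow_eq_three {x y : G}
    (hdx : Commute x ⁅x, ⁅y, x⁆⁆) (hdy : Commute y ⁅x, ⁅y, x⁆⁆) (hdc : Commute ⁅y, x⁆ ⁅x, ⁅y, x⁆⁆)
    (hex : Commute x ⁅y, ⁅y, x⁆⁆) (hey : Commute y ⁅y, ⁅y, x⁆⁆)
    (hec : Commute ⁅y, x⁆ ⁅y, ⁅y, x⁆⁆) (n : ℕ) :
    (x * y) ^ n = ⁅y, x⁆ ^ (n.choose 2) * ⁅x, ⁅y, x⁆⁆ ^ (sumSq n) *
      ⁅y, ⁅y, x⁆⁆ ^ (n.choose 3) * x ^ n * y ^ n := by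
  induction n with
  | zero => simp [sumSq]
  | succ n ih =>
    set c := ⁅y, x⁆ with hc
    set d := ⁅x, c⁆ with hd
    set e := ⁅y, c⁆ with he
    have h1 : ⁅x ^ n, c ^ n⁆ = d ^ (n ^ 2) := by
      have ha : ⁅x ^ n, c⁆ = d ^ n := commutator_pow_left hdx n
      rw [commutator_pow_right (by rw [ha]; exact hdc.pow_right n), ha, ← pow_mul, sq]
    have h2 : x ^ n * c ^ n = d ^ (n ^ 2) * c ^ n * x ^ n := by
      rw [← h1]; exact (commutator_mul_self_eq _ _).symm
    have h0 : y ^ n * x = c ^ n * e ^ (n.choose 2) * x * y ^ n :=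
      conj_pow_eq_three hey hec n
    have h3 : x ^ n * e ^ (n.choose 2) = e ^ (n.choose 2) * x ^ n := (hex.pow_pow _ _).eq
    have k1 : c ^ n * d ^ (n ^ 2) = d ^ (n ^ 2) * c ^ n := (hdc.pow_pow _ _).eq
    have k2 : ∀ i j, c ^ i * d ^ j = d ^ j * c ^ i := fun i j => (hdc.pow_pow i j).eq
    have k3 : ∀ i j, c ^ i * e ^ j = e ^ j * c ^ i := fun i j => (hec.pow_pow i j).eq
    calc (x * y) ^ (n + 1)
        = c ^ (n.choose 2) * d ^ (sumSq n) * e ^ (n.choose 3) * x ^ n * (y ^ n * x) * y := by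
          rw [pow_succ, ih]; group
      _ = c ^ (n.choose 2) * d ^ (sumSq n) * e ^ (n.choose 3) * (x ^ n * c ^ n) *
            e ^ (n.choose 2) * x * (y ^ n * y) := by
          rw [h0]; group
      _ = c ^ (n.choose 2) * d ^ (sumSq n) * e ^ (n.choose 3) * d ^ (n ^ 2) * c ^ n *
            (x ^ n * e ^ (n.choose 2)) * x * (y ^ n * y) := by rw [h2]; group
      _ = c ^ (n.choose 2) * d ^ (sumSq n) * e ^ (n.choose 3) * (d ^ (n ^ 2) * c ^ n) *
            e ^ (n.choose 2) * (x ^ n * x) * (y ^ n * y) := by rw [h3]; group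
      _ = c ^ (n.choose 2) * d ^ (sumSq n) * (e ^ (n.choose 3) * c ^ n) * d ^ (n ^ 2) *
            e ^ (n.choose 2) * (x ^ n * x) * (y ^ n * y) := by rw [← k1]; group
      _ = c ^ (n.choose 2) * (d ^ (sumSq n) * c ^ n) * e ^ (n.choose 3) * d ^ (n ^ 2) *
            e ^ (n.choose 2) * (x ^ n * x) * (y ^ n * y) := by rw [← k3]; group
      _ = (c ^ (n.choose 2) * c ^ n) * d ^ (sumSq n) * (e ^ (n.choose 3) * d ^ (n ^ 2)) *
            e ^ (n.choose 2) * (x ^ n * x) * (y ^ n * y) := by rw [← k2]; group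
      _ = _ := by
          rw [← pow_add, ← pow_succ x, ← pow_succ y]
          have hde : e ^ (n.choose 3) * d ^ (n ^ 2) = d ^ (n ^ 2) * e ^ (n.choose 3) := by
            have : Commute e d := by
              rw [he, commutatorElement_def]
              exact ((hdy.mul_left hdc).mul_left hdy.inv_left).mul_left hdc.inv_left
            exact (this.pow_pow _ _).eq
          rw [hde, Nat.choose_succ_succ' n 1, Nat.choose_succ_succ' n 2, Nat.choose_one_right,
            Nat.add_comm n (n.choose 2), sumSq_succ,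
            Nat.add_comm (n.choose 2) (n.choose 3), pow_add d, pow_add e]
          group

theorem classTwo_comm_center (h : ⁅_root_.commutator G, (⊤ : Subgroup G)⁆ = ⊥) (x y : G) :
    ⁅x, y⁆ ∈ Subgroup.center G :=
  commutator_top_right_eq_bot_iff_le_center.mp h
    (commutator_mem_commutator (mem_top x) (mem_top y))

end Cfsg.Agent.PGroup
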