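import Cfsg.Agent.Lib.PGroup.CyclicMaximal

/-!
# Subgroups of order p; cyclic maximal subgroups for odd p

* `card_inf_mul_relIndex`: `|E ∩ C| * |E : E ∩ C| = |E|`.
* `cyclic_index_p_omega`: odd `p`, non-cyclic with cyclic subgroup of index `p`: `Ω₁` has order `p^2`.
* `exists_normal_elementary_sq`: odd `p`, a non-cyclic normal subgroup contains a normal elementary subgroup of order `p^2`.
* `isCyclic_of_abelian_unique`: abelian subgroup with one subgroup of order `p` is cyclic.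
* `unique_order_p_cases`: a p-group with one subgroup of order `p` is cyclic or generalized quaternion.
-/

set_option linter.style.haveILetI false
set_option linter.unusedSectionVars false

open Subgroup
open scoped commutatorElement

namespace Cfsg.Agent.PGroup

variable {G : Type*} [Group G] [Finite G] {p : ℕ} [hp : Fact p.Prime]

theorem card_inf_mul_relIndex (E C : Subgroup G) :
    Nat.card (E ⊓ C : Subgroup G) * C.relIndex E = Nat.card E := by
  have h := (C.subgroupOf E).card_mul_index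
  rwa [← card_map_of_injective E.subtype_injective, subgroupOf_map_subtype, inf_comm] at h

theorem relIndex_le_index (E C : Subgroup G) : C.relIndex E ≤ C.index := by
  rw [← C.relIndex_top_right]
  exact relIndex_le_of_le_right le_top (by rw [C.relIndex_top_right]; exact index_ne_zero_of_finite)

theorem card_le_card_inf_mul_index (E C : Subgroup G) :
    Nat.card E ≤ Nat.card (E ⊓ C : Subgroup G) * C.index := by
  rw [← card_inf_mul_relIndex E C]; exact Nat.mul_le_mul le_rfl (relIndex_le_index E C)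

theorem card_inf_cyclic_le {E C : Subgroup G} (hC : IsCyclic C) {n : ℕ} (hn : 0 < n)
    (hE : ∀ x ∈ E, x ^ n = 1) : Nat.card (E ⊓ C : Subgroup G) ≤ n := by
  haveI : IsCyclic (E ⊓ C : Subgroup G) :=
    isCyclic_of_injective (inclusion (inf_le_right (a := E))) (inclusion_injective _)
  obtain ⟨g, hg⟩ := IsCyclic.exists_ofOrder_eq_natCard (α := (E ⊓ C : Subgroup G))
  rw [← hg]
  exact Nat.le_of_dvd hn (orderOf_dvd_of_pow_eq_one (Subtype.ext (by simpa using hE g g.2.1)))

/-- In a group generated by `a, b`, all commutators lie in a normal subgroup containing `⁅b, a⁆`. -/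
theorem commutator_mem_of_generators {N : Subgroup G} [N.Normal] {a b : G}
    (htop : closure {a, b} = ⊤) (h : ⁅b, a⁆ ∈ N) (x y : G) : ⁅x, y⁆ ∈ N := by
  set f := QuotientGroup.mk' N
  have hab : Commute (f b) (f a) := by
    rw [← commutatorElement_eq_one_iff_commute, ← map_commutatorElement]
    exact (QuotientGroup.eq_one_iff _).mpr h
  have hgen : closure {f a, f b} = ⊤ := by
    rw [← Set.image_pair, ← MonoidHom.map_closure, htop,
      map_top_of_surjective f (QuotientGroup.mk'_surjective N)]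
  haveI : IsMulCommutative (closure ({f a, f b} : Set (G ⧸ N))) := isMulCommutative_closure (by
    rintro u (rfl | rfl) v (rfl | rfl)
    exacts [rfl, hab.symm.eq, hab.eq, rfl])
  rw [← QuotientGroup.eq_one_iff]
  have hx : f x ∈ closure ({f a, f b} : Set (G ⧸ N)) := hgen ▸ mem_top _
  have hy : f y ∈ closure ({f a, f b} : Set (G ⧸ N)) := hgen ▸ mem_top _
  show f ⁅x, y⁆ = 1
  rw [map_commutatorElement, commutatorElement_eq_one_iff_mul_comm]
  exact setLike_mul_comm hx hy

theorem sup_zpowers_eq_closure (a b : G) : zpowers a ⊔ zpowers b = closure {a, b} := by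
  rw [zpowers_eq_closure, zpowers_eq_closure, ← Subgroup.closure_union, Set.singleton_union]

/-- Odd `p`: in a non-cyclic group with a cyclic subgroup of index `p`, the `x^p = 1` elements
form a subgroup of order `p ^ 2`. -/
theorem cyclic_index_p_omega (hp2 : p ≠ 2) (hG : IsPGroup p G) (hnc : ¬ IsCyclic G) {C : Subgroup G}
    (hC : IsCyclic C) (hCi : C.index = p) :
    ∃ K : Subgroup G, (∀ x, x ∈ K ↔ x ^ p = 1) ∧ Nat.card K = p ^ 2 := by
  obtain ⟨a, haC⟩ := (C.isCyclic_iff_exists_zpowers_eq_top).mp hC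
  subst haC
  have hne : zpowers a ≠ ⊤ := fun h => hp.out.ne_one (by rw [← hCi, h, index_top])
  obtain ⟨b, -, hb⟩ := SetLike.exists_of_lt (lt_top_iff_ne_top.mpr hne)
  have hsup : zpowers a ⊔ zpowers b = ⊤ := by
    refine eq_sup_zpowers_of_card hG le_top ?_ (mem_top b) hb
    rw [card_top, ← card_mul_index (zpowers a), hCi, mul_comm]
  have hCn : (zpowers a).Normal := by
    refine isCoatom_normal hG ⟨hne, fun K hK => eq_of_le_of_card_le le_top ?_⟩
    rw [card_top, ← card_mul_index (zpowers a), hCi, mul_comm]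
    exact mul_card_le_of_lt hG hK
  obtain ⟨m, hm⟩ := IsPGroup.iff_orderOf.mp hG a
  have hbp : b ^ p ∈ zpowers a := hCi ▸ (zpowers a).pow_index_mem b
  have hba : b * a * b⁻¹ ∈ zpowers a := hCn.conj_mem a (mem_zpowers a) b
  obtain ⟨s, hs⟩ := mem_zpowers_iff.mp hbp
  obtain ⟨hc1, hca, hcb, -⟩ := odd_local hp.out hp2 hm hba (hs ▸ (Commute.refl a).zpow_left s)
  have hcc : ⁅b, a⁆ ∈ center G := by
    have : closure {a, b} ≤ centralizer ({⁅b, a⁆} : Set G) := by
      rw [closure_le]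
      rintro g (rfl | rfl) <;> rw [SetLike.mem_coe, mem_centralizer_singleton_iff]
      exacts [hca.eq, hcb.eq]
    rw [← sup_zpowers_eq_closure, hsup] at this
    exact mem_center_iff.mpr fun g => mem_centralizer_singleton_iff.mp (this (mem_top g))
  haveI := zpowers_normal_of_mem_center hcc
  have hcomm : ∀ x y : G, ⁅x, y⁆ ∈ zpowers ⁅b, a⁆ := commutator_mem_of_generators
    (sup_zpowers_eq_closure a b ▸ hsup) (mem_zpowers _)
  have hpow : ∀ x y : G, (x * y) ^ p = x ^ p * y ^ p := fun x y => by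
    have hz : ⁅y, x⁆ ∈ center G := zpowers_le.mpr hcc (hcomm y x)
    obtain ⟨j, hj⟩ := mem_zpowers_iff.mp (hcomm y x)
    refine mul_pow_prime_eq hp.out hp2 (commute_of_mem_center hz x) (commute_of_mem_center hz y) ?_
    rw [← hj, ← zpow_natCast, zpow_comm, zpow_natCast, hc1, one_zpow]
  set K : Subgroup G := (MonoidHom.mk' (fun x : G => x ^ p) hpow).ker
  have hK : ∀ x, x ∈ K ↔ x ^ p = 1 := fun x => MonoidHom.mem_ker
  refine ⟨K, hK, le_antisymm ?_ ?_⟩
  · refine (card_le_card_inf_mul_index K (zpowers a)).trans ?_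
    rw [hCi, sq]
    exact Nat.mul_le_mul (card_inf_cyclic_le inferInstance hp.out.pos fun x hx => (hK x).mp hx) le_rfl
  · have hna : a ∉ zpowers b := fun h => hnc ⟨⟨b, fun y => mem_zpowers_iff.mp (by
      have : zpowers b = ⊤ := by rw [← hsup, sup_eq_right.mpr (zpowers_le.mpr h)]
      rw [this]; exact mem_top y)⟩⟩
    obtain ⟨i, hi⟩ := (odd_local_order_p hp.out hp2 hm hba hbp).resolve_left hna
    have hlt : K ⊓ zpowers a < K := lt_of_le_of_ne inf_le_left fun h => hb (by
      have : b * a ^ i ∈ zpowers a := (h.ge ((hK _).mpr hi)).2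
      simpa using mul_mem this (inv_mem (zpow_mem (mem_zpowers a) i)))
    have hm0 : m ≠ 0 := fun h => hna (by
      have : a = 1 := orderOf_eq_one_iff.mp (by rw [hm, h, pow_zero])
      rw [this]; exact one_mem _)
    have hge : p ≤ Nat.card (K ⊓ zpowers a : Subgroup G) := by
      obtain ⟨j, rfl⟩ : ∃ j, m = j + 1 := ⟨m - 1, by omega⟩
      have ho : orderOf (a ^ p ^ j) = p := by
        rw [orderOf_pow' _ (pow_ne_zero _ hp.out.ne_zero), hm,
          Nat.gcd_eq_right (pow_dvd_pow p (Nat.le_succ j)), pow_succ,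
          Nat.mul_div_cancel_left _ (pow_pos hp.out.pos j)]
      calc p = Nat.card (zpowers (a ^ p ^ j)) := by rw [Nat.card_zpowers, ho]
        _ ≤ _ := Nat.le_of_dvd Nat.card_pos (card_dvd_of_le (zpowers_le.mpr (mem_inf.mpr
          ⟨(hK _).mpr (orderOf_dvd_iff_pow_eq_one.mp ho.dvd), pow_mem (mem_zpowers a) _⟩)))
    calc p ^ 2 = p * p := sq p
      _ ≤ p * Nat.card (K ⊓ zpowers a : Subgroup G) := Nat.mul_le_mul le_rfl hge
      _ ≤ Nat.card K := mul_card_le_of_lt hG hlt

theorem isMulCommutative_of_card_sq {K : Subgroup G} (hK : Nat.card K = p ^ 2) : IsMulCommutative K :=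
  IsPGroup.isMulCommutative_of_card_eq_prime_sq hK

/-- Odd `p`: every non-cyclic normal subgroup contains a normal elementary abelian subgroup of order `p^2`. -/
theorem exists_normal_elementary_sq (hp2 : p ≠ 2) (hG : IsPGroup p G) {S : Subgroup G} [S.Normal]
    (hS : ¬ IsCyclic S) :
    ∃ A : Subgroup G, A ≤ S ∧ A.Normal ∧ Cfsg.IsElementaryAbelian p A ∧ Nat.card A = p ^ 2 := by
  obtain ⟨T, hTS, hT⟩ := exists_minimal_le_of_wellFoundedLT
    (fun T : Subgroup G => T.Normal ∧ ¬ IsCyclic T) S ⟨inferInstance, hS⟩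
  obtain ⟨hTn, hTc⟩ := hT.prop
  haveI := hTn
  obtain ⟨n, hn⟩ := exists_subgroup_card_eq_pow hG T
  obtain ⟨m, rfl⟩ : ∃ m, n = m + 1 := ⟨n - 1, by
    rcases n with _ | n
    · exact absurd (by rw [eq_bot_of_card_eq T (by simpa using hn)]; infer_instance) hTc
    · omega⟩
  obtain ⟨M, hMn, hMT, hM⟩ := exists_normal_le_card hG hn m (Nat.le_succ m)
  have hMc : IsCyclic M := by
    by_contra h
    have : T ≤ M := hT.2 ⟨hMn, h⟩ hMT
    have := Nat.le_of_dvd Nat.card_pos (card_dvd_of_le this)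
    rw [hn, hM] at this
    exact absurd ((Nat.pow_le_pow_iff_right hp.out.one_lt).mp this) (by omega)
  haveI : IsCyclic (M.subgroupOf T) :=
    isCyclic_of_surjective (subgroupOfEquivOfLe hMT).symm (MulEquiv.surjective _)
  have hidx : (M.subgroupOf T).index = p := by
    have h1 := (M.subgroupOf T).card_mul_index
    rw [Nat.card_congr (subgroupOfEquivOfLe hMT).toEquiv, hM, hn, pow_succ] at h1
    exact Nat.eq_of_mul_eq_mul_left (pow_pos hp.out.pos _) h1
  obtain ⟨K, hK, hKcard⟩ :=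
    cyclic_index_p_omega hp2 (hG.to_subgroup T) hTc (C := M.subgroupOf T) inferInstance hidx
  have hmem : ∀ x : G, x ∈ K.map T.subtype ↔ x ∈ T ∧ x ^ p = 1 := by
    intro x
    constructor
    · rintro ⟨y, hy, rfl⟩; exact ⟨y.2, by simpa using congrArg Subtype.val ((hK y).mp hy)⟩
    · rintro ⟨hx, hxp⟩; exact ⟨⟨x, hx⟩, (hK _).mpr (Subtype.ext (by simpa using hxp)), rfl⟩
  haveI := isMulCommutative_of_card_sq hKcard
  refine ⟨K.map T.subtype, (map_subtype_le K).trans hTS, ⟨fun x hx g => ?_⟩,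
    ⟨inferInstance, fun x hx => ((hmem x).mp hx).2⟩, by rw [card_map_of_injective T.subtype_injective, hKcard]⟩
  rw [hmem] at hx ⊢
  exact ⟨hTn.conj_mem x hx.1 g, by rw [conj_pow, hx.2]; simp⟩

/-- An abelian p-subgroup with a unique subgroup of order `p` is cyclic. -/
theorem isCyclic_of_abelian_unique (hG : IsPGroup p G) {A : Subgroup G}
    (hA : ∀ x ∈ A, ∀ y ∈ A, x * y = y * x)
    (huniq : ∀ x ∈ A, ∀ y ∈ A, orderOf x = p → y ^ p = 1 → y ∈ zpowers x) :
    ∃ a ∈ A, zpowers a = A := by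
  haveI : Nonempty A := ⟨1⟩
  obtain ⟨⟨a, haA⟩, hmax⟩ := Finite.exists_max (fun a : A => orderOf (a : G))
  refine ⟨a, haA, le_antisymm (zpowers_le.mpr haA) ?_⟩
  by_contra hnot
  obtain ⟨x, hxA, hxa⟩ := SetLike.not_le_iff_exists.mp hnot
  obtain ⟨k, hk⟩ := hG x
  classical
  have hex : ∃ k, x ^ p ^ k ∈ zpowers a := ⟨k, hk ▸ one_mem _⟩
  obtain ⟨j, hj⟩ : ∃ j, Nat.find hex = j + 1 := ⟨Nat.find hex - 1, by
    have : Nat.find hex ≠ 0 := fun h => hxa (by
      have := Nat.find_spec hex; rwa [h, pow_zero, pow_one] at this)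
    omega⟩
  set y := x ^ p ^ j
  have hy : y ∉ zpowers a := Nat.find_min hex (by omega)
  have hyA : y ∈ A := pow_mem hxA _
  have hyp : y ^ p ∈ zpowers a := by
    rw [← pow_mul, ← pow_succ, ← hj]; exact Nat.find_spec hex
  obtain ⟨m, hm⟩ := IsPGroup.iff_orderOf.mp hG a
  obtain ⟨s, hs⟩ := mem_zpowers_iff.mp hyp
  have hm0 : m ≠ 0 := fun h => by
    have := hmax ⟨y, hyA⟩
    simp only [hm, h, pow_zero] at this
    have : y = 1 := orderOf_eq_one_iff.mp (le_antisymm this (orderOf_pos y))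
    exact hy (this ▸ one_mem _)
  obtain ⟨i, rfl⟩ : ∃ i, m = i + 1 := ⟨m - 1, by omega⟩
  have hdvd : (p : ℤ) ∣ s := by
    have h1 : y ^ p ^ (i + 1) = 1 := by
      obtain ⟨t, ht⟩ := IsPGroup.iff_orderOf.mp hG y
      have := hmax ⟨y, hyA⟩
      simp only [hm, ht] at this
      rw [← orderOf_dvd_iff_pow_eq_one, ht]
      exact pow_dvd_pow p ((Nat.pow_le_pow_iff_right hp.out.one_lt).mp this)
    rw [pow_succ', pow_mul, ← hs, ← zpow_natCast, ← zpow_mul, ← orderOf_dvd_iff_zpow_eq_one, hm,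
      pow_succ', mul_comm s] at h1
    push_cast at h1
    rw [mul_comm (p : ℤ)] at h1
    exact (mul_dvd_mul_iff_left (pow_ne_zero i (by exact_mod_cast hp.out.ne_zero))).mp h1
  obtain ⟨t, rfl⟩ := hdvd
  have ho : orderOf (a ^ p ^ i) = p := by
    rw [orderOf_pow' _ (pow_ne_zero _ hp.out.ne_zero), hm,
      Nat.gcd_eq_right (pow_dvd_pow p (Nat.le_succ i)), pow_succ,
      Nat.mul_div_cancel_left _ (pow_pos hp.out.pos i)]
  have h2 : (y * a ^ (-t)) ^ p = 1 := by
    rw [Commute.mul_pow (hA y hyA _ (zpow_mem haA _)), ← hs, ← zpow_natCast (a ^ (-t)), ← zpow_mul,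
      ← zpow_add]
    rw [show (p : ℤ) * t + -t * p = 0 by ring, zpow_zero]
  have h3 := huniq _ (pow_mem haA _) _ (mul_mem hyA (zpow_mem haA _)) ho h2
  have h4 := (zpowers_le.mpr (pow_mem (mem_zpowers a) _)) h3
  exact hy (by simpa using mul_mem h4 (zpow_mem (mem_zpowers a) t))

/-- A p-group with a unique subgroup of order `p` is cyclic or generalized quaternion. -/
theorem unique_order_p_cases (hG : IsPGroup p G)
    (huniq : ∀ x y : G, orderOf x = p → y ^ p = 1 → y ∈ zpowers x) :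
    IsCyclic G ∨ (p = 2 ∧ ∃ n : ℕ, Nonempty (G ≃* QuaternionGroup (2 ^ n))) := by
  obtain ⟨A, -, hAmax⟩ := Finite.exists_le_maximal (α := Subgroup G)
    (p := fun A => A.Normal ∧ ∀ x ∈ A, ∀ y ∈ A, x * y = y * x) (a := ⊥)
    ⟨inferInstance, fun x hx y hy => by rw [mem_bot.mp hx, mem_bot.mp hy]⟩
  obtain ⟨hAn, hAc⟩ := hAmax.prop
  haveI := hAn
  have hCA : centralizer (A : Set G) = A := centralizer_eq_of_maximal_normal_abelian hG hAc
    fun B hB hBc hAB => le_antisymm (hAmax.2 ⟨hB, hBc⟩ hAB) hAB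
  obtain ⟨a, -, rfl⟩ := isCyclic_of_abelian_unique hG hAc fun x _ y _ => huniq x y
  by_cases htop : zpowers a = ⊤
  · exact Or.inl ⟨⟨a, fun y => mem_zpowers_iff.mp (by rw [htop]; exact mem_top y)⟩⟩
  right
  have hcent : ∀ b : G, Commute b a → b ∈ zpowers a := fun b hb => by
    rw [← hCA, mem_centralizer_iff]
    intro h hh
    obtain ⟨k, rfl⟩ := mem_zpowers_iff.mp hh
    exact (hb.zpow_right k).eq.symm
  obtain ⟨m, hm⟩ := IsPGroup.iff_orderOf.mp hG a
  have hconj : ∀ b : G, b * a * b⁻¹ ∈ zpowers a := fun b => hAn.conj_mem a (mem_zpowers a) b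
  have hm0 : m ≠ 0 := fun h => by
    have h1 : a = 1 := orderOf_eq_one_iff.mp (by rw [hm, h, pow_zero])
    exact htop (eq_top_iff.mpr fun g _ => hcent g (h1 ▸ Commute.one_right g))
  -- elements of order dividing `p` modulo `A` lie in `A` when `p` is odd
  have hz : orderOf (a ^ p ^ (m - 1)) = p := by
    obtain ⟨i, rfl⟩ : ∃ i, m = i + 1 := ⟨m - 1, by omega⟩
    rw [Nat.add_sub_cancel, orderOf_pow' _ (pow_ne_zero _ hp.out.ne_zero), hm,
      Nat.gcd_eq_right (pow_dvd_pow p (Nat.le_succ i)), pow_succ,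
      Nat.mul_div_cancel_left _ (pow_pos hp.out.pos i)]
  have hlow : ∀ x : G, x ^ p = 1 → x ∈ zpowers a := fun x hx =>
    zpowers_le.mpr (pow_mem (mem_zpowers a) _) (huniq _ _ hz hx)
  obtain ⟨K, hKn, hAK, -, hKcard, -⟩ := exists_normal_between hG (lt_top_iff_ne_top.mpr htop)
  obtain ⟨b, hbK, hbA⟩ := SetLike.exists_of_lt (lt_of_le_of_ne hAK fun h => by
    rw [← h] at hKcard
    exact absurd hKcard (Nat.ne_of_lt (lt_mul_of_one_lt_left Nat.card_pos hp.out.one_lt)))
  have hbp : b ^ p ∈ zpowers a := by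
    have hidx : ((zpowers a).subgroupOf K).index = p := by
      have h1 := ((zpowers a).subgroupOf K).card_mul_index
      rw [Nat.card_congr (subgroupOfEquivOfLe hAK).toEquiv, hKcard, mul_comm p] at h1
      exact Nat.eq_of_mul_eq_mul_left Nat.card_pos h1
    have := ((zpowers a).subgroupOf K).pow_index_mem ⟨b, hbK⟩
    rwa [hidx] at this
  have hp2 : p = 2 := by
    by_contra hp2
    rcases odd_local_order_p hp.out hp2 hm (hconj b) hbp with h | ⟨i, hi⟩
    · obtain ⟨k, hk⟩ := mem_zpowers_iff.mp h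
      exact hbA (hcent b (hk ▸ (Commute.refl b).zpow_right k))
    · exact hbA (by simpa using mul_mem (hlow _ hi) (inv_mem (zpow_mem (mem_zpowers a) i)))
  subst hp2
  refine ⟨rfl, ?_⟩
  have key : ∀ c : G, c ∉ zpowers a → c ^ 2 ∈ zpowers a →
      2 ≤ m ∧ c * a * c⁻¹ = a⁻¹ ∧ c ^ 2 = a ^ (2 ^ (m - 1)) := by
    intro c hc hc2
    obtain ⟨hm2, i, h⟩ := two_local hm (hconj c) hc2 (fun h => hc (hcent c h))
    have hno : (c * a ^ i) ^ 2 ≠ 1 := fun h1 =>
      hc (by simpa using mul_mem (hlow _ h1) (inv_mem (zpow_mem (mem_zpowers a) i)))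
    rcases h with ⟨h1, -⟩ | ⟨h1, h2⟩ | ⟨-, h1, -⟩ | ⟨-, h1, -⟩
    · exact absurd h1 hno
    · have hcj : c * a * c⁻¹ = a⁻¹ := by rw [← h2]; group
      refine ⟨hm2, hcj, ?_⟩
      rw [← h1]
      have h3 : c * a ^ i * c⁻¹ = (a ^ i)⁻¹ := by rw [← conj_zpow, hcj, inv_zpow]
      calc c ^ 2 = (a ^ i)⁻¹ * c ^ 2 * a ^ i := by
            obtain ⟨k, hk⟩ := mem_zpowers_iff.mp hc2
            rw [← hk]; group
        _ = _ := by rw [← h3, sq, sq]; group
    · exact absurd h1 hno
    · exact absurd h1 hno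
  obtain ⟨hm2, hbj, hb2⟩ := key b hbA hbp
  have hcover : ∀ g : G, g ∈ zpowers a ∨ b⁻¹ * g ∈ zpowers a := by
    intro g
    by_contra hg
    push Not at hg
    obtain ⟨hgA, hgb⟩ := hg
    classical
    obtain ⟨k, hk⟩ := hG g
    have hex : ∃ k, g ^ 2 ^ k ∈ zpowers a := ⟨k, hk ▸ one_mem _⟩
    obtain ⟨j, hj⟩ : ∃ j, Nat.find hex = j + 1 := ⟨Nat.find hex - 1, by
      have : Nat.find hex ≠ 0 := fun h => hgA (by
        have := Nat.find_spec hex; rwa [h, pow_zero, pow_one] at this)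
      omega⟩
    obtain ⟨-, hgj, -⟩ := key _ (Nat.find_min hex (m := j) (by omega))
      (by rw [← pow_mul, ← pow_succ, ← hj]; exact Nat.find_spec hex)
    rcases j with _ | j
    · rw [pow_zero, pow_one] at hgj
      refine hgb (hcent _ ?_)
      show b⁻¹ * g * a = a * (b⁻¹ * g)
      calc b⁻¹ * g * a = b⁻¹ * (g * a * g⁻¹) * g := by group
        _ = b⁻¹ * (b * a * b⁻¹) * g := by rw [hgj, hbj]
        _ = _ := by group
    · obtain ⟨r, hr⟩ := mem_zpowers_iff.mp (hconj (g ^ 2 ^ j))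
      have h2 := conj_pow_of_conj_eq hr.symm 2
      rw [← pow_mul, ← pow_succ, hgj, ← zpow_neg_one, zpow_eq_zpow_iff_dvd hm] at h2
      have h4 : (4 : ℤ) ∣ ((2 ^ m : ℕ) : ℤ) := by
        obtain ⟨i, rfl⟩ : ∃ i, m = i + 2 := ⟨m - 2, by omega⟩
        exact ⟨2 ^ i, by push_cast; ring⟩
      obtain ⟨u, hu⟩ := h4.trans h2
      rcases Int.even_or_odd r with ⟨v, rfl⟩ | ⟨v, rfl⟩ <;> ring_nf at hu <;> omega
  have hidx : (zpowers a).index = 2 := by
    rw [index_eq_two_iff]
    refine ⟨b⁻¹, fun g => ?_⟩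
    rw [xor_iff_or_and_not_and]
    have hb' : b⁻¹ ∉ zpowers a := fun h => hbA (by simpa using inv_mem h)
    refine ⟨?_, fun h => hb' (by simpa using mul_mem (inv_mem h.2) h.1)⟩
    rcases hcover g⁻¹ with h | h
    · exact Or.inr (by simpa using inv_mem h)
    · refine Or.inl ?_
      have := inv_mem h
      rw [mul_inv_rev, inv_inv, inv_inv] at this
      have hb2' : b * b ∈ zpowers a := by rw [← sq]; exact hbp
      simpa [mul_assoc] using mul_mem this (inv_mem hb2')
  obtain ⟨i, rfl⟩ : ∃ i, m = i + 2 := ⟨m - 2, by omega⟩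
  haveI : NeZero (2 ^ (i + 1)) := ⟨by positivity⟩
  obtain ⟨e⟩ := quaternionEquivOfGen (N := 2 ^ (i + 1)) (a := a) (b := b)
    (by rw [hm]; ring) hb2 hbj hbA (by rw [← card_mul_index (zpowers a), Nat.card_zpowers, hm, hidx]; ring)
  exact ⟨i + 1, ⟨e.symm⟩⟩

/-- In a cyclic subgroup the elements of order dividing `p` lie in the subgroup of any element of order `p`. -/
theorem mem_zpowers_of_isCyclic {C : Subgroup G} (hC : IsCyclic C) {x y : G} (hx : x ∈ C) (hy : y ∈ C)
    (hxo : orderOf x = p) (hyp : y ^ p = 1) : y ∈ zpowers x := by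
  have hcomm : ∀ u ∈ C, ∀ v ∈ C, Commute u v := fun u hu v hv =>
    congrArg Subtype.val ((IsCyclic.isMulCommutative (α := C)).is_comm.comm ⟨u, hu⟩ ⟨v, hv⟩)
  have hle : zpowers x ⊔ zpowers y ≤ C := sup_le (zpowers_le.mpr hx) (zpowers_le.mpr hy)
  have hpow : ∀ u ∈ zpowers x ⊔ zpowers y, u ^ p = 1 := by
    intro u hu
    rw [sup_zpowers_eq_closure] at hu hle
    induction hu using closure_induction with
    | mem u hu =>
      rcases hu with rfl | rfl
      · exact orderOf_dvd_iff_pow_eq_one.mp hxo.dvd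
      · exact hyp
    | one => simp
    | mul u v hu hv ihu ihv => rw [(hcomm u (hle hu) v (hle hv)).mul_pow, ihu, ihv, one_mul]
    | inv u _ ihu => rw [inv_pow, ihu, inv_one]
  have hcard := card_inf_cyclic_le (E := zpowers x ⊔ zpowers y) hC hp.out.pos hpow
  rw [inf_eq_left.mpr hle] at hcard
  have he : zpowers x = zpowers x ⊔ zpowers y :=
    eq_of_le_of_card_le le_sup_left (by rw [Nat.card_zpowers, hxo]; exact hcard)
  rw [he]
  exact mem_sup_right (mem_zpowers y)

end Cfsg.Agent.PGroup
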