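import Cfsg.Agent.Lib.PGroup.Power

/-!
# Basic structure of finite p-groups

* maximal subgroups: `isCoatom_normal`, `isCoatom_index`, `commutator_le_of_isCoatom`, `pow_mem_of_isCoatom`.
* Frattini subgroup: `commutator_le_frattini`, `pow_mem_frattini`, `frattini_le_of_quotient_elementary`,
  `frattini_eq`, `frattini_map`, `isCyclic_of_sup_frattini`, `isCyclic_of_quotient_abelianization`.
* normal subgroups: `inf_center_ne_bot`, `exists_central_order_p`, `le_center_of_card_eq`,
  `exists_normal_between`, `exists_normal_le_card`, `commutator_lt_of_ne_bot`, `exists_mem_normalizer_not_mem`.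
* orders: `card_le_pow_iff`, `card_eq_pow_of_le`.
-/

set_option linter.style.haveILetI false
set_option linter.unusedSectionVars false

open Subgroup
open scoped commutatorElement

namespace Cfsg.Agent.PGroup

variable {G : Type*} [Group G] {p : ℕ}

/-- Membership form of normality of a subgroup. -/
theorem normal_iff_conj_mem {H : Subgroup G} : H.Normal ↔ ∀ n ∈ H, ∀ g : G, g * n * g⁻¹ ∈ H :=
  ⟨fun h => h.conj_mem, fun h => ⟨h⟩⟩

variable [Finite G] [hp : Fact p.Prime]

theorem exists_card_eq_pow (hG : IsPGroup p G) : ∃ n, Nat.card G = p ^ n := IsPGroup.iff_card.mp hG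

theorem exists_subgroup_card_eq_pow (hG : IsPGroup p G) (H : Subgroup G) :
    ∃ n, Nat.card H = p ^ n := IsPGroup.iff_card.mp (hG.to_subgroup H)

theorem card_le_of_index_le {H : Subgroup G} {k m : ℕ} (hH : Nat.card H ≤ k) (hi : H.index ≤ m) :
    Nat.card G ≤ k * m := by
  rw [← H.card_mul_index]; exact Nat.mul_le_mul hH hi

theorem eq_of_le_of_card_le {H K : Subgroup G} (h : H ≤ K) (hc : Nat.card K ≤ Nat.card H) : H = K :=
  SetLike.coe_injective <| Set.eq_of_subset_of_ncard_le h (by simpa [← Nat.card_coe_set_eq] using hc)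
    (Set.toFinite _)

theorem mul_card_le_of_lt (hG : IsPGroup p G) {H K : Subgroup G} (h : H < K) :
    p * Nat.card H ≤ Nat.card K := by
  obtain ⟨a, ha⟩ := exists_subgroup_card_eq_pow hG H
  obtain ⟨b, hb⟩ := exists_subgroup_card_eq_pow hG K
  have hle : Nat.card H ≤ Nat.card K := Nat.le_of_dvd Nat.card_pos (card_dvd_of_le h.le)
  have hne : Nat.card H ≠ Nat.card K := fun he => h.ne (eq_of_le_of_card_le h.le he.ge)
  have hab : a < b := (Nat.pow_lt_pow_iff_right hp.out.one_lt).mp (by omega)
  rw [ha, hb, ← pow_succ']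
  exact Nat.pow_le_pow_right hp.out.pos hab

theorem card_le_pow_of_lt_succ (hG : IsPGroup p G) {H : Subgroup G} {k : ℕ}
    (h : Nat.card H < p ^ (k + 1)) : Nat.card H ≤ p ^ k := by
  obtain ⟨a, ha⟩ := exists_subgroup_card_eq_pow hG H
  rw [ha] at h ⊢
  exact Nat.pow_le_pow_right hp.out.pos
    (Nat.lt_succ_iff.mp ((Nat.pow_lt_pow_iff_right hp.out.one_lt).mp h))

/-- In a finite p-group a proper subgroup is properly contained in its normalizer. -/
theorem exists_mem_normalizer_not_mem (hG : IsPGroup p G) {H : Subgroup G} (hH : H ≠ ⊤) :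
    ∃ g ∈ normalizer (H : Set G), g ∉ H := by
  haveI := hG.isNilpotent
  exact SetLike.exists_of_lt
    (Group.normalizerCondition_of_isNilpotent (G := G) H (lt_top_iff_ne_top.mpr hH))

theorem isCoatom_normal (hG : IsPGroup p G) {M : Subgroup G} (hM : IsCoatom M) : M.Normal := by
  haveI := hG.isNilpotent
  exact NormalizerCondition.normal_of_coatom M Group.normalizerCondition_of_isNilpotent hM

theorem isCoatom_index (hG : IsPGroup p G) {M : Subgroup G} (hM : IsCoatom M) : M.index = p := by
  obtain ⟨n, hn⟩ := exists_card_eq_pow hG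
  obtain ⟨k, hk⟩ := exists_subgroup_card_eq_pow hG M
  have hkn : k < n := by
    by_contra h
    exact hM.1 (eq_of_le_of_card_le le_top
      (by rw [card_top, hn, hk]; exact Nat.pow_le_pow_right hp.out.pos (not_lt.mp h)))
  obtain ⟨K, hK, hMK⟩ := Sylow.exists_subgroup_card_pow_succ (G := G)
    (hn ▸ pow_dvd_pow p hkn) hk
  have hKtop : K = ⊤ := hM.2 K (lt_of_le_of_ne hMK fun h => by
    rw [h, hK] at hk
    exact absurd (Nat.pow_right_injective hp.out.two_le hk) (by omega))
  have h := M.card_mul_index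
  rw [hk, ← card_top (G := G), ← hKtop, hK, pow_succ] at h
  exact Nat.eq_of_mul_eq_mul_left (pow_pos hp.out.pos _) h

theorem commutator_le_of_index_eq {M : Subgroup G} [M.Normal] (hM : M.index = p) :
    _root_.commutator G ≤ M := by
  haveI : IsCyclic (G ⧸ M) := isCyclic_of_prime_card (p := p) (by rw [← M.index_eq_card, hM])
  exact Subgroup.Normal.quotient_commutative_iff_commutator_le.mp inferInstance

theorem commutator_le_of_isCoatom (hG : IsPGroup p G) {M : Subgroup G} (hM : IsCoatom M) :
    _root_.commutator G ≤ M := by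
  haveI := isCoatom_normal hG hM
  exact commutator_le_of_index_eq (isCoatom_index hG hM)

theorem pow_mem_of_isCoatom (hG : IsPGroup p G) {M : Subgroup G} (hM : IsCoatom M) (x : G) :
    x ^ p ∈ M := by
  haveI := isCoatom_normal hG hM
  exact isCoatom_index hG hM ▸ M.pow_index_mem x

theorem le_frattini {K : Subgroup G} (h : ∀ M : Subgroup G, IsCoatom M → K ≤ M) : K ≤ frattini G :=
  le_iInf₂ fun M hM => h M hM

theorem commutator_le_frattini (hG : IsPGroup p G) : _root_.commutator G ≤ frattini G :=
  le_frattini fun _ hM => commutator_le_of_isCoatom hG hM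

theorem pow_mem_frattini (hG : IsPGroup p G) (x : G) : x ^ p ∈ frattini G :=
  (zpowers_le.mp (le_frattini fun _ hM => zpowers_le.mpr (pow_mem_of_isCoatom hG hM x)))

theorem commutatorElement_mem_frattini (hG : IsPGroup p G) (x y : G) : ⁅x, y⁆ ∈ frattini G :=
  commutator_le_frattini hG (commutator_mem_commutator (mem_top x) (mem_top y))

/-- In an elementary abelian group every nontrivial element avoids some maximal subgroup. -/
theorem exists_isCoatom_not_mem (hcomm : ∀ a b : G, a * b = b * a) (hexp : ∀ a : G, a ^ p = 1)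
    {x : G} (hx : x ≠ 1) : ∃ M : Subgroup G, IsCoatom M ∧ x ∉ M := by
  obtain ⟨M, hxM, hmax⟩ := Finite.exists_le_maximal (α := Subgroup G) (p := fun M => x ∉ M)
    (a := ⊥) (by simpa using hx)
  have hxM' : x ∉ M := hmax.prop
  haveI : M.Normal := ⟨fun n hn g => by rwa [hcomm g n, mul_inv_cancel_right]⟩
  have htop : M ⊔ zpowers x = ⊤ := by
    rw [eq_top_iff']
    intro y
    by_contra hy
    have hyM : y ∉ M := fun h => hy (mem_sup_left h)
    have hxy : x ∈ M ⊔ zpowers y := by
      by_contra h
      exact hyM (hmax.2 h le_sup_left (mem_sup_right (mem_zpowers y)))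
    haveI : (zpowers y).Normal := ⟨fun n hn g => by rwa [hcomm g n, mul_inv_cancel_right]⟩
    obtain ⟨m, hm, u, hu, hmu⟩ := mem_sup_of_normal_right.mp hxy
    obtain ⟨k, rfl⟩ := mem_zpowers_iff.mp hu
    have hk : ¬ (p : ℤ) ∣ k := by
      rintro ⟨l, rfl⟩
      rw [zpow_mul, zpow_natCast, hexp, one_zpow, mul_one] at hmu
      exact hxM' (hmu ▸ hm)
    obtain ⟨a, b, hab⟩ : IsCoprime (p : ℤ) k :=
      (Nat.prime_iff_prime_int.mp hp.out).coprime_iff_not_dvd.mpr hk
    apply hy
    have hy' : y = (y ^ k) ^ b := by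
      rw [← zpow_mul]
      conv_lhs => rw [← zpow_one y, ← hab, zpow_add, zpow_mul', zpow_natCast, hexp, one_zpow,
        one_mul, mul_comm b k]
    rw [hy']
    refine zpow_mem ?_ b
    have : y ^ k = m⁻¹ * x := by rw [← hmu]; group
    rw [this]
    exact mul_mem (inv_mem (mem_sup_left hm)) (mem_sup_right (mem_zpowers x))
  refine ⟨M, ⟨fun h => hxM' (h ▸ mem_top x), fun K hK => ?_⟩, hxM'⟩
  have hxK : x ∈ K := by
    by_contra h
    exact hK.not_ge (hmax.2 h hK.le)
  exact top_le_iff.mp (htop ▸ sup_le hK.le (zpowers_le.mpr hxK))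

/-- A normal subgroup with elementary abelian quotient contains the Frattini subgroup. -/
theorem frattini_le_of_quotient_elementary {N : Subgroup G} [N.Normal]
    (hc : _root_.commutator G ≤ N) (hpow : ∀ x : G, x ^ p ∈ N) : frattini G ≤ N := by
  intro x hx
  by_contra hxN
  obtain ⟨M, hM, hxM⟩ := exists_isCoatom_not_mem (G := G ⧸ N) (p := p)
    (fun a b => (Subgroup.Normal.quotient_commutative_iff_commutator_le.mpr hc).is_comm.comm a b)
    (fun a => QuotientGroup.induction_on a fun x => by
      rw [← QuotientGroup.mk_pow]; exact (QuotientGroup.eq_one_iff _).mpr (hpow x))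
    (x := (x : G ⧸ N)) (fun h => hxN ((QuotientGroup.eq_one_iff _).mp h))
  exact hxM (frattini_le_coatom hM
    (frattini_le_comap_frattini_of_surjective (QuotientGroup.mk'_surjective N) hx))

theorem frattini_eq (hG : IsPGroup p G) :
    frattini G = _root_.commutator G ⊔ closure (Set.range fun x : G => x ^ p) := by
  set N := _root_.commutator G ⊔ closure (Set.range fun x : G => x ^ p) with hN
  haveI : N.Normal := Subgroup.Normal.of_commutator_le (G := G) (H := N) le_sup_left
  refine le_antisymm (frattini_le_of_quotient_elementary le_sup_left fun x =>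
    mem_sup_right (subset_closure ⟨x, rfl⟩)) (sup_le (commutator_le_frattini hG) ?_)
  rw [closure_le]
  rintro _ ⟨x, rfl⟩
  exact pow_mem_frattini hG x

theorem frattini_map {H : Type*} [Group H] (hG : IsPGroup p G) {f : G →* H}
    (hf : Function.Surjective f) : (frattini G).map f = frattini H := by
  haveI : Finite H := Finite.of_surjective f hf
  refine le_antisymm (map_le_iff_le_comap.mpr (frattini_le_comap_frattini_of_surjective hf)) ?_
  haveI : ((frattini G).map f).Normal := Subgroup.Normal.map inferInstance f hf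
  refine frattini_le_of_quotient_elementary (p := p) ?_ ?_
  · rw [commutator_def, ← map_top_of_surjective f hf, ← map_commutator]
    exact map_mono (commutator_le_frattini hG)
  · intro x
    obtain ⟨x, rfl⟩ := hf x
    exact ⟨x ^ p, pow_mem_frattini hG x, map_pow f x p⟩

theorem eq_top_of_sup_frattini {K : Subgroup G} (h : K ⊔ frattini G = ⊤) : K = ⊤ :=
  frattini_nongenerating h

theorem isCyclic_of_sup_frattini {x : G} (h : zpowers x ⊔ frattini G = ⊤) : IsCyclic G :=
  ⟨⟨x, fun y => by
    have := eq_top_of_sup_frattini h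
    exact mem_zpowers_iff.mp (by rw [this]; exact mem_top y)⟩⟩

theorem isCyclic_of_abelianization (hG : IsPGroup p G)
    (h : IsCyclic (G ⧸ _root_.commutator G)) : IsCyclic G := by
  obtain ⟨g, hg⟩ := h.exists_generator
  obtain ⟨x, rfl⟩ := QuotientGroup.mk'_surjective _ g
  refine isCyclic_of_sup_frattini (x := x) (eq_top_iff.mpr fun y _ => ?_)
  obtain ⟨k, hk⟩ := mem_zpowers_iff.mp (hg (y : G ⧸ _root_.commutator G))
  rw [QuotientGroup.mk'_apply, ← QuotientGroup.mk_zpow, QuotientGroup.eq] at hk
  rw [show y = x ^ k * ((x ^ k)⁻¹ * y) by group]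
  exact mul_mem (mem_sup_left (zpow_mem (mem_zpowers x) k))
    (mem_sup_right (commutator_le_frattini hG hk))

/-- A nontrivial normal subgroup meets the centre nontrivially. -/
theorem inf_center_ne_bot (hG : IsPGroup p G) {N : Subgroup G} [hN : N.Normal] (h : N ≠ ⊥) :
    N ⊓ center G ≠ ⊥ := by
  obtain ⟨n, hn⟩ := exists_subgroup_card_eq_pow hG N
  have hdvd : p ∣ Nat.card N := by
    rw [hn]
    refine dvd_pow_self p ?_
    rintro rfl
    exact h (eq_bot_of_card_eq N (by simpa using hn))
  have hconj : IsPGroup p (ConjAct G) := hG.of_equiv ConjAct.toConjAct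
  obtain ⟨b, hb, hne⟩ := hconj.exists_fixed_point_of_prime_dvd_card_of_fixed_point N hdvd
    (a := 1) (fun g => Subtype.ext (by simp [ConjAct.Subgroup.val_conj_smul]))
  intro hbot
  have hbc : (b : G) ∈ center G := mem_center_iff.mpr fun g => by
    have := congrArg Subtype.val (hb (ConjAct.toConjAct g))
    simp [ConjAct.Subgroup.val_conj_smul, ConjAct.toConjAct_smul] at this
    exact mul_inv_eq_iff_eq_mul.mp this
  have : (b : G) ∈ N ⊓ center G := ⟨b.2, hbc⟩
  rw [hbot, mem_bot] at this
  exact hne (Subtype.ext this.symm)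

theorem exists_central_order_p (hG : IsPGroup p G) {N : Subgroup G} [N.Normal] (h : N ≠ ⊥) :
    ∃ z ∈ N, z ∈ center G ∧ orderOf z = p := by
  have hne := inf_center_ne_bot hG h
  obtain ⟨n, hn⟩ := exists_subgroup_card_eq_pow hG (N ⊓ center G)
  have hdvd : p ∣ Nat.card (N ⊓ center G : Subgroup G) := by
    rw [hn]
    refine dvd_pow_self p ?_
    rintro rfl
    exact hne (eq_bot_of_card_eq _ (by simpa using hn))
  obtain ⟨z, hz⟩ := exists_prime_orderOf_dvd_card' p hdvd
  exact ⟨z, z.2.1, z.2.2, by rw [← hz, Subgroup.orderOf_coe]⟩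

theorem zpowers_normal_of_mem_center {z : G} (hz : z ∈ center G) : (zpowers z).Normal :=
  ⟨fun n hn g => by
    have : n ∈ center G := zpowers_le.mpr hz hn
    rwa [mem_center_iff.mp this g, mul_inv_cancel_right]⟩

theorem exists_normal_card_eq_prime (hG : IsPGroup p G) {N : Subgroup G} [N.Normal] (h : N ≠ ⊥) :
    ∃ Z : Subgroup G, Z.Normal ∧ Z ≤ N ∧ Z ≤ center G ∧ Nat.card Z = p := by
  obtain ⟨z, hzN, hzc, hz⟩ := exists_central_order_p hG h
  exact ⟨zpowers z, zpowers_normal_of_mem_center hzc, zpowers_le.mpr hzN, zpowers_le.mpr hzc,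
    by rw [Nat.card_zpowers, hz]⟩

theorem le_center_of_card_eq (hG : IsPGroup p G) {N : Subgroup G} [N.Normal]
    (h : Nat.card N = p) : N ≤ center G := by
  have hne : N ≠ ⊥ := fun h' => hp.out.ne_one (by rw [← h, h', card_bot])
  obtain ⟨Z, _, hZN, hZc, hZ⟩ := exists_normal_card_eq_prime hG hne
  exact eq_of_le_of_card_le hZN (h.trans hZ.symm).le ▸ hZc

/-- Between normal subgroups `M < N` there is a normal subgroup of order `p * |M|`. -/
theorem exists_normal_between (hG : IsPGroup p G) {M N : Subgroup G} [M.Normal] [N.Normal]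
    (h : M < N) : ∃ K : Subgroup G, K.Normal ∧ M ≤ K ∧ K ≤ N ∧ Nat.card K = p * Nat.card M ∧
      ⁅K, (⊤ : Subgroup G)⁆ ≤ M := by
  set f := QuotientGroup.mk' M
  haveI : (N.map f).Normal := Subgroup.Normal.map inferInstance f (QuotientGroup.mk'_surjective M)
  have hne : N.map f ≠ ⊥ := by
    rw [Ne, Subgroup.map_eq_bot_iff, QuotientGroup.ker_mk']
    exact h.not_ge
  obtain ⟨Z, hZn, hZN, hZc, hZ⟩ := exists_normal_card_eq_prime (hG.to_quotient M) hne
  refine ⟨Z.comap f, hZn.comap f, ?_, ?_, ?_, ?_⟩
  · exact le_trans (le_of_eq (QuotientGroup.ker_mk' M).symm) (f.ker_le_comap Z)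
  · refine (comap_mono hZN).trans ?_
    rw [QuotientGroup.comap_map_mk', sup_eq_right.mpr h.le]
  · have h2 := (Z.comap f).card_mul_index
    rw [index_comap_of_surjective _ (QuotientGroup.mk'_surjective M)] at h2
    have h4 : Nat.card Z * Z.index = Nat.card (G ⧸ M) := Z.card_mul_index
    have h5 : Nat.card G = Nat.card (G ⧸ M) * Nat.card M := card_eq_card_quotient_mul_card_subgroup M
    rw [h5, ← h4, hZ] at h2
    refine Nat.eq_of_mul_eq_mul_right (Nat.pos_of_ne_zero index_ne_zero_of_finite) (h2.trans ?_)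
    ring
  · rw [commutator_le]
    intro k hk g _
    rw [← QuotientGroup.eq_one_iff]
    have : f ⁅k, g⁆ = 1 := by
      rw [map_commutatorElement, commutatorElement_eq_one_iff_mul_comm]
      exact (mem_center_iff.mp (hZc hk) (f g)).symm
    exact this

theorem exists_normal_le_card (hG : IsPGroup p G) {N : Subgroup G} [N.Normal] {a : ℕ}
    (hN : Nat.card N = p ^ a) : ∀ k ≤ a, ∃ K : Subgroup G, K.Normal ∧ K ≤ N ∧ Nat.card K = p ^ k := by
  intro k
  induction k with
  | zero => exact fun _ => ⟨⊥, inferInstance, bot_le, by simp⟩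
  | succ k ih =>
    intro hk
    obtain ⟨K, hKn, hKN, hK⟩ := ih (by omega)
    have hlt : K < N := lt_of_le_of_ne hKN fun h => by
      rw [h, hN] at hK
      exact absurd (Nat.pow_right_injective hp.out.two_le hK) (by omega)
    obtain ⟨L, hLn, _, hLN, hL, _⟩ := exists_normal_between hG hlt
    exact ⟨L, hLn, hLN, by rw [hL, hK, pow_succ']⟩

/-- `[N, G] < N` for a nontrivial normal subgroup. -/
theorem commutator_lt_of_ne_bot (hG : IsPGroup p G) {N : Subgroup G} [N.Normal] (h : N ≠ ⊥) :
    ⁅N, (⊤ : Subgroup G)⁆ < N := by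
  refine lt_of_le_of_ne (commutator_le_left N ⊤) fun he => h ?_
  haveI := hG.isNilpotent
  obtain ⟨n, hn⟩ := Subgroup.nilpotent_iff_lowerCentralSeries.mp (inferInstance : Group.IsNilpotent G)
  have key : ∀ k, N ≤ (⊤ : Subgroup G).lowerCentralSeries k := by
    intro k
    induction k with
    | zero => simp
    | succ k ih =>
      rw [Subgroup.lowerCentralSeries_succ]
      exact he ▸ commutator_mono ih le_rfl
  exact le_bot_iff.mp (hn ▸ key n)

end Cfsg.Agent.PGroup
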