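import Cfsg.Agent.Lib.PGroup.Omega

/-!
# Critical subgroups and coprime automorphisms of p-groups

* `eq_one_of_pow_eq_one_coprime`, `fixed_of_displacement_fixed`: a coprime automorphism with fixed displacement is trivial there.
* `Critical`, `exists_critical`: existence of critical subgroups.
* `aut_eq_one_of_fix_selfCentralizing`, `aut_eq_one_of_fix_omega`, `aut_eq_one_of_fix_omega_critical`: Thompson's and Blackburn-type detection of p'-automorphisms.
* `fixed_of_fix_order_p_abelian`: the abelian case, valid for all primes.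
-/

set_option linter.style.haveILetI false
set_option linter.unusedSectionVars false

open Subgroup
open scoped commutatorElement

namespace Cfsg.Agent.PGroup

variable {G : Type*} [Group G] {p : ℕ} [hp : Fact p.Prime]

theorem eq_one_of_pow_eq_one_coprime (hG : IsPGroup p G) {x : G} {n : ℕ} (hn : Nat.Coprime n p)
    (hx : x ^ n = 1) : x = 1 := by
  obtain ⟨k, hk⟩ := IsPGroup.iff_orderOf.mp hG x
  have h := Nat.eq_one_of_dvd_coprimes (Nat.Coprime.pow_left k hn.symm) dvd_rfl
    (hk ▸ orderOf_dvd_of_pow_eq_one hx)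
  exact orderOf_eq_one_iff.mp (hk.trans h)

theorem aut_pow_apply {a : MulAut G} {x u : G} (hx : a x = x * u) (hu : a u = u) (k : ℕ) :
    (a ^ k) x = x * u ^ k := by
  induction k with
  | zero => simp
  | succ k ih =>
    rw [pow_succ', MulAut.mul_apply, ih, map_mul, map_pow, hx, hu, mul_assoc, ← pow_succ']

/-- A coprime automorphism that fixes the displacement `x⁻¹ * a x` fixes `x`. -/
theorem fixed_of_displacement_fixed (hG : IsPGroup p G) {a : MulAut G}
    (ha : Nat.Coprime (orderOf a) p) {x : G} (hu : a (x⁻¹ * a x) = x⁻¹ * a x) : a x = x := by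
  have hx : a x = x * (x⁻¹ * a x) := (mul_inv_cancel_left _ _).symm
  have h := aut_pow_apply hx hu (orderOf a)
  rw [pow_orderOf_eq_one, MulAut.one_apply] at h
  have := eq_one_of_pow_eq_one_coprime hG ha (left_eq_mul.mp h)
  rw [hx, this, mul_one]

/-- A coprime automorphism fixing all `x` with `x^p = 1` fixes every element of each invariant
abelian subgroup. -/
theorem fixed_of_fix_order_p_abelian (hG : IsPGroup p G) {a : MulAut G}
    (ha : Nat.Coprime (orderOf a) p) {A : Subgroup G} (hA : ∀ x ∈ A, ∀ y ∈ A, x * y = y * x)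
    (hAinv : ∀ x ∈ A, a x ∈ A) (hfix : ∀ x ∈ A, x ^ p = 1 → a x = x) : ∀ x ∈ A, a x = x := by
  have key : ∀ k : ℕ, ∀ x ∈ A, x ^ p ^ k = 1 → a x = x := by
    intro k
    induction k with
    | zero => intro x _ hx; rw [pow_zero, pow_one] at hx; rw [hx, map_one]
    | succ k ih =>
      intro x hxA hx
      refine fixed_of_displacement_fixed hG ha (hfix _ (mul_mem (inv_mem hxA) (hAinv x hxA)) ?_)
      have h1 : a (x ^ p) = x ^ p := ih _ (pow_mem hxA p) (by rw [← pow_mul, ← pow_succ']; exact hx)
      rw [(Commute.mul_pow (hA _ (inv_mem hxA) _ (hAinv x hxA)) p), inv_pow, ← map_pow, h1,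
        inv_mul_cancel]
  intro x hx
  obtain ⟨k, hk⟩ := hG x
  exact key k x hx hk

/-- `H` is a critical subgroup: characteristic, `Φ(H)` and `[H, G]` central in `H`, self-centralizing. -/
structure Critical (p : ℕ) (H : Subgroup G) : Prop where
  char : H.Characteristic
  comm_mem : ∀ h ∈ H, ∀ g : G, ⁅h, g⁆ ∈ H ⊓ centralizer (H : Set G)
  pow_mem : ∀ h ∈ H, h ^ p ∈ centralizer (H : Set G)
  self_centralizing : centralizer (H : Set G) ≤ H

theorem aut_mem_iff {H : Subgroup G} [hH : H.Characteristic] (a : MulAut G) (x : G) :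
    a x ∈ H ↔ x ∈ H := by
  conv_rhs => rw [← hH.fixed a]
  rfl

/-- Characteristic subgroups are detected by invariance under all automorphisms. -/
theorem characteristic_of_forall_mem {H : Subgroup G} (h : ∀ (φ : MulAut G), ∀ x ∈ H, φ x ∈ H) :
    H.Characteristic :=
  characteristic_iff_map_le.mpr fun φ => map_le_iff_le_comap.mpr fun x hx => h φ x hx

instance centralizer_characteristic (H : Subgroup G) [H.Characteristic] :
    (centralizer (H : Set G)).Characteristic :=
  characteristic_of_forall_mem fun φ x hx => mem_centralizer_iff.mpr fun h hh => by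
    have := mem_centralizer_iff.mp hx (φ.symm h) ((aut_mem_iff φ.symm h).mpr hh)
    simpa using congrArg φ this

theorem Critical.frattini_le [Finite G] {H : Subgroup G} (hG : IsPGroup p G) (h : Critical p H) :
    (frattini H).map H.subtype ≤ centralizer (H : Set G) := by
  set N : Subgroup H := (centralizer (H : Set G)).comap H.subtype
  haveI : N.Normal := ⟨fun n hn g => by
    have e : g * n * g⁻¹ = n := by
      rw [mul_inv_eq_iff_eq_mul]
      exact Subtype.ext (mem_centralizer_iff.mp hn g g.2)
    rwa [e]⟩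
  refine map_le_iff_le_comap.mpr (frattini_le_of_quotient_elementary (p := p) ?_ fun x => ?_)
  · rw [commutator_def, commutator_le]
    intro x _ y _
    exact (h.comm_mem x x.2 y).2
  · exact h.pow_mem x x.2

/-- Thompson: every finite p-group has a critical subgroup. -/
theorem exists_critical [Finite G] (hG : IsPGroup p G) : ∃ H : Subgroup G, Critical p H := by
  obtain ⟨D, -, hmax⟩ := Finite.exists_le_maximal (α := Subgroup G)
    (p := fun D => D.Characteristic ∧ ∀ x ∈ D, ∀ y ∈ D, x * y = y * x) (a := ⊥)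
    ⟨inferInstance, fun x hx y hy => by rw [mem_bot.mp hx, mem_bot.mp hy]⟩
  obtain ⟨hDc, hDab⟩ := hmax.prop
  haveI := hDc
  have hDC : D ≤ centralizer (D : Set G) := fun x hx =>
    mem_centralizer_iff.mpr fun y hy => hDab y hy x hx
  set C := centralizer (D : Set G) with hC
  -- the elements of `C` of order dividing `p` modulo `D` that are central modulo `D`
  let H : Subgroup G := closure {h : G | h ∈ C ∧ h ^ p ∈ D ∧ ∀ g : G, ⁅h, g⁆ ∈ D}
  have hHC : H ≤ C := (closure_le _).mpr fun x hx => hx.1
  have hconj : ∀ d ∈ D, ∀ g : G, g * d * g⁻¹ ∈ D := fun d hd g => Normal.conj_mem inferInstance d hd g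
  have hHcomm : ∀ h ∈ H, ∀ g : G, ⁅h, g⁆ ∈ D := by
    intro h hh
    induction hh using closure_induction with
    | mem x hx => exact hx.2.2
    | one => intro g; simp
    | mul x y _ _ hx hy =>
      intro g
      rw [commutatorElement_mul_left_eq_conj_mul]
      exact mul_mem (hconj _ (hy g) x) (hx g)
    | inv x _ hx =>
      intro g
      rw [commutatorElement_inv_left, ← commutatorElement_inv x g]
      exact inv_inv x ▸ (by simpa using hconj _ (inv_mem (hx g)) x⁻¹)
  have hHpow : ∀ h ∈ H, h ^ p ∈ D := by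
    intro h hh
    induction hh using closure_induction with
    | mem x hx => exact hx.2.1
    | one => simp
    | mul x y _ _ hx hy =>
      rw [← QuotientGroup.eq_one_iff, QuotientGroup.mk_pow, QuotientGroup.mk_mul,
        Commute.mul_pow]
      · rw [← QuotientGroup.mk_pow, ← QuotientGroup.mk_pow, (QuotientGroup.eq_one_iff _).mpr hx,
          (QuotientGroup.eq_one_iff _).mpr hy, one_mul]
      · rw [← commutatorElement_eq_one_iff_commute, ← QuotientGroup.mk'_apply,
          ← QuotientGroup.mk'_apply, ← map_commutatorElement, QuotientGroup.mk'_apply,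
          QuotientGroup.eq_one_iff]
        exact hHcomm x ‹_› y
    | inv x _ hx => rw [inv_pow]; exact inv_mem hx
  haveI hHchar : H.Characteristic := by
    refine characteristic_of_forall_mem fun φ x hx => ?_
    induction hx using closure_induction with
    | mem x hx =>
      refine subset_closure ⟨(aut_mem_iff φ x).mpr hx.1, ?_, fun g => ?_⟩
      · rw [← map_pow]; exact (aut_mem_iff φ _).mpr hx.2.1
      · have h := (aut_mem_iff φ _).mpr (hx.2.2 (φ.symm g))
        rwa [show φ ⁅x, φ.symm g⁆ = ⁅φ x, g⁆ by simp [map_commutatorElement]] at h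
    | one => simp
    | mul x y _ _ hx hy => rw [map_mul]; exact mul_mem hx hy
    | inv x _ hx => rw [map_inv]; exact inv_mem hx
  have hDH : D ≤ H := fun d hd =>
    subset_closure ⟨hDC hd, pow_mem hd p, fun g => by
      rw [commutatorElement_def, mul_assoc, mul_assoc, ← mul_assoc g]
      exact mul_mem hd (hconj _ (inv_mem hd) g)⟩
  have hDZ : D ≤ H ⊓ centralizer (H : Set G) := fun d hd =>
    ⟨hDH hd, mem_centralizer_iff.mpr fun h hh => (mem_centralizer_iff.mp (hHC hh) d hd).symm⟩
  have hZD : H ⊓ centralizer (H : Set G) ≤ D :=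
    hmax.2 ⟨inferInstance, fun x hx y hy => (mem_centralizer_iff.mp hy.2 x hx.1)⟩ hDZ
  refine ⟨H, hHchar, fun h hh g => hDZ (hHcomm h hh g), fun h hh => (hDZ (hHpow h hh)).2, ?_⟩
  by_contra hnot
  set Q := centralizer (H : Set G) with hQ
  have hDQ : D < Q :=
    lt_of_le_of_ne (hDZ.trans inf_le_right) fun h => hnot (h ▸ hDH)
  obtain ⟨K, _, hDK, hKQ, hKcard, hKD⟩ := exists_normal_between hG hDQ
  have hKH : K ≤ H := fun k hk => subset_closure ⟨centralizer_le hDH (hKQ hk), by
    have := (D.subgroupOf K).pow_index_mem ⟨k, hk⟩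
    have hidx : (D.subgroupOf K).index = p := by
      have h1 := (D.subgroupOf K).card_mul_index
      rw [Nat.card_congr (subgroupOfEquivOfLe hDK).toEquiv, hKcard, mul_comm p] at h1
      exact Nat.eq_of_mul_eq_mul_left Nat.card_pos h1
    rwa [hidx] at this, fun g => hKD (commutator_mem_commutator hk (mem_top g))⟩
  have hKD' : K ≤ D := (le_inf hKH hKQ).trans hZD
  have := Nat.le_of_dvd Nat.card_pos (card_dvd_of_le hKD')
  rw [hKcard] at this
  exact absurd this (not_le.mpr (lt_mul_of_one_lt_left Nat.card_pos hp.out.one_lt))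

/-- A p'-automorphism fixing a self-centralizing normal subgroup pointwise is trivial. -/
theorem aut_eq_one_of_fix_selfCentralizing (hG : IsPGroup p G) {H : Subgroup G} [H.Normal]
    (hC : centralizer (H : Set G) ≤ H) {a : MulAut G} (ha : Nat.Coprime (orderOf a) p)
    (h : ∀ x ∈ H, a x = x) : a = 1 := by
  ext g
  refine fixed_of_displacement_fixed hG ha (h _ (hC ?_))
  refine mem_centralizer_iff.mpr fun x hx => ?_
  have h1 : g * x * g⁻¹ ∈ H := Normal.conj_mem inferInstance x hx g
  have h2 := h _ h1
  rw [map_mul, map_mul, map_inv, h x hx] at h2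
  calc x * (g⁻¹ * a g) = g⁻¹ * (g * x * g⁻¹) * a g := by group
    _ = g⁻¹ * (a g * x * (a g)⁻¹) * a g := by rw [h2]
    _ = _ := by group

/-- For odd `p`, a p'-automorphism fixing the elements of order `p` of a critical subgroup is trivial. -/
theorem aut_eq_one_of_fix_omega_critical [Finite G] (hp2 : p ≠ 2) (hG : IsPGroup p G) {a : MulAut G}
    (ha : Nat.Coprime (orderOf a) p) {H : Subgroup G} (hH : Critical p H)
    (h : ∀ x ∈ H, x ^ p = 1 → a x = x) : a = 1 := by
  haveI := hH.char
  refine aut_eq_one_of_fix_selfCentralizing hG hH.self_centralizing ha ?_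
  have key : ∀ k : ℕ, ∀ x ∈ H, x ^ p ^ k = 1 → a x = x := by
    intro k
    induction k with
    | zero => intro x _ hx; rw [pow_zero, pow_one] at hx; rw [hx, map_one]
    | succ k ih =>
      intro x hxH hx
      refine fixed_of_displacement_fixed hG ha (h _ (mul_mem (inv_mem hxH) ((aut_mem_iff a x).mpr hxH)) ?_)
      have h1 : a (x ^ p) = x ^ p := ih _ (pow_mem hxH p) (by rw [← pow_mul, ← pow_succ']; exact hx)
      have hc : ⁅a x, x⁻¹⁆ ∈ H ⊓ centralizer (H : Set G) :=
        hH.comm_mem _ ((aut_mem_iff a x).mpr hxH) _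
      have hc1 : Commute x⁻¹ ⁅a x, x⁻¹⁆ := mem_centralizer_iff.mp hc.2 _ (inv_mem hxH)
      have hc2 : Commute (a x) ⁅a x, x⁻¹⁆ :=
        mem_centralizer_iff.mp hc.2 _ ((aut_mem_iff a x).mpr hxH)
      rw [mul_pow_prime_eq hp.out hp2 hc1 hc2, inv_pow, ← map_pow, h1, inv_mul_cancel]
      rw [← commutator_pow_left hc2, ← map_pow, h1, commutatorElement_eq_one_iff_commute]
      exact (Commute.refl x).inv_right.pow_left p
  intro x hx
  obtain ⟨k, hk⟩ := hG x
  exact key k x hx hk

/-- For odd `p`, a p'-automorphism fixing all elements of order `p` is trivial. -/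
theorem aut_eq_one_of_fix_omega [Finite G] (hp2 : p ≠ 2) (hG : IsPGroup p G) {a : MulAut G}
    (ha : Nat.Coprime (orderOf a) p) (h : ∀ x : G, x ^ p = 1 → a x = x) : a = 1 := by
  obtain ⟨H, hH⟩ := exists_critical hG
  exact aut_eq_one_of_fix_omega_critical hp2 hG ha hH fun x _ => h x

end Cfsg.Agent.PGroup
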