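import Cfsg.Agent.Lib.PGroup.Omega

/-!
# Normal abelian subgroups of p-groups

* `commutator_mem_of_card`: a normal section of order `p` is central.
* `index_centralizer_le`: `|G : C(A)| ≤ p ^ (a(a-1)/2)` for a normal `A` of order `p ^ a`.
* `centralizer_eq_of_maximal_normal_abelian`: a maximal normal abelian subgroup is self-centralizing.
* `mem_of_maximal_normal_exponent`: Alperin's theorem on maximal normal abelian subgroups of exponent `p^n`.
* `exists_maximal_normal_elementary`, `mem_of_maximal_normal_elementary`: the case `n = 1`, `p` odd.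
-/

set_option linter.style.haveILetI false
set_option linter.unusedSectionVars false

open Subgroup
open scoped commutatorElement

namespace Cfsg.Agent.PGroup

variable {G : Type*} [Group G] [Finite G] {p : ℕ} [hp : Fact p.Prime]

theorem eq_sup_zpowers_of_card (hG : IsPGroup p G) {A K : Subgroup G} (h : A ≤ K)
    (hcard : Nat.card K ≤ p * Nat.card A) {x : G} (hxK : x ∈ K) (hxA : x ∉ A) :
    A ⊔ zpowers x = K :=
  eq_of_le_of_card_le (sup_le h (zpowers_le.mpr hxK))
    (hcard.trans (mul_card_le_of_lt hG (lt_of_le_of_ne le_sup_left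
      fun he => hxA (he ▸ mem_sup_right (mem_zpowers x)))))

/-- A normal section of order at most `p` is central. -/
theorem commutator_mem_of_card (hG : IsPGroup p G) {M N : Subgroup G} [M.Normal] [N.Normal]
    (h : M < N) (hcard : Nat.card N ≤ p * Nat.card M) {x : G} (hx : x ∈ N) (g : G) :
    ⁅g, x⁆ ∈ M := by
  obtain ⟨K, _, hMK, hKN, hK, hKM⟩ := exists_normal_between hG h
  have : K = N := eq_of_le_of_card_le hKN (hcard.trans hK.ge)
  subst this
  rw [← commutatorElement_inv]
  exact inv_mem (hKM (commutator_mem_commutator hx (mem_top g)))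

theorem index_centralizer_le (hG : IsPGroup p G) :
    ∀ (a : ℕ) (A : Subgroup G), A.Normal → Nat.card A = p ^ a →
      (centralizer (A : Set G)).index ≤ p ^ (a * (a - 1) / 2) := by
  intro a
  induction a with
  | zero =>
    intro A _ hA
    rw [eq_bot_of_card_eq A (by simpa using hA)]
    rw [centralizer_eq_top_iff_subset.mpr (show ((⊥ : Subgroup G) : Set G) ⊆ center G by simp)]
    simp
  | succ a ih =>
    intro A hAn hA
    obtain ⟨B, hBn, hBA, hB⟩ := exists_normal_le_card hG hA a (Nat.le_succ a)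
    have hlt : B < A := lt_of_le_of_ne hBA fun h => by
      rw [h, hA] at hB
      exact absurd (Nat.pow_right_injective hp.out.two_le hB) (by omega)
    obtain ⟨x, hxA, hxB⟩ := SetLike.exists_of_lt hlt
    have hsup : B ⊔ zpowers x = A :=
      eq_sup_zpowers_of_card hG hBA (by rw [hA, hB, pow_succ']) hxA hxB
    set C := centralizer (B : Set G)
    set D := centralizer (A : Set G)
    have hDC : D ≤ C := centralizer_le hBA
    have hmem : ∀ g ∈ C, Commute g x → g ∈ D := by
      intro g hg hgx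
      have : A ≤ centralizer ({g} : Set G) := by
        rw [← hsup]
        refine sup_le (fun b hb => ?_) (zpowers_le.mpr ?_)
        · rw [mem_centralizer_singleton_iff]; exact mem_centralizer_iff.mp hg b hb
        · rw [mem_centralizer_singleton_iff]; exact hgx.symm.eq
      exact mem_centralizer_iff.mpr fun a ha => mem_centralizer_singleton_iff.mp (this ha)
    have hmap : ∀ g : G, ⁅g, x⁆ ∈ B := commutator_mem_of_card hG hlt (by rw [hA, hB, pow_succ']) hxA
    have hrel : D.relIndex C ≤ Nat.card B := by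
      refine Nat.card_le_card_of_injective
        (fun q : C ⧸ D.subgroupOf C => (⟨⁅((Quotient.out q : C) : G), x⁆, hmap _⟩ : B)) ?_
      intro q r hqr
      have h1 : ((q.out : C) : G) * x * ((q.out : C) : G)⁻¹ = ((r.out : C) : G) * x * ((r.out : C) : G)⁻¹ :=
        mul_right_cancel (Subtype.ext_iff.mp hqr)
      rw [← QuotientGroup.out_eq' q, ← QuotientGroup.out_eq' r, QuotientGroup.eq, mem_subgroupOf]
      refine hmem _ (q.out⁻¹ * r.out : C).2 ?_
      show ((q.out : C) : G)⁻¹ * r.out * x = x * (((q.out : C) : G)⁻¹ * r.out)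
      calc ((q.out : C) : G)⁻¹ * r.out * x
          = ((q.out : C) : G)⁻¹ * (((r.out : C) : G) * x * ((r.out : C) : G)⁻¹) * r.out := by group
        _ = _ := by rw [← h1]; group
    calc D.index = D.relIndex C * C.index := (relIndex_mul_index hDC).symm
      _ ≤ p ^ a * p ^ (a * (a - 1) / 2) := Nat.mul_le_mul (hB ▸ hrel) (ih B hBn hB)
      _ = p ^ ((a + 1) * (a + 1 - 1) / 2) := by
        rw [← pow_add]
        congr 1
        cases a with
        | zero => rfl
        | succ b =>
          simp only [Nat.add_sub_cancel]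
          have e : (b + 1 + 1) * (b + 1) = (b + 1) * b + 2 * (b + 1) := by ring
          rw [e, Nat.add_mul_div_left _ _ (by norm_num)]; ring

omit [Finite G] in
theorem sup_zpowers_comm {A : Subgroup G} (hA : ∀ a ∈ A, ∀ b ∈ A, a * b = b * a) {x : G}
    (hx : x ∈ centralizer (A : Set G)) :
    ∀ a ∈ A ⊔ zpowers x, ∀ b ∈ A ⊔ zpowers x, a * b = b * a := by
  have h1 : A ⊔ zpowers x ≤ centralizer (A : Set G) :=
    sup_le (fun a ha => mem_centralizer_iff.mpr fun b hb => hA b hb a ha) (zpowers_le.mpr hx)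
  have h2 : A ⊔ zpowers x ≤ centralizer ((A ⊔ zpowers x : Subgroup G) : Set G) := by
    refine sup_le (Subgroup.le_centralizer_iff.mp h1) (zpowers_le.mpr ?_)
    refine mem_centralizer_iff.mpr fun b hb => ?_
    have : A ⊔ zpowers x ≤ centralizer ({x} : Set G) :=
      sup_le (fun a ha => mem_centralizer_singleton_iff.mpr (mem_centralizer_iff.mp hx a ha))
        (zpowers_le.mpr (mem_centralizer_singleton_iff.mpr rfl))
    exact mem_centralizer_singleton_iff.mp (this hb)
  exact fun a ha b hb => (mem_centralizer_iff.mp (h2 ha) b hb).symm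

theorem centralizer_eq_of_maximal_normal_abelian (hG : IsPGroup p G) {A : Subgroup G} [A.Normal]
    (hA : ∀ a ∈ A, ∀ b ∈ A, a * b = b * a)
    (hmax : ∀ B : Subgroup G, B.Normal → (∀ a ∈ B, ∀ b ∈ B, a * b = b * a) → A ≤ B → B = A) :
    centralizer (A : Set G) = A := by
  have hle : A ≤ centralizer (A : Set G) := fun a ha => mem_centralizer_iff.mpr fun b hb => hA b hb a ha
  by_contra h
  obtain ⟨K, hKn, hAK, hKC, hK, _⟩ := exists_normal_between hG (lt_of_le_of_ne hle (Ne.symm h))
  have hlt : A < K := lt_of_le_of_ne hAK fun he => by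
    rw [← he] at hK
    exact absurd hK (Nat.ne_of_lt (lt_mul_of_one_lt_left Nat.card_pos hp.out.one_lt))
  obtain ⟨x, hxK, hxA⟩ := SetLike.exists_of_lt hlt
  have hsup := eq_sup_zpowers_of_card hG hAK hK.le hxK hxA
  exact hlt.ne (hmax K hKn (hsup ▸ sup_zpowers_comm hA (hKC hxK)) hAK).symm

omit hp [Finite G] in
theorem dvd_choose_two_of_odd {N : ℕ} (h : Odd N) : N ∣ N.choose 2 := by
  obtain ⟨t, rfl⟩ := h
  refine ⟨t, ?_⟩
  rw [Nat.choose_two_right, Nat.add_sub_cancel, ← mul_assoc, mul_comm _ 2, mul_assoc,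
    Nat.mul_div_cancel_left _ (by norm_num)]

/-- Alperin: if `A` is maximal among normal abelian subgroups of exponent dividing `p ^ n ≠ 2`,
then it contains every element of its centralizer of order dividing `p ^ n`. -/
theorem mem_of_maximal_normal_exponent (hG : IsPGroup p G) (n : ℕ) (hn : p ^ n ≠ 2) {A : Subgroup G}
    [A.Normal] (hA : ∀ a ∈ A, ∀ b ∈ A, a * b = b * a) (hAe : ∀ a ∈ A, a ^ p ^ n = 1)
    (hmax : ∀ B : Subgroup G, B.Normal → (∀ a ∈ B, ∀ b ∈ B, a * b = b * a) →
      (∀ b ∈ B, b ^ p ^ n = 1) → A ≤ B → B = A)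
    {x : G} (hx : x ∈ centralizer (A : Set G)) (hxn : x ^ p ^ n = 1) : x ∈ A := by
  set C := centralizer (A : Set G) with hC
  set f := QuotientGroup.mk' A
  let K : ℕ → Subgroup G := fun j => (Subgroup.upperCentralSeries (G ⧸ A) j).comap f
  have hK0 : ∀ {y}, y ∈ K 0 → y ∈ A := fun {y} hy => (QuotientGroup.eq_one_iff y).mp (by simpa [K, f] using hy)
  have hKstep : ∀ (j : ℕ) (y g : G), y ∈ K (j + 1) → ⁅y, g⁆ ∈ K j := by
    intro j y g hy
    simp only [K, mem_comap, map_commutatorElement] at hy ⊢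
    exact (Subgroup.mem_upperCentralSeries_succ_iff.mp hy) (f g)
  have hKstep' : ∀ (j : ℕ) (y g : G), y ∈ K (j + 1) → ⁅g, y⁆ ∈ K j := fun j y g hy => by
    rw [← commutatorElement_inv]; exact inv_mem (hKstep j y g hy)
  suffices H : ∀ i, ∀ x ∈ C, x ∈ K i → x ^ p ^ n = 1 → x ∈ A by
    haveI := (hG.to_quotient A).isNilpotent
    obtain ⟨m, hm⟩ := Group.IsNilpotent.nilpotent (G ⧸ A)
    exact H m x hx (by simp [K, hm]) hxn
  clear hx hxn x
  classical
  intro i
  induction i with
  | zero => exact fun x _ hx _ => hK0 hx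
  | succ i ih =>
    intro x0 hx0C hx0K hx0n
    by_contra hx0A
    have hex : ∃ k, x0 ^ p ^ k ∈ A := ⟨n, hx0n ▸ one_mem A⟩
    obtain ⟨k, hk⟩ : ∃ k, Nat.find hex = k + 1 := ⟨Nat.find hex - 1, by
      have : Nat.find hex ≠ 0 := fun h => hx0A (by
        have := Nat.find_spec hex; rwa [h, pow_zero, pow_one] at this)
      omega⟩
    set x := x0 ^ p ^ k with hxdef
    have hxA : x ∉ A := Nat.find_min hex (by omega)
    have hxp : x ^ p ∈ A := by
      rw [hxdef, ← pow_mul, ← pow_succ, ← hk]; exact Nat.find_spec hex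
    have hxC : x ∈ C := pow_mem hx0C _
    have hxK : x ∈ K (i + 1) := pow_mem hx0K _
    have hxn : x ^ p ^ n = 1 := by rw [hxdef, ← pow_mul, mul_comm, pow_mul, hx0n, one_pow]
    have hAC : ∀ a ∈ A, ∀ c ∈ C, Commute c a := fun a ha c hc =>
      ((mem_centralizer_iff.mp hc) a ha).symm
    have step : ∀ w : G, ⁅⁅w, x⁆, x⁆ ∈ A → ⁅w, x⁆ ∈ A := by
      intro w hw
      have hvC : w * x * w⁻¹ ∈ C := Normal.conj_mem inferInstance x hxC w
      have huC : ⁅w, x⁆ ∈ C := by rw [commutatorElement_def]; exact mul_mem hvC (inv_mem hxC)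
      refine ih _ huC (hKstep' i x w hxK) ?_
      have hc : ⁅x⁻¹, w * x * w⁻¹⁆ = ⁅⁅w, x⁆, x⁆ := by
        have := (hAC _ hw x hxC).eq
        calc ⁅x⁻¹, w * x * w⁻¹⁆ = x⁻¹ * (⁅⁅w, x⁆, x⁆ * x) := by simp [commutatorElement_def]; group
          _ = _ := by rw [← this, inv_mul_cancel_left]
      have h1 : Commute (w * x * w⁻¹) ⁅x⁻¹, w * x * w⁻¹⁆ := by rw [hc]; exact hAC _ hw _ hvC
      have h2 : Commute x⁻¹ ⁅x⁻¹, w * x * w⁻¹⁆ := by rw [hc]; exact hAC _ hw _ (inv_mem hxC)
      rw [commutatorElement_def, mul_pow_eq h1 h2, conj_pow, hxn, inv_pow, hxn]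
      simp only [mul_one, inv_one, mul_inv_cancel, hc]
      by_cases hodd : Odd (p ^ n)
      · obtain ⟨t, ht⟩ := dvd_choose_two_of_odd hodd
        rw [ht, pow_mul, hAe _ hw, one_pow]
      · have hp2 : p = 2 := by
          by_contra h
          exact hodd ((hp.out.odd_of_ne_two h).pow)
        subst hp2
        obtain ⟨m, rfl⟩ : ∃ m, n = m + 2 := ⟨n - 2, by
          rcases n with _ | _ | n
          · exact absurd (by norm_num) hodd
          · exact absurd (pow_one 2) hn
          · omega⟩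
        have h4 : x ^ 2 ^ (m + 1) ∈ A := by rw [pow_succ', pow_mul]; exact pow_mem hxp _
        have h5 : ⁅⁅w, x⁆, x⁆ ^ 2 ^ (m + 1) = 1 := by
          rw [← hc, ← commutator_pow_left h2, inv_pow, commutatorElement_eq_one_iff_commute]
          exact (hAC _ h4 _ hvC).symm.inv_left
        obtain ⟨t, ht⟩ : 2 ^ (m + 1) ∣ (2 ^ (m + 2)).choose 2 := by
          rw [Nat.choose_two_right]
          exact ⟨2 ^ (m + 2) - 1, by
            rw [pow_succ' 2 (m + 1), mul_assoc, Nat.mul_div_cancel_left _ (by norm_num)]⟩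
        rw [ht, pow_mul, h5, one_pow]
    have hcentral : ∀ w : G, ⁅w, x⁆ ∈ A := by
      have hlow : ∀ j ≤ i, ∀ w ∈ K j, ⁅w, x⁆ ∈ A := by
        intro j
        induction j with
        | zero =>
          intro _ w hw
          rw [(hAC w (hK0 hw) x hxC).symm.commutator_eq]; exact one_mem A
        | succ j ihj =>
          intro hj w hw
          exact step w (ihj (by omega) _ (hKstep j w x hw))
      exact fun w => step w (hlow i le_rfl _ (hKstep' i x w hxK))
    set B := A ⊔ zpowers x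
    have hBab := sup_zpowers_comm hA hxC
    haveI hBn : B.Normal := ⟨fun b hb g => by
      have hle : B ≤ B.comap (MulAut.conj g).toMonoidHom := sup_le
        (fun a ha => mem_sup_left (Normal.conj_mem inferInstance a ha g))
        (zpowers_le.mpr (by
          show g * x * g⁻¹ ∈ B
          rw [show g * x * g⁻¹ = ⁅g, x⁆ * x by simp [commutatorElement_def]]
          exact mul_mem (mem_sup_left (hcentral g)) (mem_sup_right (mem_zpowers x))))
      exact hle hb⟩
    have hBe : ∀ b ∈ B, b ^ p ^ n = 1 := by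
      intro b hb
      obtain ⟨a, ha, u, hu, rfl⟩ := mem_sup_of_normal_left.mp hb
      obtain ⟨j, rfl⟩ := mem_zpowers_iff.mp hu
      rw [Commute.mul_pow (hBab _ (mem_sup_left ha) _ (mem_sup_right hu)), hAe a ha, one_mul,
        ← zpow_natCast, zpow_comm, zpow_natCast, hxn, one_zpow]
    exact hxA (hmax B hBn hBab hBe le_sup_left ▸ mem_sup_right (mem_zpowers x))

theorem exists_maximal_normal_elementary (A₀ : Subgroup G) (hn : A₀.Normal)
    (hc : ∀ a ∈ A₀, ∀ b ∈ A₀, a * b = b * a) (he : ∀ a ∈ A₀, a ^ p = 1) :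
    ∃ A : Subgroup G, A₀ ≤ A ∧ A.Normal ∧ (∀ a ∈ A, ∀ b ∈ A, a * b = b * a) ∧ (∀ a ∈ A, a ^ p = 1) ∧
      ∀ B : Subgroup G, B.Normal → (∀ a ∈ B, ∀ b ∈ B, a * b = b * a) →
        (∀ b ∈ B, b ^ p = 1) → A ≤ B → B = A := by
  obtain ⟨A, hle, hmax⟩ := Finite.exists_le_maximal (α := Subgroup G)
    (p := fun A => A.Normal ∧ (∀ a ∈ A, ∀ b ∈ A, a * b = b * a) ∧ (∀ a ∈ A, a ^ p = 1))
    (a := A₀) ⟨hn, hc, he⟩
  exact ⟨A, hle, hmax.prop.1, hmax.prop.2.1, hmax.prop.2.2,
    fun B h1 h2 h3 hAB => le_antisymm (hmax.2 ⟨h1, h2, h3⟩ hAB) hAB⟩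

/-- For odd `p`: `Ω₁(C(A)) = A` for a maximal normal elementary abelian `A`. -/
theorem mem_of_maximal_normal_elementary (hG : IsPGroup p G) (hp2 : p ≠ 2) {A : Subgroup G}
    [A.Normal] (hA : ∀ a ∈ A, ∀ b ∈ A, a * b = b * a) (hAe : ∀ a ∈ A, a ^ p = 1)
    (hmax : ∀ B : Subgroup G, B.Normal → (∀ a ∈ B, ∀ b ∈ B, a * b = b * a) →
      (∀ b ∈ B, b ^ p = 1) → A ≤ B → B = A)
    {x : G} (hx : x ∈ centralizer (A : Set G)) (hxp : x ^ p = 1) : x ∈ A :=
  mem_of_maximal_normal_exponent hG 1 (by rwa [pow_one]) hA (by rwa [pow_one])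
    (by rw [pow_one]; exact hmax) hx (by rwa [pow_one])

end Cfsg.Agent.PGroup
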