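import Cfsg.Agent.Lib.PGroup.UniqueOrderP

/-!
# p-groups of maximal class

* `maximal_class_of_selfCentralizing`: a self-centralizing subgroup of order `p^2` gives maximal class.
* `card_lcs_of_maximal_class`, `lcs_le_of_index`, `normal_eq_lcs`, `card_index_p`: normal subgroups in maximal class.
* `cyclic_index_two_of_card_ab`, `two_group_data`: 2-groups with `|G : G'| = 4`.
-/

set_option linter.style.haveILetI false
set_option linter.unusedSectionVars false

open Subgroup
open scoped commutatorElement

universe u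

namespace Cfsg.Agent.PGroup

variable {p : ℕ} [hp : Fact p.Prime]

theorem mem_normalizer_of_conj_le {X : Type u} [Group X] [Finite X] {g : X} {H : Subgroup X}
    (h : ∀ u ∈ H, g * u * g⁻¹ ∈ H) : g ∈ normalizer (H : Set X) := by
  refine mem_normalizer_iff.mpr fun a => ⟨h a, fun ha => ?_⟩
  have hmap : H.map (MulAut.conj g).toMonoidHom = H := by
    refine eq_of_le_of_card_le ?_ (by rw [card_map_of_injective (MulEquiv.injective _)])
    rintro _ ⟨b, hb, rfl⟩
    exact h b hb
  rw [← hmap] at ha
  obtain ⟨b, hb, hba⟩ := ha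
  simp at hba
  exact hba ▸ hb

theorem maximal_class_of_selfCentralizing : ∀ (n : ℕ) (X : Type u) [Group X] [Finite X],
    Nat.card X = p ^ n → ∀ A : Subgroup X, Nat.card A = p ^ 2 → centralizer (A : Set X) = A →
      Group.nilpotencyClass X = n - 1 := by
  intro n
  induction n using Nat.strong_induction_on with
  | _ n ih =>
    intro X _ _ hX A hA hC
    have hP : IsPGroup p X := IsPGroup.of_card hX
    haveI := hP.isNilpotent
    have h2n : 2 ≤ n := (Nat.pow_le_pow_iff_right hp.out.one_lt).mp
      (hA ▸ hX ▸ Nat.le_of_dvd Nat.card_pos (card_subgroup_dvd_card A))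
    haveI hnt : Nontrivial X := (IsPGroup.nontrivial_iff_card hP).mpr ⟨n, by omega, hX⟩
    rcases h2n.eq_or_lt with rfl | hlt
    · haveI := IsPGroup.isMulCommutative_of_card_eq_prime_sq hX
      have h1 : Group.nilpotencyClass X ≤ 1 := Group.IsNilpotent.nilpotencyClass_le_one_iff.mpr inferInstance
      have h0 : Group.nilpotencyClass X ≠ 0 := fun h =>
        not_subsingleton X (nilpotencyClass_zero_iff_subsingleton.mp h)
      omega
    have hAtop : A ≠ ⊤ := fun h => by
      rw [h, card_top, hX] at hA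
      exact absurd (Nat.pow_right_injective hp.out.two_le hA) (by omega)
    have hZA : center X ≤ A := hC ▸ center_le_centralizer _
    have hAmc : IsMulCommutative A := IsPGroup.isMulCommutative_of_card_eq_prime_sq hA
    have hZ : Nat.card (center X) = p := by
      obtain ⟨k, hk, hZk⟩ := IsPGroup.card_center_eq_prime_pow hX (by omega)
      have hlt2 : center X < A := lt_of_le_of_ne hZA fun h => hAtop (by
        rw [← hC]; exact centralizer_eq_top_iff_subset.mpr (h ▸ subset_rfl))
      have := mul_card_le_of_lt hP hlt2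
      rw [hA, hZk, ← pow_succ'] at this
      have := (Nat.pow_le_pow_iff_right hp.out.one_lt).mp this
      rw [hZk, show k = 1 by omega, pow_one]
    set N := normalizer (A : Set X) with hN
    have hN3 : Nat.card N = p ^ 3 := by
      haveI : (A.subgroupOf N).Normal := inferInstanceAs (A.subgroupOf (normalizer (A : Set X))).Normal
      have hA' : Nat.card (A.subgroupOf N) = p ^ 2 := by
        rw [Nat.card_congr (subgroupOfEquivOfLe le_normalizer).toEquiv, hA]
      have hbd := (index_centralizer_le (hP.to_subgroup N) 2 (A.subgroupOf N) inferInstance hA').trans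
        (pow_one p).le
      have hcle : centralizer ((A.subgroupOf N : Subgroup N) : Set N) ≤ A.subgroupOf N := by
        intro x hx
        rw [mem_subgroupOf, ← hC]
        exact mem_centralizer_iff.mpr fun a ha =>
          congrArg Subtype.val (mem_centralizer_iff.mp hx ⟨a, le_normalizer ha⟩ (by simpa [mem_subgroupOf] using ha))
      refine le_antisymm ?_ ?_
      · rw [← card_mul_index (centralizer ((A.subgroupOf N : Subgroup N) : Set N)), pow_succ]
        exact Nat.mul_le_mul ((Nat.le_of_dvd Nat.card_pos (card_dvd_of_le hcle)).trans hA'.le) hbd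
      · obtain ⟨g, hg, hgA⟩ := exists_mem_normalizer_not_mem hP hAtop
        rw [pow_succ', ← hA]
        exact mul_card_le_of_lt hP (lt_of_le_of_ne le_normalizer fun h => hgA (h ▸ hg))
    set f := QuotientGroup.mk' (center X) with hf
    have hker : f.ker ≤ N := by rw [QuotientGroup.ker_mk']; exact hZA.trans le_normalizer
    have hB : Nat.card (N.map f) = p ^ 2 := by
      have h1 := (f.domRestrict N).ker.card_mul_index
      rw [index_ker, MonoidHom.domRestrict_range, MonoidHom.ker_domRestrict,
        Nat.card_congr (subgroupOfEquivOfLe hker).toEquiv, QuotientGroup.ker_mk', hZ, hN3, pow_succ'] at h1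
      exact Nat.eq_of_mul_eq_mul_left hp.out.pos h1
    have hBC : centralizer ((N.map f : Subgroup (X ⧸ center X)) : Set (X ⧸ center X)) = N.map f := by
      refine le_antisymm (fun q hq => ?_) fun q hq => mem_centralizer_iff.mpr fun r hr =>
        congrArg Subtype.val ((IsPGroup.isMulCommutative_of_card_eq_prime_sq hB).is_comm.comm ⟨r, hr⟩ ⟨q, hq⟩)
      obtain ⟨x, rfl⟩ := QuotientGroup.mk'_surjective _ q
      have hxA : ∀ a ∈ A, x * a * x⁻¹ ∈ A := fun a ha => by
        have h1 : f ⁅x, a⁆ = 1 := by
          rw [map_commutatorElement, commutatorElement_eq_one_iff_mul_comm]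
          exact (mem_centralizer_iff.mp hq _ (mem_map_of_mem f (le_normalizer ha))).symm
        rw [show x * a * x⁻¹ = ⁅x, a⁆ * a by simp [commutatorElement_def]]
        exact mul_mem (hZA ((QuotientGroup.eq_one_iff _).mp h1)) ha
      exact mem_map_of_mem f (mem_normalizer_of_conj_le hxA)
    obtain ⟨m, rfl⟩ : ∃ m, n = m + 1 := ⟨n - 1, by omega⟩
    have hq : Nat.card (X ⧸ center X) = p ^ m := by
      have := card_eq_card_quotient_mul_card_subgroup (center X)
      rw [hX, hZ, pow_succ] at this
      exact (Nat.eq_of_mul_eq_mul_right hp.out.pos this).symm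
    rw [nilpotencyClass_eq_quotient_center_plus_one, ih m (by omega) _ hq (N.map f) hB hBC]
    omega

variable {G : Type u} [Group G] [Finite G]

theorem index_commutator_ge (hG : IsPGroup p G) (h : _root_.commutator G ≠ ⊥) :
    p ^ 2 ≤ (_root_.commutator G).index := by
  obtain ⟨k, hk⟩ := IsPGroup.index hG (_root_.commutator G)
  rw [hk]
  refine Nat.pow_le_pow_right hp.out.pos ?_
  by_contra hk2
  have : IsCyclic (G ⧸ _root_.commutator G) := by
    rw [index_eq_card] at hk
    interval_cases k
    · haveI : Subsingleton (G ⧸ _root_.commutator G) := (Nat.card_eq_one_iff_unique.mp (by simpa using hk)).1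
      exact isCyclic_of_subsingleton
    · exact isCyclic_of_prime_card (p := p) (by simpa using hk)
  haveI := isCyclic_of_abelianization hG this
  exact h (commutator_eq_bot G)

/-- In maximal class the lower central series has all indices as small as possible. -/
theorem card_lcs_of_maximal_class {n : ℕ} (hn : 3 ≤ n) (hG : Nat.card G = p ^ n)
    (hc : Group.nilpotencyClass G = n - 1) {i : ℕ} (hi1 : 1 ≤ i) (hi : i ≤ n - 1) :
    Nat.card ((⊤ : Subgroup G).lowerCentralSeries i : Subgroup G) = p ^ (n - 1 - i) := by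
  have hP : IsPGroup p G := IsPGroup.of_card hG
  haveI := hP.isNilpotent
  set L := fun i => (⊤ : Subgroup G).lowerCentralSeries i with hL
  have hne : ∀ i, i < n - 1 → L i ≠ ⊥ := fun i hi h => by
    have := Subgroup.lowerCentralSeries_eq_bot_iff_nilpotencyClass_le.mp h
    omega
  have hdec : ∀ i, i < n - 1 → p * Nat.card (L (i + 1)) ≤ Nat.card (L i) := fun i hi => by
    simp only [hL]
    rw [Subgroup.lowerCentralSeries_succ]
    exact mul_card_le_of_lt hP (commutator_lt_of_ne_bot hP (hne i hi))
  have hge : ∀ j, j ≤ n - 2 → p ^ j ≤ Nat.card (L (n - 1 - j)) := by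
    intro j
    induction j with
    | zero => intro _; exact Nat.card_pos
    | succ j ihj =>
      intro hj
      have h1 := hdec (n - 1 - (j + 1)) (by omega)
      rw [show n - 1 - (j + 1) + 1 = n - 1 - j by omega] at h1
      rw [pow_succ']
      exact (Nat.mul_le_mul le_rfl (ihj (by omega))).trans h1
  have hle : ∀ i, 1 ≤ i → i ≤ n - 1 → Nat.card (L i) ≤ p ^ (n - 1 - i) := by
    intro i h1
    induction i, h1 using Nat.le_induction with
    | base =>
      intro _
      have h1 : L 1 = _root_.commutator G := top_lowerCentralSeries_one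
      rw [h1]
      have h2 := index_commutator_ge hP (h1 ▸ hne 1 (by omega))
      refine Nat.le_of_mul_le_mul_right (c := p ^ 2) ?_ (pow_pos hp.out.pos 2)
      rw [← pow_add, show n - 1 - 1 + 2 = n by omega, ← hG, ← card_mul_index (_root_.commutator G)]
      exact Nat.mul_le_mul le_rfl h2
    | succ i hi ihi =>
      intro hin
      refine Nat.le_of_mul_le_mul_left (?_ : p * _ ≤ p * _) hp.out.pos
      rw [← pow_succ', show n - 1 - (i + 1) + 1 = n - 1 - i by omega]
      exact (hdec i (by omega)).trans (ihi (by omega))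
  refine le_antisymm (hle i hi1 hi) ?_
  have := hge (n - 1 - i) (by omega)
  rwa [show n - 1 - (n - 1 - i) = i by omega] at this

theorem lcs_le_of_index (hG : IsPGroup p G) : ∀ r, 2 ≤ r → ∀ N : Subgroup G, N.Normal →
    N.index = p ^ r → (⊤ : Subgroup G).lowerCentralSeries (r - 1) ≤ N := by
  intro r hr
  induction r, hr using Nat.le_induction with
  | base =>
    intro N hN hi
    rw [show 2 - 1 = 1 from rfl, top_lowerCentralSeries_one]
    exact Subgroup.Normal.quotient_commutative_iff_commutator_le.mp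
      (IsPGroup.isMulCommutative_of_card_eq_prime_sq (p := p) (by rw [← index_eq_card]; exact hi))
  | succ r hr ih =>
    intro N hN hi
    have hlt : N < ⊤ := lt_top_iff_ne_top.mpr fun h => by
      rw [h, index_top] at hi
      exact absurd hi (Nat.ne_of_lt (Nat.one_lt_pow (by omega) hp.out.one_lt))
    obtain ⟨M, hMn, -, -, hM, hMN⟩ := exists_normal_between hG hlt
    have hMi : M.index = p ^ r := by
      have h := N.card_mul_index
      rw [← M.card_mul_index, hi, hM, pow_succ', ← mul_assoc, mul_comm (Nat.card N) p] at h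
      exact (Nat.eq_of_mul_eq_mul_left (Nat.mul_pos hp.out.pos Nat.card_pos) h).symm
    rw [show r + 1 - 1 = (r - 1) + 1 by omega, Subgroup.lowerCentralSeries_succ]
    exact (commutator_mono (ih M hMn hMi) le_rfl).trans hMN

theorem normal_eq_lcs {n : ℕ} (hn : 3 ≤ n) (hG : Nat.card G = p ^ n)
    (hc : Group.nilpotencyClass G = n - 1) {N : Subgroup G} [N.Normal] {r : ℕ} (hr : 2 ≤ r)
    (hN : N.index = p ^ r) : N = (⊤ : Subgroup G).lowerCentralSeries (r - 1) := by
  have hP : IsPGroup p G := IsPGroup.of_card hG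
  have hrn : r ≤ n := (Nat.pow_le_pow_iff_right hp.out.one_lt).mp
    (hN ▸ hG ▸ Nat.le_of_dvd Nat.card_pos N.index_dvd_card)
  refine (eq_of_le_of_card_le (lcs_le_of_index hP r hr N inferInstance hN) ?_).symm
  rw [card_lcs_of_maximal_class hn hG hc (by omega) (by omega), show n - 1 - (r - 1) = n - r by omega]
  refine Nat.le_of_mul_le_mul_right (c := p ^ r) ?_ (pow_pos hp.out.pos r)
  rw [← pow_add, show n - r + r = n by omega, ← hG, ← hN, N.card_mul_index]

/-- A group of order `p^2` of exponent `p` has `p + 1` subgroups of order `p`. -/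
theorem card_order_p_of_sq {Q : Type u} [Group Q] [Finite Q] (hQ : Nat.card Q = p ^ 2)
    (he : ∀ q : Q, q ^ p = 1) : Nat.card {S : Subgroup Q // Nat.card S = p} = p + 1 := by
  let f : (Σ S : {S : Subgroup Q // Nat.card S = p}, {x : (S.1 : Subgroup Q) // x ≠ 1}) → {x : Q // x ≠ 1} :=
    fun t => ⟨(t.2.1 : Q), fun h => t.2.2 (Subtype.ext h)⟩
  have hf : Function.Bijective f := by
    constructor
    · rintro ⟨⟨S, hS⟩, ⟨⟨x, hxS⟩, hx⟩⟩ ⟨⟨T, hT⟩, ⟨⟨y, hyT⟩, hy⟩⟩ h
      obtain rfl : x = y := congrArg Subtype.val h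
      have hx1 : x ≠ 1 := fun e => hx (Subtype.ext e)
      have ho : Nat.card (zpowers x) = p := by rw [Nat.card_zpowers, orderOf_eq_prime (he x) hx1]
      obtain rfl : S = T := (eq_of_le_of_card_le (zpowers_le.mpr hxS) (hS.trans ho.symm).le).symm.trans
        (eq_of_le_of_card_le (zpowers_le.mpr hyT) (hT.trans ho.symm).le)
      rfl
    · rintro ⟨x, hx⟩
      exact ⟨⟨⟨zpowers x, by rw [Nat.card_zpowers, orderOf_eq_prime (he x) hx]⟩,
        ⟨⟨x, mem_zpowers x⟩, fun e => hx (congrArg Subtype.val e)⟩⟩, rfl⟩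
  have hne : ∀ (T : Type u) [Finite T] (t : T), Nat.card {x : T // x ≠ t} = Nat.card T - 1 := by
    intro T _ t
    haveI := Fintype.ofFinite T
    classical
    rw [Nat.card_eq_fintype_card, Nat.card_eq_fintype_card, Fintype.card_subtype_compl,
      Fintype.card_subtype_eq]
  have h := Nat.card_congr (Equiv.ofBijective f hf)
  haveI := Fintype.ofFinite {S : Subgroup Q // Nat.card S = p}
  rw [Nat.card_sigma, hne Q 1, hQ] at h
  rw [Finset.sum_congr rfl (g := fun _ => p - 1)
    (fun S _ => by rw [hne _ 1, S.2]), Finset.sum_const, Finset.card_univ,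
    ← Nat.card_eq_fintype_card, smul_eq_mul] at h
  refine Nat.eq_of_mul_eq_mul_right (m := p - 1) (by have := hp.out.two_le; omega) ?_
  obtain ⟨k, rfl⟩ : ∃ k, p = k + 1 := ⟨p - 1, by have := hp.out.two_le; omega⟩
  rw [h, Nat.add_sub_cancel, sq]
  have e : (k + 1) * (k + 1) = (k + 1 + 1) * k + 1 := by ring
  omega

theorem card_index_p {n : ℕ} (hn : 3 ≤ n) (hG : Nat.card G = p ^ n)
    (hc : Group.nilpotencyClass G = n - 1) :
    Nat.card {N : Subgroup G // N.Normal ∧ N.index = p} = p + 1 := by
  have hP : IsPGroup p G := IsPGroup.of_card hG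
  set D := _root_.commutator G with hD
  have hQ : Nat.card (G ⧸ D) = p ^ 2 := by
    have h := D.card_mul_index
    rw [hD, ← top_lowerCentralSeries_one, card_lcs_of_maximal_class hn hG hc le_rfl (by omega), hG,
      top_lowerCentralSeries_one] at h
    rw [← index_eq_card, hD]
    refine Nat.eq_of_mul_eq_mul_left (pow_pos hp.out.pos (n - 1 - 1)) ?_
    rw [h, ← pow_add]; congr 1; omega
  have he : ∀ q : G ⧸ D, q ^ p = 1 := by
    by_contra hcon
    push Not at hcon
    obtain ⟨q, hq⟩ := hcon
    obtain ⟨k, hk, hok⟩ := (Nat.dvd_prime_pow hp.out).mp (hQ ▸ orderOf_dvd_natCard q)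
    have hk2 : k = 2 := by
      by_contra hk2
      apply hq
      rw [← orderOf_dvd_iff_pow_eq_one, hok]
      exact (pow_dvd_pow p (show k ≤ 1 by omega)).trans (pow_one p).dvd
    haveI := isCyclic_of_abelianization hP (isCyclic_of_orderOf_eq_card q (by rw [hok, hk2, hQ]))
    have h1 : D = ⊥ := commutator_eq_bot G
    haveI := hP.isNilpotent
    have : Group.nilpotencyClass G ≤ 1 := Group.IsNilpotent.nilpotencyClass_le_one_iff.mpr
      ((commutator_eq_bot_iff (G := G)).mp h1)
    omega
  rw [← card_order_p_of_sq hQ he]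
  set f := QuotientGroup.mk' D
  have hcomap : ∀ S : Subgroup (G ⧸ D), (S.comap f).index = S.index :=
    fun S => index_comap_of_surjective S (QuotientGroup.mk'_surjective D)
  have hidx : ∀ S : Subgroup (G ⧸ D), S.index = p ↔ Nat.card S = p := fun S => by
    have h := S.card_mul_index
    rw [hQ, sq] at h
    constructor
    · intro e; rw [e] at h; exact Nat.eq_of_mul_eq_mul_right hp.out.pos h
    · intro e; rw [e] at h; exact Nat.eq_of_mul_eq_mul_left hp.out.pos h
  refine Nat.card_congr
    { toFun := fun N => ⟨N.1.map f, (hidx _).mp ?_⟩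
      invFun := fun S => ⟨S.1.comap f, Subgroup.Normal.of_commutator_le (G := G) (H := S.1.comap f) ?_,
        by rw [hcomap]; exact (hidx _).mpr S.2⟩
      left_inv := fun N => Subtype.ext ?_
      right_inv := fun S => Subtype.ext (map_comap_eq_self_of_surjective (QuotientGroup.mk'_surjective D) _) }
  · haveI := N.2.1
    rw [← hcomap, comap_map_eq_self (by rw [QuotientGroup.ker_mk']; exact commutator_le_of_index_eq N.2.2)]
    exact N.2.2
  · exact le_trans (le_of_eq (QuotientGroup.ker_mk' D).symm) (f.ker_le_comap S.1)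
  · haveI := N.2.1
    exact comap_map_eq_self (by rw [QuotientGroup.ker_mk']; exact commutator_le_of_index_eq N.2.2)

theorem cyclic_index_two_of_card_ab : ∀ (n : ℕ) (X : Type u) [Group X] [Finite X],
    3 ≤ n → Nat.card X = 2 ^ n → (_root_.commutator X).index = 4 →
    ∃ a : X, (zpowers a).index = 2 := by
  intro n
  induction n with
  | zero => intro X _ _ h; omega
  | succ n ih =>
    intro X _ _ h3 hX hab
    haveI : Fact (Nat.Prime 2) := ⟨Nat.prime_two⟩
    have hP : IsPGroup 2 X := IsPGroup.of_card hX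
    set D := _root_.commutator X with hDdef
    have hD1 : D ≠ ⊥ := fun h => by
      rw [h, index_bot, hX] at hab
      have : 2 ^ 3 ≤ 2 ^ (n + 1) := Nat.pow_le_pow_right (by norm_num) h3
      omega
    rcases h3.eq_or_lt with h | hlt
    · obtain rfl : n = 2 := by omega
      obtain ⟨x, hx⟩ : ∃ x : X, x ^ 2 ≠ 1 := by
        by_contra hc
        push Not at hc
        haveI : IsMulCommutative X := ⟨⟨fun a b => (Commute.of_orderOf_dvd_two
          (fun g => orderOf_dvd_of_pow_eq_one (hc g)) a b).eq⟩⟩
        exact hD1 (commutator_eq_bot X)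
      refine ⟨x, ?_⟩
      obtain ⟨k, hk, hok⟩ := (Nat.dvd_prime_pow Nat.prime_two).mp (hX ▸ orderOf_dvd_natCard x)
      have hk3 : k ≠ 3 := fun e => by
        haveI := isCyclic_of_orderOf_eq_card x (by rw [hok, e, hX])
        exact hD1 (commutator_eq_bot X)
      have hk2 : k = 2 := by
        by_contra hk2
        apply hx
        rw [← orderOf_dvd_iff_pow_eq_one, hok]
        interval_cases k <;> simp_all
      have := (zpowers x).card_mul_index
      rw [Nat.card_zpowers, hok, hk2, hX] at this
      omega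
    obtain ⟨T, hTn, hTD, hTc, hT⟩ := exists_normal_card_eq_prime hP hD1
    haveI := hTn
    have hq : Nat.card (X ⧸ T) = 2 ^ n := by
      have := card_eq_card_quotient_mul_card_subgroup T
      rw [hX, hT, pow_succ] at this
      omega
    have hab' : (_root_.commutator (X ⧸ T)).index = 4 := by
      rw [_root_.commutator_def (X ⧸ T),
        ← map_top_of_surjective (QuotientGroup.mk' T) (QuotientGroup.mk'_surjective T), ← map_commutator,
        ← _root_.commutator_def, index_map_eq _ (QuotientGroup.mk'_surjective T)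
          (by rw [QuotientGroup.ker_mk']; exact hTD), ← hDdef, hab]
    obtain ⟨q, hq2⟩ := ih (X ⧸ T) (by omega) hq hab'
    obtain ⟨a, rfl⟩ := QuotientGroup.mk'_surjective T q
    refine ⟨a, ?_⟩
    set C := (zpowers (QuotientGroup.mk' T a)).comap (QuotientGroup.mk' T)
    have hCi : C.index = 2 := by rw [index_comap_of_surjective _ (QuotientGroup.mk'_surjective T), hq2]
    have hCeq : zpowers a ⊔ T = C := by
      show _ = (zpowers (QuotientGroup.mk' T a)).comap _
      rw [← MonoidHom.map_zpowers, comap_map_eq, QuotientGroup.ker_mk']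
    by_cases hTa : T ≤ zpowers a
    · rw [show zpowers a = C by rw [← hCeq, sup_eq_left.mpr hTa], hCi]
    exfalso
    haveI hCn : C.Normal := normal_of_index_eq_two hCi
    have hCab : ∀ u ∈ C, ∀ v ∈ C, u * v = v * u := by
      have hTa' : T ≤ centralizer (zpowers a : Set X) := hTc.trans (center_le_centralizer _)
      obtain ⟨t, ht⟩ := ((Subgroup.isCyclic_iff_exists_zpowers_eq_top T).mp (isCyclic_of_prime_card (p := 2) hT))
      intro u hu v hv
      rw [← hCeq, ← ht] at hu hv
      exact sup_zpowers_comm (fun x hx y hy => setLike_mul_comm hx hy)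
        (hTa' (ht ▸ mem_zpowers t)) u hu v hv
    obtain ⟨x, -, hxC⟩ := SetLike.exists_of_lt (lt_top_iff_ne_top.mpr fun h : C = ⊤ => by
      rw [h, index_top] at hCi; norm_num at hCi)
    have hgen : closure {a, x} = ⊤ := by
      refine eq_top_of_sup_frattini ?_
      rw [← sup_zpowers_eq_closure, eq_top_iff,
        ← eq_sup_zpowers_of_card hP (K := ⊤) le_top
          (by rw [card_top, ← C.card_mul_index, hCi, mul_comm]) (mem_top x) hxC, ← hCeq]
      exact sup_le (sup_le (le_sup_left.trans le_sup_left)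
        ((hTD.trans (commutator_le_frattini hP)).trans le_sup_right)) (le_sup_right.trans le_sup_left)
    set c := ⁅x, a⁆
    have haC : a ∈ C := hCeq ▸ mem_sup_left (mem_zpowers a)
    have hcC : c ∈ C := by
      rw [show c = x * a * x⁻¹ * a⁻¹ from rfl]
      exact mul_mem (hCn.conj_mem a haC x) (inv_mem haC)
    obtain ⟨k, t, ht, hxa⟩ : ∃ k : ℤ, ∃ t ∈ T, x * a * x⁻¹ = a ^ k * t := by
      have := hCn.conj_mem a haC x
      rw [← hCeq] at this
      obtain ⟨_, hu, t, ht, e⟩ := mem_sup_of_normal_right.mp this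
      obtain ⟨k, rfl⟩ := mem_zpowers_iff.mp hu
      exact ⟨k, t, ht, e.symm⟩
    have hcn : (zpowers c).Normal := by
      rw [← normalizer_eq_top_iff, eq_top_iff, ← hgen, closure_le]
      have hxc : x * c * x⁻¹ ∈ zpowers c := by
        have e1 : x * c * x⁻¹ = ⁅x, a ^ k * t⁆ := by
          rw [← hxa]; simp [c, commutatorElement_def, mul_assoc]
        have e2 : x * a ^ k * x⁻¹ = c ^ k * a ^ k := by
          rw [← conj_zpow, ← Commute.mul_zpow (hCab c hcC a haC)]
          congr 1
          simp [c, commutatorElement_def]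
        have e3 : ⁅x, a ^ k * t⁆ = c ^ k := by
          rw [commutatorElement_mul_right_eq_mul_conj, show ⁅x, t⁆ = 1 from commutatorElement_eq_one_iff_commute.mpr (commute_of_mem_center (hTc ht) x),
            mul_one, mul_inv_cancel_right, commutatorElement_def, e2, mul_inv_cancel_right]
        rw [e1, e3]
        exact zpow_mem (mem_zpowers c) k
      rintro y (rfl | rfl)
      · refine mem_normalizer_of_conj_le (fun u hu => ?_)
        obtain ⟨j, rfl⟩ := mem_zpowers_iff.mp hu
        rw [← hCab _ (zpow_mem hcC j) _ haC, mul_inv_cancel_right]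
        exact hu
      · refine mem_normalizer_of_conj_le (fun u hu => ?_)
        obtain ⟨j, rfl⟩ := mem_zpowers_iff.mp hu
        rw [← conj_zpow]
        exact zpow_mem hxc j
    have hDle : D ≤ zpowers c := by
      rw [hDdef, _root_.commutator_def, commutator_le]
      exact fun u _ v _ => commutator_mem_of_generators hgen (mem_zpowers c) u v
    have hDeq : D = zpowers c :=
      le_antisymm hDle (zpowers_le.mpr (commutator_mem_commutator (mem_top x) (mem_top a)))
    have hco : 4 ≤ orderOf c := by
      rw [← Nat.card_zpowers, ← hDeq]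
      have := D.card_mul_index
      rw [hab, hX] at this
      have : 2 ^ 4 ≤ 2 ^ (n + 1) := Nat.pow_le_pow_right (by norm_num) (by omega)
      omega
    obtain ⟨i, s, hs, hcd⟩ : ∃ i : ℤ, ∃ s ∈ T, c = a ^ i * s := by
      have h := hcC
      rw [← hCeq] at h
      obtain ⟨_, hu, s, hs, e⟩ := mem_sup_of_normal_right.mp h
      obtain ⟨i, rfl⟩ := mem_zpowers_iff.mp hu
      exact ⟨i, s, hs, e.symm⟩
    have hs2 : s ^ 2 = 1 := by
      have := pow_card_eq_one' (G := T) (x := ⟨s, hs⟩)
      rw [hT] at this
      simpa using congrArg Subtype.val this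
    have hc2 : c ^ 2 ∈ zpowers a := by
      rw [hcd, Commute.mul_pow (commute_of_mem_center (hTc hs) _), hs2, mul_one]
      exact pow_mem (zpow_mem (mem_zpowers a) i) 2
    have hc2ne : c ^ 2 ≠ 1 := fun e => by
      have := Nat.le_of_dvd (by norm_num) (orderOf_dvd_of_pow_eq_one e)
      omega
    obtain ⟨w, hw, -, hwo⟩ : ∃ w ∈ zpowers (c ^ 2), w ∈ zpowers a ∧ orderOf w = 2 := by
      obtain ⟨⟨w, hw⟩, hwo⟩ := exists_prime_orderOf_dvd_card' (G := zpowers (c ^ 2)) 2 (by
        obtain ⟨j, hj⟩ := exists_subgroup_card_eq_pow hP (zpowers (c ^ 2))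
        rw [hj]
        refine dvd_pow_self 2 fun h => hc2ne ?_
        rw [h, pow_zero, Nat.card_zpowers, orderOf_eq_one_iff] at hj
        exact hj)
      exact ⟨w, hw, zpowers_le.mpr hc2 hw, by rw [← hwo, Subgroup.orderOf_mk]⟩
    refine hTa fun u hu => ?_
    have hu2 : u ^ 2 = 1 := by
      have := pow_card_eq_one' (G := T) (x := ⟨u, hu⟩)
      rw [hT] at this
      simpa using congrArg Subtype.val this
    have := mem_zpowers_of_isCyclic (p := 2) (C := zpowers c) inferInstance
      (zpowers_le.mpr (pow_mem (mem_zpowers c) 2) hw) (hDeq ▸ hTD hu) hwo hu2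
    exact zpowers_le.mpr hc2 (zpowers_le.mpr hw this)

/-- Normal forms for 2-groups with abelianization of order four. -/
theorem two_group_data {X : Type u} [Group X] [Finite X] {n : ℕ} (hn : 3 ≤ n) (hX : Nat.card X = 2 ^ n)
    (hab : (_root_.commutator X).index = 4) :
    ∃ a b : X, orderOf a = 2 ^ (n - 1) ∧ b ∉ zpowers a ∧ b ^ 2 ∈ center X ∧
      b * a * b⁻¹ * a ∈ center X ∧ center X = zpowers (a ^ 2 ^ (n - 2)) ∧
      Group.nilpotencyClass X = n - 1 := by
  haveI : Fact (Nat.Prime 2) := ⟨Nat.prime_two⟩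
  have hP : IsPGroup 2 X := IsPGroup.of_card hX
  have h8 : 2 ^ 3 ≤ 2 ^ n := Nat.pow_le_pow_right (by norm_num) hn
  obtain ⟨a, hai⟩ := cyclic_index_two_of_card_ab n X hn hX hab
  obtain ⟨m, rfl⟩ : ∃ m, n = m + 1 := ⟨n - 1, by omega⟩
  have ha : orderOf a = 2 ^ m := by
    have := (zpowers a).card_mul_index
    rw [Nat.card_zpowers, hai, hX, pow_succ] at this
    omega
  haveI := normal_of_index_eq_two hai
  obtain ⟨b₀, -, hb₀⟩ := SetLike.exists_of_lt (lt_top_iff_ne_top.mpr fun h : zpowers a = ⊤ => by
    rw [h, index_top] at hai; norm_num at hai)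
  have hgen : ∀ b, b ∉ zpowers a → closure {a, b} = ⊤ := fun b hb => by
    rw [← sup_zpowers_eq_closure]
    exact eq_sup_zpowers_of_card hP le_top
      (by rw [card_top, ← (zpowers a).card_mul_index, hai, mul_comm]) (mem_top b) hb
  have hnc : ∀ b, b ∉ zpowers a → ¬ Commute b a := fun b hb h => by
    have : _root_.commutator X = ⊥ := by
      rw [eq_bot_iff, _root_.commutator_def, commutator_le]
      exact fun u _ v _ => commutator_mem_of_generators (N := ⊥) (hgen b hb)
        (mem_bot.mpr (commutatorElement_eq_one_iff_commute.mpr h)) u v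
    rw [this, index_bot, hX] at hab
    omega
  obtain ⟨hm, i, hcases⟩ := two_local ha
    (Subgroup.Normal.conj_mem inferInstance a (mem_zpowers a) b₀)
    (hai ▸ (zpowers a).pow_index_mem b₀) (hnc b₀ hb₀)
  set b := b₀ * a ^ i
  have hbA : b ∉ zpowers a := fun h =>
    hb₀ (by simpa [b] using mul_mem h (inv_mem (zpow_mem (mem_zpowers a) i)))
  set z := a ^ 2 ^ (m - 1) with hzdef
  have hzo : orderOf z = 2 := by
    obtain ⟨j, rfl⟩ : ∃ j, m = j + 1 := ⟨m - 1, by omega⟩
    rw [hzdef, Nat.add_sub_cancel, orderOf_pow' _ (pow_ne_zero _ two_ne_zero), ha,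
      Nat.gcd_eq_right (pow_dvd_pow 2 (Nat.le_succ j)), pow_succ,
      Nat.mul_div_cancel_left _ (pow_pos two_pos j)]
  have hz2 : z ^ 2 = 1 := orderOf_dvd_iff_pow_eq_one.mp hzo.dvd
  have hzc : z ∈ center X := by
    haveI : (zpowers z).Normal := ⟨fun u hu g => by
      obtain ⟨j, rfl⟩ := mem_zpowers_iff.mp hu
      refine mem_zpowers_of_isCyclic (p := 2) (C := zpowers a) inferInstance (pow_mem (mem_zpowers a) _)
        (Subgroup.Normal.conj_mem inferInstance _ (zpow_mem (pow_mem (mem_zpowers a) _) _) g) hzo ?_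
      rw [conj_pow, ← zpow_natCast, zpow_comm, zpow_natCast, hz2, one_zpow, mul_one, mul_inv_cancel]⟩
    exact le_center_of_card_eq hP (N := zpowers z) (by rw [Nat.card_zpowers, hzo]) (mem_zpowers z)
  have hmain : b ^ 2 ∈ zpowers z ∧ b * a * b⁻¹ * a ∈ zpowers z ∧
      ∀ g ∈ zpowers a, Commute g b → g ^ 2 = 1 := by
    have fix : ∀ r : ℤ, b * a * b⁻¹ = a ^ r → ∀ g ∈ zpowers a, Commute g b →
        ∃ j : ℤ, g = a ^ j ∧ ((2 : ℤ) ^ m) ∣ r * j - j := by
      intro r hr g hg hgb
      obtain ⟨j, rfl⟩ := mem_zpowers_iff.mp hg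
      refine ⟨j, rfl, ?_⟩
      have h1 : a ^ (r * j) = a ^ j := by
        rw [← conj_zpow_of_conj_eq hr, ← hgb.eq, mul_inv_cancel_right]
      simpa using (zpow_eq_zpow_iff_dvd ha).mp h1
    have inv_fix : b * a * b⁻¹ = a⁻¹ → ∀ g ∈ zpowers a, Commute g b → g ^ 2 = 1 := fun h g hg hgb => by
      obtain ⟨j, rfl, hj⟩ := fix (-1) (by rw [h, zpow_neg_one]) g hg hgb
      rw [← zpow_natCast, ← zpow_mul, ← zpow_zero a, zpow_eq_zpow_iff_dvd ha]
      have := hj.neg_right
      push_cast
      rw [show j * 2 - 0 = -(-1 * j - j) by ring]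
      exact this
    rcases hcases with ⟨h1, h2⟩ | ⟨h1, h2⟩ | ⟨h3, -, h2⟩ | ⟨h3, h1, h2⟩
    · exact ⟨h1 ▸ one_mem _, by rw [h2, inv_mul_cancel]; exact one_mem _, inv_fix h2⟩
    · exact ⟨h1 ▸ mem_zpowers _, by rw [h2, inv_mul_cancel]; exact one_mem _, inv_fix h2⟩
    · exfalso
      haveI := zpowers_normal_of_mem_center hzc
      have hD : _root_.commutator X ≤ zpowers z := by
        rw [_root_.commutator_def, commutator_le]
        refine fun u _ v _ => commutator_mem_of_generators (hgen b hbA) ?_ u v
        rw [commutatorElement_def, h2, pow_add, pow_one, mul_assoc,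
          show a ^ 2 ^ (m - 1) * a⁻¹ = a⁻¹ * a ^ 2 ^ (m - 1) from
            (((Commute.refl a).inv_right).pow_left _).eq, mul_inv_cancel_left]
        exact mem_zpowers z
      have h := (_root_.commutator X).card_mul_index
      rw [hab, hX] at h
      have hle := Nat.le_of_dvd Nat.card_pos (card_dvd_of_le hD)
      rw [Nat.card_zpowers, hzo] at hle
      have : 2 ^ 4 ≤ 2 ^ (m + 1) := Nat.pow_le_pow_right (by norm_num) (by omega)
      omega
    · refine ⟨h1 ▸ one_mem _, ?_, fun g hg hgb => ?_⟩
      · rw [h2, ← pow_succ, Nat.sub_add_cancel Nat.one_le_two_pow]; exact mem_zpowers z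
      · obtain ⟨j, rfl, hj⟩ := fix ((2 ^ (m - 1) - 1 : ℕ) : ℤ) (by rw [h2, zpow_natCast]) g hg hgb
        obtain ⟨l, rfl⟩ : ∃ l, m = l + 3 := ⟨m - 3, by omega⟩
        rw [← zpow_natCast, ← zpow_mul, ← zpow_zero a, zpow_eq_zpow_iff_dvd ha]
        rw [Nat.cast_sub Nat.one_le_two_pow, show l + 3 - 1 = l + 2 from rfl] at hj
        push_cast at hj ⊢
        have hco : IsCoprime ((2 : ℤ) ^ (l + 3)) (2 ^ (l + 1) - 1) := by
          refine ((Int.prime_two).coprime_iff_not_dvd.mpr fun hd => ?_).pow_left
          have := dvd_sub (dvd_pow_self (2 : ℤ) (Nat.succ_ne_zero l)) hd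
          rw [sub_sub_cancel] at this
          norm_num at this
        refine hco.dvd_of_dvd_mul_left (z := j * 2 - 0) ?_
        rw [show ((2 : ℤ) ^ (l + 1) - 1) * (j * 2 - 0) = (2 ^ (l + 2) - 1) * j - j by ring]
        exact hj
  obtain ⟨hb2, hba, hfix⟩ := hmain
  have hcen : center X = zpowers z := by
    refine le_antisymm (fun g hg => ?_) (zpowers_le.mpr hzc)
    have hgA : g ∈ zpowers a := by
      by_contra hgA
      exact hnc g hgA (commute_of_mem_center hg a).symm
    have hg2 := hfix g hgA (commute_of_mem_center hg b).symm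
    exact mem_zpowers_of_isCyclic (p := 2) (C := zpowers a) inferInstance
      (pow_mem (mem_zpowers a) _) hgA hzo hg2
  have he : m + 1 - 2 = m - 1 := by omega
  refine ⟨a, b, by simpa using ha, hbA, hcen ▸ hb2, hcen ▸ hba, by rw [he]; exact hcen, ?_⟩
  set A := centralizer ({b} : Set X)
  have hAa : Nat.card (A ⊓ zpowers a : Subgroup X) = 2 := by
    refine le_antisymm ?_ ?_
    · have h := card_inf_cyclic_le (E := A ⊓ zpowers a) (C := zpowers a) inferInstance two_pos
        fun g hg => hfix g hg.2 (mem_centralizer_singleton_iff.mp hg.1)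
      rwa [inf_assoc, inf_idem] at h
    · rw [← hzo, ← Nat.card_zpowers]
      exact Nat.le_of_dvd Nat.card_pos (card_dvd_of_le (zpowers_le.mpr
        ⟨mem_centralizer_singleton_iff.mpr (commute_of_mem_center hzc b).symm.eq,
          pow_mem (mem_zpowers a) _⟩))
  have hA4 : Nat.card A = 2 ^ 2 := by
    refine le_antisymm ?_ ?_
    · have := card_le_card_inf_mul_index A (zpowers a)
      rw [hAa, hai] at this
      exact this
    · have := mul_card_le_of_lt hP (lt_of_le_of_ne (inf_le_left : A ⊓ zpowers a ≤ A) fun h =>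
        hbA ((h.ge (mem_centralizer_singleton_iff.mpr rfl)).2))
      rwa [hAa] at this
  have hAC : centralizer (A : Set X) = A :=
    le_antisymm (centralizer_le fun x (hx : x = b) =>
        hx ▸ mem_centralizer_singleton_iff.mpr rfl)
      fun u hu => mem_centralizer_iff.mpr fun v hv =>
        congrArg Subtype.val ((IsPGroup.isMulCommutative_of_card_eq_prime_sq hA4).is_comm.comm ⟨v, hv⟩ ⟨u, hu⟩)
  simpa using maximal_class_of_selfCentralizing (m + 1) X hX A hA4 hAC

end Cfsg.Agent.PGroup
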