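import Cfsg.Agent.Lib.PGroup.NormalAbelian

/-!
# Groups with a cyclic maximal subgroup

All core lemmas are local (about two elements `a`, `b` with `b` normalizing `⟨a⟩` and `b ^ p ∈ ⟨a⟩`).
* `conj_zpow_of_conj_eq`, `commute_pow_arith`: the action of `b` on `⟨a⟩`.
* `odd_local`: for odd `p`, `⁅b, a⁆` has order dividing `p` and is centralized by `a` and `b`.
* `odd_local_order_p`: for odd `p`, some `b * a ^ i` has `p`-th power `1` (unless `a ∈ ⟨b⟩`).
* `two_local`: the four non-abelian types for `p = 2`.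
* `dihedralEquivOfGen`, `quaternionEquivOfGen`: recognition of dihedral and quaternion groups.
-/

set_option linter.style.haveILetI false
set_option linter.unusedSectionVars false

open Subgroup
open scoped commutatorElement

namespace Cfsg.Agent.PGroup

variable {G : Type*} [Group G]

theorem zpow_eq_zpow_iff_dvd {a : G} {N : ℕ} (ha : orderOf a = N) {i j : ℤ} :
    a ^ i = a ^ j ↔ (N : ℤ) ∣ i - j := by
  rw [← ha, orderOf_dvd_iff_zpow_eq_one, zpow_sub, mul_inv_eq_one]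

theorem conj_zpow_of_conj_eq {a b : G} {r : ℤ} (h : b * a * b⁻¹ = a ^ r) (i : ℤ) :
    b * a ^ i * b⁻¹ = a ^ (r * i) := by
  rw [← conj_zpow, h, ← zpow_mul]

theorem conj_pow_of_conj_eq {a b : G} {r : ℤ} (h : b * a * b⁻¹ = a ^ r) (k : ℕ) :
    b ^ k * a * (b ^ k)⁻¹ = a ^ (r ^ k) := by
  induction k with
  | zero => simp
  | succ k ih =>
    calc b ^ (k + 1) * a * (b ^ (k + 1))⁻¹ = b * (b ^ k * a * (b ^ k)⁻¹) * b⁻¹ := by
          rw [pow_succ']; group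
      _ = a ^ (r ^ (k + 1)) := by rw [ih, conj_zpow_of_conj_eq h, pow_succ']

/-- If `b ^ n` commutes with `a` then `r ^ n ≡ 1` modulo the order of `a`. -/
theorem dvd_pow_sub_one {a b : G} {r : ℤ} {N : ℕ} (ha : orderOf a = N) (h : b * a * b⁻¹ = a ^ r)
    {n : ℕ} (hn : Commute (b ^ n) a) : (N : ℤ) ∣ r ^ n - 1 := by
  rw [← zpow_eq_zpow_iff_dvd ha, ← conj_pow_of_conj_eq h, zpow_one, hn.eq, mul_inv_cancel_right]

theorem int_dvd_sub_one_of_pow {p m : ℕ} (hp : p.Prime) (hp2 : p ≠ 2) {r : ℤ}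
    (h : ((p ^ m : ℕ) : ℤ) ∣ r ^ p - 1) (hm : m ≠ 0) :
    (p : ℤ) ∣ r - 1 ∧ ((p ^ (m - 1) : ℕ) : ℤ) ∣ r - 1 := by
  haveI := Fact.mk hp
  have h1 : (p : ℤ) ∣ r ^ p - 1 := by
    refine dvd_trans ?_ h
    exact_mod_cast dvd_pow_self p hm
  have h2 : (p : ℤ) ∣ r - 1 := by
    rw [← ZMod.intCast_zmod_eq_zero_iff_dvd] at h1 ⊢
    simpa [ZMod.pow_card] using h1
  refine ⟨h2, ?_⟩
  have h3 : ¬ (p : ℤ) ∣ r := fun h4 => by
    have h5 := dvd_sub h4 h2
    rw [sub_sub_cancel] at h5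
    exact hp.one_lt.ne' (by exact_mod_cast Int.eq_one_of_dvd_one (by positivity) h5)
  have e := Int.emultiplicity_pow_sub_pow hp (hp.odd_of_ne_two hp2) (y := 1) h2 h3 p
  rw [one_pow, (Nat.finiteMultiplicity_iff.mpr ⟨hp.ne_one, hp.pos⟩).emultiplicity_self] at e
  push_cast
  rw [pow_dvd_iff_le_emultiplicity]
  push_cast at h
  rw [pow_dvd_iff_le_emultiplicity, e] at h
  obtain ⟨m, rfl⟩ : ∃ j, m = j + 1 := ⟨m - 1, by omega⟩
  simp only [Nat.add_sub_cancel]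
  push_cast at h
  exact (ENat.add_le_add_iff_right ENat.one_ne_top).mp h

/-- The local structure for odd `p`: the commutator has order dividing `p` and is central in `⟨a, b⟩`. -/
theorem odd_local {p m : ℕ} (hp : p.Prime) (hp2 : p ≠ 2) {a b : G} (ha : orderOf a = p ^ m)
    (hb : b * a * b⁻¹ ∈ zpowers a) (hbp : Commute (b ^ p) a) :
    ⁅b, a⁆ ^ p = 1 ∧ Commute a ⁅b, a⁆ ∧ Commute b ⁅b, a⁆ ∧ ⁅b, a⁆ ∈ zpowers a := by
  obtain ⟨r, hr⟩ := mem_zpowers_iff.mp hb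
  rcases Nat.eq_zero_or_pos m with rfl | hm
  · have : a = 1 := by simpa using ha
    subst this
    simp
  have hd := dvd_pow_sub_one ha hr.symm hbp
  obtain ⟨h1, h2⟩ := int_dvd_sub_one_of_pow hp hp2 hd hm.ne'
  have hc : ⁅b, a⁆ = a ^ (r - 1) := by
    rw [commutatorElement_def, ← hr, zpow_sub, zpow_one]
  have hmul : ((p ^ m : ℕ) : ℤ) ∣ (r - 1) * p := by
    obtain ⟨j, rfl⟩ : ∃ j, m = j + 1 := ⟨m - 1, by omega⟩
    rw [pow_succ]; push_cast
    exact mul_dvd_mul (by simpa using h2) dvd_rfl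
  refine ⟨?_, hc ▸ (Commute.refl a).zpow_right _, ?_, hc ▸ zpow_mem (mem_zpowers a) _⟩
  · rw [hc, ← zpow_natCast, ← zpow_mul, ← orderOf_dvd_iff_zpow_eq_one, ha]; exact hmul
  · have h3 : b * a ^ (r - 1) * b⁻¹ = a ^ (r - 1) := by
      rw [conj_zpow_of_conj_eq hr.symm, zpow_eq_zpow_iff_dvd ha]
      have e : r * (r - 1) - (r - 1) = (r - 1) * (r - 1) := by ring
      rw [e]
      obtain ⟨j, rfl⟩ : ∃ j, m = j + 1 := ⟨m - 1, by omega⟩
      rw [pow_succ]; push_cast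
      exact mul_dvd_mul (by simpa using h2) h1
    rw [hc]
    exact mul_inv_eq_iff_eq_mul.mp h3

/-- For odd `p`, some element of the coset `b⟨a⟩` has order dividing `p`, unless `a ∈ ⟨b⟩`. -/
theorem odd_local_order_p {p m : ℕ} (hp : p.Prime) (hp2 : p ≠ 2) {a b : G} (ha : orderOf a = p ^ m)
    (hb : b * a * b⁻¹ ∈ zpowers a) (hbp : b ^ p ∈ zpowers a) :
    a ∈ zpowers b ∨ ∃ i : ℤ, (b * a ^ i) ^ p = 1 := by
  obtain ⟨s, hs⟩ := mem_zpowers_iff.mp hbp
  by_cases hdvd : (p : ℤ) ∣ s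
  · right
    obtain ⟨t, rfl⟩ := hdvd
    obtain ⟨hc1, hca, hcb, -⟩ := odd_local hp hp2 ha hb (hs ▸ (Commute.refl a).zpow_left _)
    refine ⟨-t, ?_⟩
    have hc' : Commute b ⁅a ^ (-t), b⁆ ∧ Commute (a ^ (-t)) ⁅a ^ (-t), b⁆ ∧ ⁅a ^ (-t), b⁆ ^ p = 1 := by
      have e : ⁅a ^ (-t), b⁆ = ⁅b, a⁆ ^ t := by
        have key : ∀ i : ℤ, b * a ^ i * b⁻¹ = ⁅b, a⁆ ^ i * a ^ i := by
          intro i
          rw [← conj_zpow, ← Commute.mul_zpow hca.symm]
          congr 1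
          simp [commutatorElement_def]
        calc ⁅a ^ (-t), b⁆ = a ^ (-t) * (b * a ^ t * b⁻¹) := by
              simp [commutatorElement_def, zpow_neg, mul_assoc]
          _ = a ^ (-t) * (⁅b, a⁆ ^ t * a ^ t) := by rw [key]
          _ = a ^ (-t) * (a ^ t * ⁅b, a⁆ ^ t) := by rw [(hca.zpow_zpow t t).eq]
          _ = ⁅b, a⁆ ^ t := by rw [← mul_assoc, ← zpow_add, neg_add_cancel, zpow_zero, one_mul]
      rw [e]
      refine ⟨hcb.zpow_right _, hca.zpow_zpow _ _, ?_⟩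
      rw [← zpow_natCast, zpow_comm, zpow_natCast, hc1, one_zpow]
    rw [mul_pow_prime_eq hp hp2 hc'.1 hc'.2.1 hc'.2.2, ← hs, ← zpow_natCast (a ^ (-t)) p,
      ← zpow_mul, ← zpow_add]
    rw [show (p : ℤ) * t + -t * p = 0 by ring, zpow_zero]
  · left
    obtain ⟨u, v, huv⟩ : IsCoprime ((p ^ m : ℕ) : ℤ) s := by
      push_cast
      exact ((Nat.prime_iff_prime_int.mp hp).coprime_iff_not_dvd.mpr hdvd).pow_left
    have : a = (a ^ s) ^ v := by
      rw [← zpow_mul]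
      nth_rewrite 1 [← zpow_one a]
      rw [zpow_eq_zpow_iff_dvd ha]
      exact ⟨u, by rw [← huv]; ring⟩
    rw [this, hs]
    exact zpow_mem (pow_mem (mem_zpowers b) p) v

theorem two_dvd_sub_one_or_add_one {m : ℕ} {r : ℤ} (h : (2 : ℤ) ^ (m + 1) ∣ r ^ 2 - 1) :
    (2 : ℤ) ^ m ∣ r - 1 ∨ (2 : ℤ) ^ m ∣ r + 1 := by
  have hodd : Odd r := by
    rcases Int.even_or_odd r with ⟨k, rfl⟩ | ho
    · have h2 : (2 : ℤ) ∣ (k + k) ^ 2 - 1 := dvd_trans (dvd_pow_self 2 (Nat.succ_ne_zero m)) h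
      obtain ⟨j, hj⟩ := h2
      ring_nf at hj
      omega
    · exact ho
  obtain ⟨t, rfl⟩ := hodd
  rcases m with _ | m
  · left; simp
  rw [show (2 * t + 1) ^ 2 - 1 = 2 ^ 2 * (t * (t + 1)) by ring,
    show (2 : ℤ) ^ (m + 1 + 1) = 2 ^ 2 * 2 ^ m by ring] at h
  have h' : (2 : ℤ) ^ m ∣ t * (t + 1) := (mul_dvd_mul_iff_left (by norm_num)).mp h
  have hP : Prime (2 : ℤ) := Int.prime_two
  rcases Int.even_or_odd t with ht | ht
  · left
    have hco : IsCoprime ((2 : ℤ) ^ m) (t + 1) := by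
      refine (hP.coprime_iff_not_dvd.mpr ?_).pow_left
      intro hd; obtain ⟨k, rfl⟩ := ht; omega
    rw [show (2 * t + 1 - 1) = 2 * t by ring, pow_succ']
    exact mul_dvd_mul dvd_rfl (hco.dvd_of_dvd_mul_right h')
  · right
    have hco : IsCoprime ((2 : ℤ) ^ m) t := by
      refine (hP.coprime_iff_not_dvd.mpr ?_).pow_left
      intro hd; obtain ⟨k, rfl⟩ := ht; omega
    rw [show (2 * t + 1 + 1) = 2 * (t + 1) by ring, pow_succ']
    exact mul_dvd_mul dvd_rfl (hco.dvd_of_dvd_mul_left h')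

/-- The local structure for `p = 2`: after changing `b` inside `b⟨a⟩` one of the four non-abelian types occurs. -/
theorem two_local {m : ℕ} {a b : G} (ha : orderOf a = 2 ^ m) (hb : b * a * b⁻¹ ∈ zpowers a)
    (hb2 : b ^ 2 ∈ zpowers a) (hnc : ¬ Commute b a) :
    2 ≤ m ∧ ∃ i : ℤ,
      ((b * a ^ i) ^ 2 = 1 ∧ (b * a ^ i) * a * (b * a ^ i)⁻¹ = a⁻¹) ∨
      ((b * a ^ i) ^ 2 = a ^ (2 ^ (m - 1)) ∧ (b * a ^ i) * a * (b * a ^ i)⁻¹ = a⁻¹) ∨
      (3 ≤ m ∧ (b * a ^ i) ^ 2 = 1 ∧ (b * a ^ i) * a * (b * a ^ i)⁻¹ = a ^ (1 + 2 ^ (m - 1))) ∨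
      (3 ≤ m ∧ (b * a ^ i) ^ 2 = 1 ∧ (b * a ^ i) * a * (b * a ^ i)⁻¹ = a ^ (2 ^ (m - 1) - 1)) := by
  obtain ⟨r, hr'⟩ := mem_zpowers_iff.mp hb
  obtain ⟨s, hs⟩ := mem_zpowers_iff.mp hb2
  have hr := hr'.symm
  have hzp : ∀ {i j : ℤ}, a ^ i = a ^ j ↔ ((2 : ℤ) ^ m) ∣ i - j := by
    intro i j; rw [zpow_eq_zpow_iff_dvd ha]; simp
  have hr1 : ¬ ((2 : ℤ) ^ m) ∣ r - 1 := fun h => hnc (by
    rw [← hzp, zpow_one, ← hr] at h
    exact mul_inv_eq_iff_eq_mul.mp h)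
  have hsq : ((2 : ℤ) ^ m) ∣ r ^ 2 - 1 := by
    simpa using dvd_pow_sub_one ha hr (hs ▸ (Commute.refl a).zpow_left s)
  obtain ⟨k, rfl⟩ : ∃ k, m = k + 2 := by
    refine ⟨m - 2, ?_⟩
    by_contra hcon
    have : m < 2 := by omega
    apply hr1
    interval_cases m
    · simp
    · rw [pow_one] at hsq ⊢
      rcases Int.even_or_odd r with ⟨j, rfl⟩ | ⟨j, rfl⟩
      · obtain ⟨u, hu⟩ := hsq; ring_nf at hu; omega
      · exact ⟨j, by ring⟩
  refine ⟨by omega, ?_⟩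
  have hconj : ∀ i : ℤ, (b * a ^ i) * a * (b * a ^ i)⁻¹ = a ^ r := fun i => by
    rw [← hr]; group
  have hsqr : ∀ i : ℤ, (b * a ^ i) ^ 2 = a ^ (i * (r + 1) + s) := fun i => by
    calc (b * a ^ i) ^ 2 = (b * a ^ i * b⁻¹) * b ^ 2 * a ^ i := by rw [sq, sq]; group
      _ = a ^ (r * i) * a ^ s * a ^ i := by rw [conj_zpow_of_conj_eq hr, hs]
      _ = _ := by rw [← zpow_add, ← zpow_add]; congr 1; ring
  have hfix : ((2 : ℤ) ^ (k + 2)) ∣ r * s - s := by
    rw [← hzp, ← conj_zpow_of_conj_eq hr, hs]; group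
  have e1 : k + 2 - 1 = k + 1 := rfl
  simp only [e1]
  have hh : (2 : ℤ) ^ (k + 2) = 2 * 2 ^ (k + 1) := by ring
  have inv_case : ((2 : ℤ) ^ (k + 2)) ∣ r + 1 → ∃ i : ℤ,
      ((b * a ^ i) ^ 2 = 1 ∧ (b * a ^ i) * a * (b * a ^ i)⁻¹ = a⁻¹) ∨
      ((b * a ^ i) ^ 2 = a ^ (2 ^ (k + 1)) ∧ (b * a ^ i) * a * (b * a ^ i)⁻¹ = a⁻¹) := by
    intro h
    refine ⟨0, ?_⟩
    rw [hconj, hsqr, zero_mul, zero_add]
    have hr0 : a ^ r = a⁻¹ := by rw [← zpow_neg_one, hzp]; simpa using h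
    have h2s : (2 : ℤ) * 2 ^ (k + 1) ∣ 2 * s := by
      rw [← hh]
      have := dvd_sub (h.mul_right s) hfix
      rwa [show (r + 1) * s - (r * s - s) = 2 * s by ring] at this
    obtain ⟨t, rfl⟩ := (mul_dvd_mul_iff_left (by norm_num : (2 : ℤ) ≠ 0)).mp h2s
    rcases Int.even_or_odd t with ⟨u, rfl⟩ | ⟨u, rfl⟩
    · exact Or.inl ⟨by rw [← zpow_zero a, hzp]; exact ⟨u, by ring⟩, hr0⟩
    · exact Or.inr ⟨by rw [← zpow_natCast, hzp]; exact ⟨u, by push_cast; ring⟩, hr0⟩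
  rcases two_dvd_sub_one_or_add_one hsq with ⟨t, ht⟩ | ⟨t, ht⟩
  · obtain ⟨u, rfl⟩ : Odd t := by
      rcases Int.even_or_odd t with ⟨u, rfl⟩ | h
      · exact absurd ⟨u, by rw [ht]; ring⟩ hr1
      · exact h
    rcases k with _ | k
    · obtain ⟨i, h⟩ := inv_case ⟨u + 1, by rw [show r = (r - 1) + 1 by ring, ht]; ring⟩
      exact ⟨i, h.imp_right Or.inl⟩
    have hr0 : a ^ r = a ^ (1 + 2 ^ (k + 1 + 1) : ℕ) := by
      rw [← zpow_natCast, hzp]
      exact ⟨u, by rw [show r = (r - 1) + 1 by ring, ht]; push_cast; ring⟩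
    obtain ⟨s', rfl⟩ : (2 : ℤ) ∣ s := by
      have h1 : (2 : ℤ) ^ (k + 1 + 1) * 2 ∣ 2 ^ (k + 1 + 1) * ((2 * u + 1) * s) := by
        rw [← mul_assoc, ← ht, show (r - 1) * s = r * s - s by ring]
        convert hfix using 1
        ring
      have h2 := (mul_dvd_mul_iff_left (by positivity)).mp h1
      exact ((Int.prime_two).dvd_mul.mp h2).resolve_left (by omega)
    obtain ⟨x, y, hxy⟩ : IsCoprime (1 + 2 ^ (k + 1) * (2 * u + 1) : ℤ) (2 ^ (k + 2)) := by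
      refine ((Int.prime_two).coprime_iff_not_dvd.mpr ?_).pow_left.symm
      intro hd
      have : (2 : ℤ) ∣ 2 ^ (k + 1) * (2 * u + 1) := (dvd_pow_self 2 (Nat.succ_ne_zero k)).mul_right _
      have h1 := dvd_sub hd this
      rw [add_sub_cancel_right] at h1
      norm_num at h1
    refine ⟨-(x * s'), Or.inr (Or.inr (Or.inl ⟨by omega, ?_, by rw [hconj, hr0]⟩))⟩
    rw [hsqr, ← zpow_zero a, hzp]
    refine ⟨y * s', ?_⟩
    have : r + 1 = 2 * (1 + 2 ^ (k + 1) * (2 * u + 1)) := by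
      rw [show r + 1 = (r - 1) + 2 by ring, ht]; ring
    rw [this]
    linear_combination (-2 * s') * hxy
  · rcases Int.even_or_odd t with ⟨u, rfl⟩ | ⟨u, rfl⟩
    · obtain ⟨i, h⟩ := inv_case ⟨u, by rw [ht]; ring⟩
      exact ⟨i, h.imp_right Or.inl⟩
    rcases k with _ | k
    · exfalso
      exact hr1 ⟨u, by rw [show r - 1 = (r + 1) - 2 by ring, ht]; ring⟩
    have hr0 : a ^ r = a ^ (2 ^ (k + 1 + 1) - 1 : ℕ) := by
      rw [← zpow_natCast, hzp]
      refine ⟨u, ?_⟩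
      rw [show r = (r + 1) - 1 by ring, ht, Nat.cast_sub Nat.one_le_two_pow]
      push_cast; ring
    obtain ⟨s', rfl⟩ : (2 : ℤ) ^ (k + 1 + 1) ∣ s := by
      have h1 : (2 : ℤ) * 2 ^ (k + 1 + 1) ∣ 2 * ((2 ^ (k + 1) * (2 * u + 1) - 1) * s) := by
        rw [← hh]
        convert hfix using 1
        rw [show r * s - s = ((r + 1) - 2) * s by ring, ht]; ring
      have hco : IsCoprime ((2 : ℤ) ^ (k + 1 + 1)) (2 ^ (k + 1) * (2 * u + 1) - 1) := by
        refine ((Int.prime_two).coprime_iff_not_dvd.mpr ?_).pow_left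
        intro hd
        have : (2 : ℤ) ∣ 2 ^ (k + 1) * (2 * u + 1) := (dvd_pow_self 2 (Nat.succ_ne_zero k)).mul_right _
        have h1 := dvd_sub this hd
        rw [sub_sub_cancel] at h1
        norm_num at h1
      exact hco.dvd_of_dvd_mul_left ((mul_dvd_mul_iff_left (by norm_num)).mp h1)
    rcases Int.even_or_odd s' with ⟨w, rfl⟩ | ⟨w, rfl⟩
    · refine ⟨0, Or.inr (Or.inr (Or.inr ⟨by omega, ?_, by rw [hconj, hr0]⟩))⟩
      rw [hsqr, ← zpow_zero a, hzp]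
      exact ⟨w, by ring⟩
    · refine ⟨1, Or.inr (Or.inr (Or.inr ⟨by omega, ?_, by rw [hconj, hr0]⟩))⟩
      rw [hsqr, ← zpow_zero a, hzp, ht]
      exact ⟨u + w + 1, by ring⟩

/-- Powers of `a` indexed by `ZMod N`. -/
theorem pow_val_add {a : G} {N : ℕ} [NeZero N] (ha : a ^ N = 1) (i j : ZMod N) :
    a ^ (i + j).val = a ^ i.val * a ^ j.val := by
  rw [← pow_add, ZMod.val_add]
  exact (pow_eq_pow_mod _ ha).symm

theorem pow_val_neg {a : G} {N : ℕ} [NeZero N] (ha : a ^ N = 1) (i : ZMod N) :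
    a ^ (-i).val = (a ^ i.val)⁻¹ :=
  eq_inv_of_mul_eq_one_left (by rw [← pow_val_add ha, neg_add_cancel]; simp)

theorem pow_val_sub {a : G} {N : ℕ} [NeZero N] (ha : a ^ N = 1) (i j : ZMod N) :
    a ^ (i - j).val = (a ^ j.val)⁻¹ * a ^ i.val := by
  rw [sub_eq_neg_add, pow_val_add ha, pow_val_neg ha]

theorem pow_val_inj {a : G} {N : ℕ} [NeZero N] (ha : orderOf a = N) {i j : ZMod N}
    (h : a ^ i.val = a ^ j.val) : i = j :=
  ZMod.val_injective N (pow_injOn_Iio_orderOf (by simpa [ha] using i.val_lt)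
    (by simpa [ha] using j.val_lt) h)

theorem conj_pow_inv {a b : G} (h : b * a * b⁻¹ = a⁻¹) (k : ℕ) : a ^ k * b = b * (a ^ k)⁻¹ := by
  have h1 : (b * a * b⁻¹) ^ k = (a⁻¹) ^ k := by rw [h]
  rw [conj_pow, inv_pow] at h1
  calc a ^ k * b = b * (b⁻¹ * a ^ k * b) := by group
    _ = b * (b⁻¹ * (b * a ^ k * b⁻¹)⁻¹ * b) := by rw [h1, inv_inv]
    _ = _ := by group

theorem dihedralEquivOfGen [Finite G] {N : ℕ} [NeZero N] {a b : G} (ha : orderOf a = N)
    (hb : b ^ 2 = 1) (hba : b * a * b⁻¹ = a⁻¹) (hbA : b ∉ zpowers a) (hcard : Nat.card G = 2 * N) :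
    Nonempty (DihedralGroup N ≃* G) := by
  have hN : a ^ N = 1 := ha ▸ pow_orderOf_eq_one a
  let f : DihedralGroup N → G := fun g =>
    match g with | .r i => a ^ i.val | .sr i => b * a ^ i.val
  have hmul : ∀ x y, f (x * y) = f x * f y := by
    have hc := fun k => conj_pow_inv hba k
    rintro (i | i) (j | j)
    · exact pow_val_add hN i j
    · show b * a ^ (j - i).val = a ^ i.val * (b * a ^ j.val)
      rw [pow_val_sub hN, ← mul_assoc (a ^ i.val), hc, mul_assoc]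
    · show b * a ^ (i + j).val = b * a ^ i.val * a ^ j.val
      rw [pow_val_add hN, mul_assoc]
    · show a ^ (j - i).val = b * a ^ i.val * (b * a ^ j.val)
      rw [pow_val_sub hN, mul_assoc, ← mul_assoc (a ^ i.val), hc]
      simp [← mul_assoc, ← sq, hb]
  have hinj : Function.Injective f := by
    rintro (i | i) (j | j) h
    · exact congrArg _ (pow_val_inj ha h)
    · exact absurd (by rw [show b = a ^ i.val * (a ^ j.val)⁻¹ by rw [show a ^ i.val = b * a ^ j.val from h]; group]; exact mul_mem (pow_mem (mem_zpowers a) _) (inv_mem (pow_mem (mem_zpowers a) _))) hbA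
    · exact absurd (by rw [show b = a ^ j.val * (a ^ i.val)⁻¹ by rw [show a ^ j.val = b * a ^ i.val from h.symm]; group]; exact mul_mem (pow_mem (mem_zpowers a) _) (inv_mem (pow_mem (mem_zpowers a) _))) hbA
    · exact congrArg _ (pow_val_inj ha (mul_left_cancel h))
  exact ⟨MulEquiv.ofBijective (MonoidHom.mk' f hmul)
    (Function.Injective.bijective_of_nat_card_le hinj
      (by rw [hcard, DihedralGroup.nat_card]))⟩

theorem quaternionEquivOfGen [Finite G] {N : ℕ} [NeZero N] {a b : G} (ha : orderOf a = 2 * N)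
    (hb : b ^ 2 = a ^ N) (hba : b * a * b⁻¹ = a⁻¹) (hbA : b ∉ zpowers a)
    (hcard : Nat.card G = 4 * N) : Nonempty (QuaternionGroup N ≃* G) := by
  have hN : a ^ (2 * N) = 1 := ha ▸ pow_orderOf_eq_one a
  let f : QuaternionGroup N → G := fun g =>
    match g with | .a i => a ^ i.val | .xa i => b * a ^ i.val
  have hmul : ∀ x y, f (x * y) = f x * f y := by
    have hc := fun k => conj_pow_inv hba k
    rintro (i | i) (j | j)
    · exact pow_val_add hN i j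
    · show b * a ^ (j - i).val = a ^ i.val * (b * a ^ j.val)
      rw [pow_val_sub hN, ← mul_assoc (a ^ i.val), hc, mul_assoc]
    · show b * a ^ (i + j).val = b * a ^ i.val * a ^ j.val
      rw [pow_val_add hN, mul_assoc]
    · show a ^ ((N : ZMod (2 * N)) + j - i).val = b * a ^ i.val * (b * a ^ j.val)
      rw [add_sub_assoc, pow_val_add hN, pow_val_sub hN, ZMod.val_natCast, ← pow_eq_pow_mod _ hN,
        ← hb, mul_assoc b, ← mul_assoc (a ^ i.val), hc, sq]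
      group
  have hinj : Function.Injective f := by
    rintro (i | i) (j | j) h
    · exact congrArg _ (pow_val_inj ha h)
    · exact absurd (by rw [show b = a ^ i.val * (a ^ j.val)⁻¹ by rw [show a ^ i.val = b * a ^ j.val from h]; group]; exact mul_mem (pow_mem (mem_zpowers a) _) (inv_mem (pow_mem (mem_zpowers a) _))) hbA
    · exact absurd (by rw [show b = a ^ j.val * (a ^ i.val)⁻¹ by rw [show a ^ j.val = b * a ^ i.val from h.symm]; group]; exact mul_mem (pow_mem (mem_zpowers a) _) (inv_mem (pow_mem (mem_zpowers a) _))) hbA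
    · exact congrArg _ (pow_val_inj ha (mul_left_cancel h))
  exact ⟨MulEquiv.ofBijective (MonoidHom.mk' f hmul)
    (Function.Injective.bijective_of_nat_card_le hinj
      (by rw [hcard, Nat.card_eq_fintype_card, QuaternionGroup.card]))⟩

end Cfsg.Agent.PGroup
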