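import Cfsg.Agent.Lib.PGroup.Basic

/-!
# `Ω₁` in groups of small class

* `pow_eq_one_of_mem_closure`: closure of the `x ^ n = 1` elements, when that set is closed under products.
* `mul_pow_classTwo`, `mul_pow_classThree`: `(x*y)^p = x^p*y^p` when `x^p, y^p` centralize what is needed.
* `exponent_omega_classTwo`, `exponent_omega_classThree`: exponent `p` of `Ω₁`.
* `classTwo_of_commutator_le_center`, `classThree_centers`.
-/

set_option linter.style.haveILetI false
set_option linter.unusedSectionVars false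

open Subgroup
open scoped commutatorElement

namespace Cfsg.Agent.PGroup

variable {G : Type*} [Group G] {p : ℕ}

theorem pow_eq_one_of_mem_closure {n : ℕ} (h : ∀ x y : G, x ^ n = 1 → y ^ n = 1 → (x * y) ^ n = 1)
    {g : G} (hg : g ∈ closure {x : G | x ^ n = 1}) : g ^ n = 1 := by
  induction hg using closure_induction with
  | mem x hx => exact hx
  | one => exact one_pow n
  | mul x y _ _ hx hy => exact h x y hx hy
  | inv x _ hx => rw [inv_pow, hx, inv_one]

theorem classTwo_pow_commutator (h : ∀ a b : G, ⁅a, b⁆ ∈ center G) (x y : G) (n : ℕ) :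
    ⁅x, y⁆ ^ n = ⁅x ^ n, y⁆ :=
  (commutator_pow_left ((mem_center_iff.mp (h x y)) x) n).symm

theorem commute_of_mem_center {z : G} (hz : z ∈ center G) (g : G) : Commute g z :=
  mem_center_iff.mp hz g

theorem commutator_eq_one_of_mem_center {z : G} (hz : z ∈ center G) (g : G) : ⁅z, g⁆ = 1 :=
  commutatorElement_eq_one_iff_commute.mpr (commute_of_mem_center hz g).symm

/-- Class two: the `p`-th power map is multiplicative on `x, y` when `y^p` is central. -/
theorem mul_pow_classTwo (hp : p.Prime) (hp2 : p ≠ 2) (h : ∀ a b : G, ⁅a, b⁆ ∈ center G) {x y : G}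
    (hy : y ^ p ∈ center G) : (x * y) ^ p = x ^ p * y ^ p := by
  refine mul_pow_prime_eq hp hp2 (commute_of_mem_center (h y x) x) (commute_of_mem_center (h y x) y) ?_
  rw [classTwo_pow_commutator h, commutator_eq_one_of_mem_center hy]

theorem classThree_commutator_center (h : ⁅⁅_root_.commutator G, (⊤ : Subgroup G)⁆, (⊤ : Subgroup G)⁆ = ⊥)
    (a b c : G) : ⁅a, ⁅b, c⁆⁆ ∈ center G := by
  rw [← commutatorElement_inv]
  refine inv_mem (commutator_top_right_eq_bot_iff_le_center.mp h ?_)
  exact commutator_mem_commutator (commutator_mem_commutator (mem_top b) (mem_top c)) (mem_top a)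

/-- Class three, `p > 3`: the `p`-th power map is multiplicative on `x, y` with central `p`-th powers. -/
theorem mul_pow_classThree (hp : p.Prime) (hp3 : 3 < p) (h : ∀ a b c : G, ⁅a, ⁅b, c⁆⁆ ∈ center G)
    {x y : G} (hx : x ^ p ∈ center G) (hy : y ^ p ∈ center G) :
    (x * y) ^ p = x ^ p * y ^ p := by
  have hd := h x y x
  have he := h y y x
  have hdp : ⁅x, ⁅y, x⁆⁆ ^ p = 1 := by
    rw [← commutator_pow_left (commute_of_mem_center hd x), commutator_eq_one_of_mem_center hx]
  have hep : ⁅y, ⁅y, x⁆⁆ ^ p = 1 := by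
    rw [← commutator_pow_left (commute_of_mem_center he y), commutator_eq_one_of_mem_center hy]
  have hpow : ∀ {g : G} {k : ℕ}, g ^ p = 1 → p ∣ k → g ^ k = 1 := by
    intro g k hg ⟨j, hj⟩; rw [hj, pow_mul, hg, one_pow]
  have h2 : p ∣ p.choose 2 := hp.dvd_choose_self (by norm_num) (by omega)
  have hcp : ⁅y, x⁆ ^ p = 1 := by
    have := conj_pow_eq_three (x := x) (y := y) (commute_of_mem_center he y)
      (commute_of_mem_center he _) p
    rw [hpow hep h2, mul_one, (commute_of_mem_center hy x).symm.eq, mul_assoc] at this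
    exact right_eq_mul.mp this
  rw [mul_pow_eq_three (commute_of_mem_center hd x) (commute_of_mem_center hd y)
    (commute_of_mem_center hd _) (commute_of_mem_center he x) (commute_of_mem_center he y)
    (commute_of_mem_center he _), hpow hcp h2, hpow hdp (dvd_sumSq hp hp3),
    hpow hep (hp.dvd_choose_self (by norm_num) hp3)]
  simp

theorem exponent_omega_classTwo (hp : p.Prime) (hp2 : p ≠ 2) (h : ∀ a b : G, ⁅a, b⁆ ∈ center G)
    {g : G} (hg : g ∈ closure {x : G | x ^ p = 1}) : g ^ p = 1 :=
  pow_eq_one_of_mem_closure (fun x y hx hy => by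
    rw [mul_pow_classTwo hp hp2 h (hy ▸ one_mem _), hx, hy, one_mul]) hg

theorem exponent_omega_classThree (hp : p.Prime) (hp3 : 3 < p)
    (h : ∀ a b c : G, ⁅a, ⁅b, c⁆⁆ ∈ center G)
    {g : G} (hg : g ∈ closure {x : G | x ^ p = 1}) : g ^ p = 1 :=
  pow_eq_one_of_mem_closure (fun x y hx hy => by
    rw [mul_pow_classThree hp hp3 h (hx ▸ one_mem _) (hy ▸ one_mem _), hx, hy, one_mul]) hg

end Cfsg.Agent.PGroup
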