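import Cfsg.Agent.Lib.PGroup.UniqueOrderP

/-!
# p-groups of small rank

* `card_sup_le`, `classThree_of_card_le`, `pow_eq_one_of_gen_card_le`: small subgroups generated by elements of order `p`.
* `exponent_omega_rankTwo`: `p > 3`, rank at most two: `Ω₁` has exponent `p`.
* `SmallExponent`, `smallExponent_of_card_omega`, `card_omega_of_smallExponent`, `smallExponent_quotient`:
  the condition `|Ω₁| ≤ p^2` and its passage to quotients.
* `normal_elementary_rank_four`: odd `p`, an elementary abelian subgroup of order `p^4` gives a normal one.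
-/

set_option linter.style.haveILetI false
set_option linter.unusedSectionVars false

open Subgroup
open scoped commutatorElement

universe u

namespace Cfsg.Agent.PGroup

variable {G : Type*} [Group G] [Finite G] {p : ℕ} [hp : Fact p.Prime]

theorem card_sup_le {H N : Subgroup G} (h : H ≤ normalizer (N : Set G)) :
    Nat.card (H ⊔ N : Subgroup G) ≤ Nat.card H * Nat.card N := by
  rw [← SetLike.coe_sort_coe, coe_mul_of_left_le_normalizer_right H N h]
  exact Set.natCard_mul_le

/-- A group of order at most `p^4` has class at most three. -/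
theorem classThree_of_card_le (hG : IsPGroup p G) (h : Nat.card G ≤ p ^ 4) (a b c : G) :
    ⁅a, ⁅b, c⁆⁆ ∈ center G := by
  set N := _root_.commutator G with hN
  set M := ⁅N, (⊤ : Subgroup G)⁆ with hM
  have hmem : ⁅a, ⁅b, c⁆⁆ ∈ M := by
    rw [← commutatorElement_inv]
    exact inv_mem (commutator_mem_commutator (commutator_mem_commutator (mem_top b) (mem_top c))
      (mem_top a))
  by_cases hN1 : N = ⊥
  · have : ⁅b, c⁆ = 1 := by
      rw [← mem_bot, ← hN1]; exact commutator_mem_commutator (mem_top b) (mem_top c)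
    simp [this]
  by_cases hM1 : M = ⊥
  · rw [hM1, mem_bot] at hmem; rw [hmem]; exact one_mem _
  have hidx : p ^ 2 ≤ N.index := by
    obtain ⟨k, hk⟩ := IsPGroup.index hG N
    rw [hk]
    refine Nat.pow_le_pow_right hp.out.pos ?_
    by_contra hk2
    have : IsCyclic (G ⧸ N) := by
      rw [index_eq_card] at hk
      interval_cases k
      · haveI : Subsingleton (G ⧸ N) := (Nat.card_eq_one_iff_unique.mp (by simpa using hk)).1
        exact isCyclic_of_subsingleton
      · exact isCyclic_of_prime_card (p := p) (by simpa using hk)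
    haveI := isCyclic_of_abelianization hG this
    exact hN1 (by rw [hN]; exact commutator_eq_bot G)
  have h1 := mul_card_le_of_lt hG (commutator_lt_of_ne_bot hG hN1)
  rw [← hM] at h1
  have h2 := N.card_mul_index
  have h3 : Nat.card M * p ^ 3 ≤ p * p ^ 3 :=
    calc Nat.card M * p ^ 3 = (p * Nat.card M) * p ^ 2 := by ring
      _ ≤ Nat.card N * N.index := Nat.mul_le_mul h1 hidx
      _ ≤ p ^ 4 := h2.trans_le h
      _ = p * p ^ 3 := by ring
  have hle : Nat.card M ≤ p := Nat.le_of_mul_le_mul_right h3 (pow_pos hp.out.pos 3)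
  obtain ⟨k, hk⟩ := exists_subgroup_card_eq_pow hG M
  have hk1 : k = 1 := by
    have : k ≤ 1 := (Nat.pow_le_pow_iff_right hp.out.one_lt).mp (by rw [← hk, pow_one]; exact hle)
    rcases Nat.eq_zero_or_pos k with rfl | h0
    · exact absurd (eq_bot_of_card_eq M (by simpa using hk)) hM1
    · omega
  exact le_center_of_card_eq hG (by rw [hk, hk1, pow_one]) hmem

/-- `p > 3`: a subgroup of order at most `p^4` generated by elements of order dividing `p` has exponent `p`. -/
theorem pow_eq_one_of_gen_card_le (hp3 : 3 < p) (hG : IsPGroup p G) {S : Set G}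
    (hS : ∀ x ∈ S, x ^ p = 1) (hcard : Nat.card (closure S) ≤ p ^ 4) {x : G} (hx : x ∈ closure S) :
    x ^ p = 1 := by
  have h := classThree_of_card_le (hG.to_subgroup (closure S)) hcard
  have : (⟨x, hx⟩ : closure S) ∈ closure {y : closure S | y ^ p = 1} := by
    refine closure_mono ?_ ((closure_preimage_eq_top S).ge (mem_top _))
    intro y hy
    exact Subtype.ext (by simpa using hS _ hy)
  simpa using congrArg Subtype.val (exponent_omega_classThree hp.out hp3 h this)

/-- `p > 3`, rank at most two: `Ω₁` has exponent `p`. -/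
theorem exponent_omega_rankTwo (hp3 : 3 < p) (hG : IsPGroup p G)
    (hrk : ∀ E : Subgroup G, Cfsg.IsElementaryAbelian p E → Nat.card E ≤ p ^ 2)
    {g : G} (hg : g ∈ closure {x : G | x ^ p = 1}) : g ^ p = 1 := by
  by_cases hcyc : IsCyclic G
  · refine pow_eq_one_of_mem_closure (fun x y hx hy => ?_) hg
    rw [Commute.mul_pow (IsCyclic.isMulCommutative.is_comm.comm x y), hx, hy, one_mul]
  obtain ⟨A, -, hAn, ⟨hAc, hAe⟩, hA⟩ := exists_normal_elementary_sq (p := p) (by omega) hG
    (S := (⊤ : Subgroup G))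
    (fun h => hcyc (isCyclic_of_surjective Subgroup.topEquiv (MulEquiv.surjective _)))
  have hA' : ∀ a ∈ A, ∀ b ∈ A, a * b = b * a := fun a ha b hb => setLike_mul_comm ha hb
  set C := centralizer (A : Set G) with hC
  have hCA : ∀ x ∈ C, x ^ p = 1 → x ∈ A := by
    intro x hx hxp
    by_contra hxA
    set B := A ⊔ zpowers x
    have hBe : ∀ b ∈ B, b ^ p = 1 := by
      intro b hb
      obtain ⟨a, ha, u, hu, rfl⟩ := mem_sup_of_normal_left.mp hb
      obtain ⟨k, rfl⟩ := mem_zpowers_iff.mp hu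
      rw [Commute.mul_pow (sup_zpowers_comm hA' hx _ (mem_sup_left ha) _ (mem_sup_right hu)), hAe a ha,
        one_mul, ← zpow_natCast, zpow_comm, zpow_natCast, hxp, one_zpow]
    have hle := hrk B ⟨⟨⟨fun u v => Subtype.ext (sup_zpowers_comm hA' hx u u.2 v v.2)⟩⟩, hBe⟩
    exact hxA (eq_of_le_of_card_le (show A ≤ B from le_sup_left) (hle.trans hA.ge) ▸
      mem_sup_right (mem_zpowers x))
  have hCi : C.index ≤ p := (index_centralizer_le hG 2 A hAn hA).trans (pow_one p).le
  have bound : ∀ H : Subgroup G, (∀ x ∈ H, x ^ p = 1) → Nat.card H ≤ p ^ 3 := fun H hH =>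
    calc Nat.card H ≤ Nat.card (H ⊓ C : Subgroup G) * C.index := card_le_card_inf_mul_index H C
      _ ≤ p ^ 2 * p := Nat.mul_le_mul (le_trans (Nat.le_of_dvd Nat.card_pos
          (card_dvd_of_le fun x hx => hCA x hx.2 (hH x hx.1))) hA.le) hCi
      _ = p ^ 3 := (pow_succ p 2).symm
  by_cases hall : ∀ x : G, x ^ p = 1 → x ∈ A
  · exact hAe g ((closure_le A).mpr hall hg)
  push Not at hall
  obtain ⟨x, hx, hxA⟩ := hall
  have small : ∀ (H : Subgroup G) (y : G), y ^ p = 1 → zpowers y ≤ normalizer (H : Set G) →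
      Nat.card H ≤ p ^ 3 → (∀ h ∈ H, h ^ p = 1) → ∀ h ∈ zpowers y ⊔ H, h ^ p = 1 := by
    intro H y hy hn hH he h hh
    have e : closure ({y} ∪ (H : Set G)) = zpowers y ⊔ H := by
      rw [Subgroup.closure_union, ← zpowers_eq_closure, closure_eq]
    refine pow_eq_one_of_gen_card_le hp3 hG (S := {y} ∪ (H : Set G)) ?_ ?_ (e ▸ hh)
    · rintro z (rfl | hz)
      exacts [hy, he z hz]
    · rw [e]
      refine (card_sup_le hn).trans ?_
      rw [Nat.card_zpowers, pow_succ' p 3]
      exact Nat.mul_le_mul (Nat.le_of_dvd hp.out.pos (orderOf_dvd_of_pow_eq_one hy)) hH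
  set K := zpowers x ⊔ A
  have hA3 : Nat.card A ≤ p ^ 3 := hA.le.trans (Nat.pow_le_pow_right hp.out.pos (by norm_num))
  have hKe : ∀ h ∈ K, h ^ p = 1 :=
    small A x hx (by rw [normalizer_eq_top A]; exact le_top) hA3 hAe
  have hAK : A < K := lt_of_le_of_ne le_sup_right fun h => hxA (h ▸ mem_sup_left (mem_zpowers x))
  have hKcard : Nat.card K = p ^ 3 := le_antisymm (bound K hKe) (by
    rw [pow_succ', ← hA]; exact mul_card_le_of_lt hG hAK)
  have hKomega : ∀ y ∈ normalizer (K : Set G), y ^ p = 1 → y ∈ K := by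
    intro y hy hyp
    have he := small K y hyp (zpowers_le.mpr hy) hKcard.le hKe
    have := eq_of_le_of_card_le (show K ≤ zpowers y ⊔ K from le_sup_right)
      ((bound _ he).trans hKcard.ge)
    rw [this]; exact mem_sup_left (mem_zpowers y)
  have hKn : K.Normal := by
    rw [← normalizer_eq_top_iff]
    by_contra hne
    obtain ⟨c, hc, hcN⟩ := exists_mem_normalizer_not_mem hG hne
    refine hcN ?_
    have hle : ∀ c ∈ normalizer ((normalizer (K : Set G) : Subgroup G) : Set G),
        ∀ k ∈ K, c * k * c⁻¹ ∈ K := fun c hc k hk =>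
      hKomega _ ((mem_normalizer_iff.mp hc k).mp (le_normalizer hk)) (by
        rw [conj_pow, hKe k hk]; simp)
    refine mem_normalizer_iff.mpr fun k => ⟨hle c hc k, fun hk => ?_⟩
    simpa [mul_assoc] using hle _ (inv_mem hc) _ hk
  exact hKe g ((closure_le K).mpr (fun y hy => hKomega y (normalizer_eq_top K ▸ mem_top y) hy) hg)

/-- Every subgroup of exponent `p` has order at most `p^2`. -/
def SmallExponent (p : ℕ) (G : Type*) [Group G] : Prop :=
  ∀ H : Subgroup G, (∀ x ∈ H, x ^ p = 1) → Nat.card H ≤ p ^ 2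

theorem smallExponent_of_card_omega (h : Nat.card (closure {x : G | x ^ p = 1}) ≤ p ^ 2) :
    SmallExponent p G := fun H hH =>
  (Nat.le_of_dvd Nat.card_pos (Subgroup.card_dvd_of_le (show H ≤ closure {x : G | x ^ p = 1} from
    fun x hx => Subgroup.subset_closure (hH x hx)))).trans h

theorem card_omega_of_smallExponent (hp3 : 3 < p) (hG : IsPGroup p G) (h : SmallExponent p G) :
    Nat.card (closure {x : G | x ^ p = 1}) ≤ p ^ 2 :=
  h _ fun _ hx => exponent_omega_rankTwo hp3 hG (fun E hE => h E hE.2) hx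

theorem smallExponent_quotient_aux (hp3 : 3 < p) (hG : IsPGroup p G) (h : SmallExponent p G)
    {Z : Subgroup G} [Z.Normal] (hZ : Nat.card Z = p) : SmallExponent p (G ⧸ Z) := by
  have hZc := le_center_of_card_eq hG hZ
  intro H hH
  by_contra hcon
  obtain ⟨k, hk⟩ := exists_subgroup_card_eq_pow (hG.to_quotient Z) H
  have h3 : p ^ 3 ≤ Nat.card H := by
    rw [hk] at hcon ⊢
    refine Nat.pow_le_pow_right hp.out.pos ?_
    by_contra h3
    exact hcon (Nat.pow_le_pow_right hp.out.pos (by omega))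
  obtain ⟨L, hLH, hL⟩ := Sylow.exists_subgroup_le_card_pow_prime_of_le_card hp.out
    (hG.to_quotient Z) h3
  set E := L.comap (QuotientGroup.mk' Z)
  have hmemZ : ∀ e ∈ E, e ^ p ∈ Z := fun e he => by
    rw [← QuotientGroup.eq_one_iff, QuotientGroup.mk_pow]
    exact hH _ (hLH he)
  have hE : Nat.card E = p ^ 4 := by
    have h2 := E.card_mul_index
    rw [index_comap_of_surjective _ (QuotientGroup.mk'_surjective Z),
      card_eq_card_quotient_mul_card_subgroup Z, hZ, ← L.card_mul_index, hL] at h2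
    exact Nat.eq_of_mul_eq_mul_right (Nat.pos_of_ne_zero index_ne_zero_of_finite)
      (h2.trans (by ring))
  have hclass := classThree_of_card_le (hG.to_subgroup E) hE.le
  have hpowc : ∀ e : E, e ^ p ∈ center E := fun e => mem_center_iff.mpr fun g =>
    Subtype.ext (by simpa using mem_center_iff.mp (hZc (hmemZ e e.2)) g)
  let f : E →* E := MonoidHom.mk' (fun e => e ^ p) fun x y =>
    mul_pow_classThree hp.out hp3 hclass (hpowc x) (hpowc y)
  have hker := h (f.ker.map E.subtype) (by
    rintro _ ⟨y, hy, rfl⟩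
    simpa [f] using congrArg Subtype.val (MonoidHom.mem_ker.mp hy))
  have hran : Nat.card f.range ≤ p := by
    rw [← hZ, ← card_map_of_injective E.subtype_injective]
    refine Nat.le_of_dvd Nat.card_pos (card_dvd_of_le ?_)
    rintro _ ⟨_, ⟨e, rfl⟩, rfl⟩
    simpa [f] using hmemZ e e.2
  rw [card_map_of_injective E.subtype_injective] at hker
  have hh := f.ker.card_mul_index
  rw [index_ker, hE] at hh
  have h4 : p ^ 4 ≤ p ^ 2 * p := hh.symm.le.trans (Nat.mul_le_mul hker hran)
  rw [← pow_succ] at h4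
  exact absurd ((Nat.pow_le_pow_iff_right hp.out.one_lt).mp h4) (by norm_num)

theorem smallExponent_of_mulEquiv {H : Type*} [Group H] (e : G ≃* H) (h : SmallExponent p G) :
    SmallExponent p H := fun K hK => by
  rw [Nat.card_congr (K.equivMapOfInjective e.symm.toMonoidHom e.symm.injective).toEquiv]
  refine h _ ?_
  rintro _ ⟨y, hy, rfl⟩
  rw [← map_pow, hK y hy, map_one]

/-- `p > 3`: the condition `|Ω₁| ≤ p^2` passes to quotients. -/
theorem smallExponent_quotient (hp3 : 3 < p) : ∀ (n : ℕ) (G : Type u) [Group G] [Finite G],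
    IsPGroup p G → SmallExponent p G → ∀ (T : Subgroup G) [T.Normal], Nat.card T ≤ n →
    SmallExponent p (G ⧸ T) := by
  intro n
  induction n with
  | zero => intro G _ _ _ _ T _ hT; exact absurd hT (not_le.mpr Nat.card_pos)
  | succ n ih =>
    intro G _ _ hG h T _ hT
    by_cases hT1 : T = ⊥
    · subst hT1; exact smallExponent_of_mulEquiv QuotientGroup.quotientBot.symm h
    obtain ⟨Z, hZn, hZT, -, hZ⟩ := exists_normal_card_eq_prime hG hT1
    haveI := hZn
    haveI : (T.map (QuotientGroup.mk' Z)).Normal :=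
      Subgroup.Normal.map inferInstance _ (QuotientGroup.mk'_surjective Z)
    refine smallExponent_of_mulEquiv (QuotientGroup.quotientQuotientEquivQuotient Z T hZT) ?_
    refine ih (G ⧸ Z) (hG.to_quotient Z) (smallExponent_quotient_aux hp3 hG h hZ) _ ?_
    have hlt : Nat.card (T.map (QuotientGroup.mk' Z)) < Nat.card T := by
      have hh := ((QuotientGroup.mk' Z).domRestrict T).ker.card_mul_index
      rw [index_ker, MonoidHom.domRestrict_range] at hh
      have hk : Nat.card ((QuotientGroup.mk' Z).domRestrict T).ker = p := by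
        rw [MonoidHom.ker_domRestrict, QuotientGroup.ker_mk',
          Nat.card_congr (subgroupOfEquivOfLe hZT).toEquiv, hZ]
      rw [hk] at hh
      rw [← hh]
      exact lt_mul_of_one_lt_left Nat.card_pos hp.out.one_lt
    omega

/-- Odd `p`: an elementary abelian subgroup of order `p^4` forces a normal one. -/
theorem normal_elementary_rank_four (hp2 : p ≠ 2) (hG : IsPGroup p G) {E : Subgroup G}
    (hE : ∀ a ∈ E, ∀ b ∈ E, a * b = b * a) (hEe : ∀ a ∈ E, a ^ p = 1) (hE4 : Nat.card E = p ^ 4) :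
    ∃ A : Subgroup G, A.Normal ∧ (∀ a ∈ A, ∀ b ∈ A, a * b = b * a) ∧ (∀ a ∈ A, a ^ p = 1) ∧
      Nat.card A = p ^ 4 := by
  obtain ⟨A, -, hAn, hAc, hAe, hmax⟩ := exists_maximal_normal_elementary (p := p)
    (⊥ : Subgroup G) inferInstance (fun a ha b hb => by simp_all) (fun a ha => by simp_all)
  obtain ⟨a, ha⟩ := exists_subgroup_card_eq_pow hG A
  rcases le_or_gt 4 a with ha4 | ha4
  · obtain ⟨K, hKn, hKA, hK⟩ := exists_normal_le_card hG ha 4 ha4
    exact ⟨K, hKn, fun x hx y hy => hAc x (hKA hx) y (hKA hy), fun x hx => hAe x (hKA hx), hK⟩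
  set C := centralizer (A : Set G)
  have hpp := hp.out.one_lt
  have hCA : ∀ H : Subgroup G, (∀ x ∈ H, x ^ p = 1) → H ⊓ C ≤ A := fun H hH x hx =>
    mem_of_maximal_normal_elementary hG hp2 hAc hAe hmax hx.2 (hH x hx.1)
  have hAC : A ≤ C := fun x hx => mem_centralizer_iff.mpr fun y hy => hAc y hy x hx
  have hW : E ⊓ C = E ⊓ A := le_antisymm (le_inf inf_le_left (hCA E hEe)) (inf_le_inf le_rfl hAC)
  have hWA : Nat.card (E ⊓ A : Subgroup G) < Nat.card A := by
    refine lt_of_le_of_ne (Nat.le_of_dvd Nat.card_pos (card_dvd_of_le inf_le_right)) fun h => ?_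
    have hAE : A ≤ E := (eq_of_le_of_card_le inf_le_right h.ge).ge.trans inf_le_left
    have hEC : E ≤ C := fun e he => mem_centralizer_iff.mpr fun y hy => hE y (hAE hy) e he
    have := Nat.le_of_dvd Nat.card_pos (card_dvd_of_le ((le_inf le_rfl hEC).trans (hCA E hEe)))
    rw [hE4, ha] at this
    exact absurd ((Nat.pow_le_pow_iff_right hpp).mp this) (by omega)
  have hbound := (card_le_card_inf_mul_index E C).trans
    (Nat.mul_le_mul le_rfl (index_centralizer_le hG a A hAn ha))
  rw [hE4, hW] at hbound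
  obtain rfl : a = 3 := by
    by_contra hcon
    obtain ⟨w, hw⟩ := exists_subgroup_card_eq_pow hG (E ⊓ A)
    rw [hw, ha, Nat.pow_lt_pow_iff_right hpp] at hWA
    rw [hw, ← pow_add, Nat.pow_le_pow_iff_right hpp] at hbound
    interval_cases a <;> simp at hbound <;> omega
  obtain ⟨V, hVn, hVA, hV⟩ := exists_normal_le_card hG ha 2 (by norm_num)
  set CV := centralizer (V : Set G)
  have hVlt : V < A := lt_of_le_of_ne hVA fun h => by
    rw [h, ha] at hV
    exact absurd (Nat.pow_right_injective hp.out.two_le hV) (by norm_num)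
  have hVp : Nat.card A ≤ p * Nat.card V := by rw [ha, hV, ← pow_succ']
  have hdisp : ∀ {y : G}, y ∈ A → ∀ g : G, ⁅g, y⁆ ∈ V :=
    fun hy g => commutator_mem_of_card hG hVlt hVp hy g
  have hCVi : CV.index ≤ p := (index_centralizer_le hG 2 V hVn hV).trans (pow_one p).le
  have hmemC : ∀ {x g : G}, x ∈ A → x ∉ V → g ∈ CV → Commute g x → g ∈ C := by
    intro x g hxA hxV hg hgx
    have hle : A ≤ centralizer ({g} : Set G) := by
      rw [← eq_sup_zpowers_of_card hG hVA hVp hxA hxV]
      exact sup_le (fun v hv => mem_centralizer_singleton_iff.mpr (mem_centralizer_iff.mp hg v hv))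
        (zpowers_le.mpr (mem_centralizer_singleton_iff.mpr hgx.symm.eq))
    exact mem_centralizer_iff.mpr fun y hy => mem_centralizer_singleton_iff.mp (hle hy)
  -- translations of `A` over `V`
  have hrel : ∀ (H : Subgroup G) (x : G), x ∈ A → x ∉ V → H ≤ CV → ∀ (T : Subgroup G),
      (∀ h ∈ H, ⁅h, x⁆ ∈ T) → C.relIndex H ≤ Nat.card T := by
    intro H x hxA hxV hH T hT
    refine Nat.card_le_card_of_injective
      (fun q : H ⧸ C.subgroupOf H => (⟨⁅((Quotient.out q : H) : G), x⁆, hT _ (q.out : H).2⟩ : T)) ?_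
    intro q r hqr
    have h1 : ((q.out : H) : G) * x * ((q.out : H) : G)⁻¹ = ((r.out : H) : G) * x * ((r.out : H) : G)⁻¹ :=
      mul_right_cancel (Subtype.ext_iff.mp hqr)
    rw [← QuotientGroup.out_eq' q, ← QuotientGroup.out_eq' r, QuotientGroup.eq, mem_subgroupOf]
    refine hmemC hxA hxV (hH (q.out⁻¹ * r.out : H).2) ?_
    show ((q.out : H) : G)⁻¹ * r.out * x = x * (((q.out : H) : G)⁻¹ * r.out)
    calc ((q.out : H) : G)⁻¹ * r.out * x
        = ((q.out : H) : G)⁻¹ * (((r.out : H) : G) * x * ((r.out : H) : G)⁻¹) * r.out := by group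
      _ = _ := by rw [← h1]; group
  obtain ⟨x, hxA, hxV⟩ := SetLike.exists_of_lt hVlt
  have hWcard : p ^ 2 ≤ Nat.card (E ⊓ A : Subgroup G) := by
    by_cases hEV : E ≤ CV
    · have h := card_inf_mul_relIndex E C
      rw [hW, hE4] at h
      refine Nat.le_of_mul_le_mul_right (c := p ^ 2) ?_ (pow_pos hp.out.pos 2)
      rw [← pow_add]
      exact h.symm.le.trans (Nat.mul_le_mul le_rfl
        (hV ▸ hrel E x hxA hxV hEV V fun e _ => hdisp hxA e))
    · set H := E ⊓ CV
      have hHT : ∀ e ∈ H, ⁅e, x⁆ ∈ V ⊓ centralizer (E : Set G) := by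
        rintro e ⟨heE, heV⟩
        refine ⟨hdisp hxA e, mem_centralizer_iff.mpr fun h hh => ?_⟩
        have key : e * (h * x * h⁻¹) * e⁻¹ = h * (e * x * e⁻¹) * h⁻¹ := by
          calc e * (h * x * h⁻¹) * e⁻¹ = (e * h) * x * (e * h)⁻¹ := by group
            _ = (h * e) * x * (h * e)⁻¹ := by rw [hE e heE h hh]
            _ = _ := by group
        have e1 : h * x * h⁻¹ = ⁅h, x⁆ * x := by simp [commutatorElement_def]
        have e2 : e * x * e⁻¹ = ⁅e, x⁆ * x := by simp [commutatorElement_def]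
        have e3 : e * ⁅h, x⁆ * e⁻¹ = ⁅h, x⁆ := by
          rw [← mem_centralizer_iff.mp heV _ (hdisp hxA h), mul_inv_cancel_right]
        have l : e * (h * x * h⁻¹) * e⁻¹ = ⁅h, x⁆ * (⁅e, x⁆ * x) := by
          rw [e1, ← e2]
          calc e * (⁅h, x⁆ * x) * e⁻¹ = (e * ⁅h, x⁆ * e⁻¹) * (e * x * e⁻¹) := by group
            _ = _ := by rw [e3]
        have r : h * (e * x * e⁻¹) * h⁻¹ = (h * ⁅e, x⁆ * h⁻¹) * (⁅h, x⁆ * x) := by
          rw [e2, ← e1]; group
        rw [l, r, ← mul_assoc, ← mul_assoc, mul_left_inj,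
          hAc _ (hVA (hdisp hxA h)) _ (hVA (hdisp hxA e)), mul_left_inj] at key
        exact (eq_mul_inv_iff_mul_eq.mp key).symm
      have hT : Nat.card (V ⊓ centralizer (E : Set G) : Subgroup G) ≤ p ^ 1 := by
        refine card_le_pow_of_lt_succ hG (lt_of_le_of_ne
          (hV ▸ Nat.le_of_dvd Nat.card_pos (card_dvd_of_le inf_le_left)) fun h => hEV ?_)
        have hle : V ≤ centralizer (E : Set G) :=
          (eq_of_le_of_card_le inf_le_left (hV.trans h.symm).le).ge.trans inf_le_right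
        exact le_centralizer_iff.mp hle
      have h1 := card_inf_mul_relIndex H C
      have hHC : H ⊓ C = E ⊓ A := le_antisymm
        (hW ▸ inf_le_inf inf_le_left le_rfl)
        (le_inf (le_inf inf_le_left fun y hy => centralizer_le hVA (hAC hy.2)) fun y hy => hAC hy.2)
      rw [hHC] at h1
      have h2 := card_le_card_inf_mul_index E CV
      rw [hE4] at h2
      refine Nat.le_of_mul_le_mul_right (c := p ^ 2) ?_ (pow_pos hp.out.pos 2)
      calc p ^ 2 * p ^ 2 = p ^ 4 := by ring
        _ ≤ Nat.card H * p := h2.trans (Nat.mul_le_mul le_rfl hCVi)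
        _ ≤ Nat.card (E ⊓ A : Subgroup G) * p ^ 1 * p := Nat.mul_le_mul (h1.symm.le.trans
            (Nat.mul_le_mul le_rfl
              ((hrel H x hxA hxV inf_le_right _ hHT).trans hT))) le_rfl
        _ = Nat.card (E ⊓ A : Subgroup G) * p ^ 2 := by ring
  have hWeq : E ⊓ A = V := by
    by_contra hne
    have hnle : ¬ E ⊓ A ≤ V := fun h => hne (eq_of_le_of_card_le h (hV ▸ hWcard))
    obtain ⟨y, hy, hyV⟩ := SetLike.not_le_iff_exists.mp hnle
    have hle : E ⊓ CV ≤ E ⊓ A := fun e he => hW ▸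
      ⟨he.1, hmemC hy.2 hyV he.2 (hE e he.1 y hy.1)⟩
    have hW2 : Nat.card (E ⊓ A : Subgroup G) ≤ p ^ 2 :=
      card_le_pow_of_lt_succ hG (by rwa [ha] at hWA)
    have h2 := (card_le_card_inf_mul_index E CV).trans
      (Nat.mul_le_mul ((Nat.le_of_dvd Nat.card_pos (card_dvd_of_le hle)).trans hW2) hCVi)
    rw [hE4, ← pow_succ] at h2
    exact absurd ((Nat.pow_le_pow_iff_right hpp).mp h2) (by norm_num)
  have hEV : E ≤ CV := fun e he => mem_centralizer_iff.mpr fun v hv => by
    have : v ∈ E ⊓ A := hWeq ▸ hv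
    exact hE v this.1 e he
  -- `E` itself is normal
  refine ⟨E, ?_, hE, hEe, hE4⟩
  rw [← normalizer_eq_top_iff]
  by_contra hne
  obtain ⟨g, hg, hgN⟩ := exists_mem_normalizer_not_mem hG hne
  set N := normalizer (E : Set G)
  set F := E.map (MulAut.conj g).toMonoidHom with hF
  have hFmem : ∀ {y : G}, y ∈ F ↔ g⁻¹ * y * g ∈ E := fun {y} => by
    refine ⟨?_, fun h => ⟨g⁻¹ * y * g, h, by simp [mul_assoc]⟩⟩
    rintro ⟨u, hu, rfl⟩
    simpa [mul_assoc] using hu
  have hFcard : Nat.card F = p ^ 4 := by rw [card_map_of_injective (MulEquiv.injective _), hE4]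
  have hFN : F ≤ N := by
    rintro _ ⟨y, hy, rfl⟩
    exact (mem_normalizer_iff.mp hg y).mp (le_normalizer hy)
  have hEN' : ∀ y ∈ E, ∀ f ∈ F, y * f * y⁻¹ ∈ F := by
    intro y hy f hf
    rw [hFmem] at hf ⊢
    have h1 : g⁻¹ * y * g ∈ N := by
      have := (mem_normalizer_iff.mp (inv_mem hg) y).mp (le_normalizer hy)
      rwa [inv_inv] at this
    have := (mem_normalizer_iff.mp h1 (g⁻¹ * f * g)).mp hf
    convert this using 1
    group
  by_cases hEF : E = F
  · refine hgN (mem_normalizer_iff.mpr fun y => ?_)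
    constructor
    · intro hy; rw [hEF]; exact ⟨y, hy, rfl⟩
    · intro hy
      rw [hEF, hFmem] at hy
      simpa [mul_assoc] using hy
  set J := E ⊔ F
  have hFV : F ≤ CV := by
    rintro _ ⟨y, hy, rfl⟩
    exact Normal.conj_mem inferInstance y (hEV hy) g
  have hFcomm : ∀ u ∈ F, ∀ v ∈ F, u * v = v * u := by
    rintro _ ⟨u, hu, rfl⟩ _ ⟨v, hv, rfl⟩
    rw [← map_mul, hE u hu v hv, map_mul]
  have hDJ : J ≤ centralizer ((E ⊓ F : Subgroup G) : Set G) :=
    sup_le (fun e he => mem_centralizer_iff.mpr fun d hd => hE d hd.1 e he)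
      (fun f hf => mem_centralizer_iff.mpr fun d hd => hFcomm d hd.2 f hf)
  have hcl : closure ((E : Set G) ∪ (F : Set G)) = J := by
    rw [Subgroup.closure_union, closure_eq, closure_eq]
  have hJe : ∀ y ∈ J, y ^ p = 1 := by
    have hcomm : ∀ u ∈ J, ∀ v ∈ J, ⁅u, v⁆ ∈ E ⊓ F := by
      have hnorm : ∀ u ∈ J, ∀ d ∈ E ⊓ F, u * d * u⁻¹ = d := fun u hu d hd => by
        rw [← mem_centralizer_iff.mp (hDJ hu) d hd, mul_inv_cancel_right]
      have hgen : ∀ u ∈ (E : Set G) ∪ F, ∀ v ∈ (E : Set G) ∪ F, ⁅u, v⁆ ∈ E ⊓ F := by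
        have hef : ∀ u ∈ E, ∀ v ∈ F, ⁅u, v⁆ ∈ E ⊓ F := fun u hu v hv => by
          refine Subgroup.mem_inf.mpr ⟨?_, ?_⟩
          · have := (mem_normalizer_iff.mp (hFN hv) u⁻¹).mp (inv_mem hu)
            rw [commutatorElement_def, mul_assoc u v, mul_assoc u]
            exact E.mul_mem hu this
          · rw [commutatorElement_def]
            exact mul_mem (hEN' u hu v hv) (inv_mem hv)
        rintro u (hu | hu) v (hv | hv)
        · rw [commutatorElement_eq_one_iff_mul_comm.mpr (hE u hu v hv)]; exact one_mem _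
        · exact hef u hu v hv
        · rw [← commutatorElement_inv]; exact inv_mem (hef v hv u hu)
        · rw [commutatorElement_eq_one_iff_mul_comm.mpr (hFcomm u hu v hv)]; exact one_mem _
      intro u hu v hv
      rw [← hcl] at hu hv
      induction hu, hv using closure_induction₂ with
      | mem u v hu hv => exact hgen u hu v hv
      | one_left v _ => simp
      | one_right u _ => simp
      | mul_left u w v hu _ _ h1 h2 =>
        rw [commutatorElement_mul_left_eq_conj_mul, hnorm u (hcl ▸ hu) _ h2]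
        exact mul_mem h2 h1
      | mul_right v z u hv _ _ h1 h2 =>
        rw [commutatorElement_mul_right_eq_mul_conj, mul_assoc, mul_assoc, ← mul_assoc v,
          hnorm v (hcl ▸ hv) _ h2]
        exact mul_mem h1 h2
      | inv_left u v hu _ h1 =>
        rw [commutatorElement_inv_left, ← commutatorElement_inv u v]
        have := hnorm _ (inv_mem (hcl ▸ hu)) _ (inv_mem h1)
        rw [inv_inv] at this
        rw [this]; exact inv_mem h1
      | inv_right u v _ hv h1 =>
        rw [commutatorElement_inv_right, ← commutatorElement_inv u v]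
        have := hnorm _ (inv_mem (hcl ▸ hv)) _ (inv_mem h1)
        rw [inv_inv] at this
        rw [this]; exact inv_mem h1
    intro y hy
    have hcen : ∀ u v : J, ⁅u, v⁆ ∈ center J := fun u v => mem_center_iff.mpr fun w =>
      Subtype.ext (mem_centralizer_iff.mp (hDJ w.2) _ (hcomm u u.2 v v.2)).symm
    have hy' : (⟨y, hy⟩ : J) ∈ closure {u : J | u ^ p = 1} := by
      have hJle : J ≤ (closure {u : J | u ^ p = 1}).map J.subtype := by
        refine sup_le (fun e he => ⟨⟨e, mem_sup_left he⟩, subset_closure (Subtype.ext ?_), rfl⟩)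
          (fun f hf => ⟨⟨f, mem_sup_right hf⟩, subset_closure (Subtype.ext ?_), rfl⟩)
        · simpa using hEe e he
        · obtain ⟨u, hu, rfl⟩ := hf
          have := congrArg (MulAut.conj g).toMonoidHom (hEe u hu)
          simpa using this
      obtain ⟨w, hw, hwy⟩ := hJle hy
      rwa [show (⟨y, hy⟩ : J) = w from Subtype.ext hwy.symm]
    simpa using congrArg Subtype.val (exponent_omega_classTwo hp.out hp2 hcen hy')
  have hJC : Nat.card (J ⊓ C : Subgroup G) ≤ p ^ 3 :=
    ha ▸ Nat.le_of_dvd Nat.card_pos (card_dvd_of_le (hCA J hJe))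
  have hJi : C.relIndex J ≤ p ^ 2 :=
    hV ▸ hrel J x hxA hxV (sup_le hEV hFV) V fun e _ => hdisp hxA e
  have hJ5 : Nat.card J ≤ p ^ 5 := by
    rw [← card_inf_mul_relIndex J C]
    exact (Nat.mul_le_mul hJC hJi).trans (by rw [← pow_add])
  have hEltJ : E < J := lt_of_le_of_ne le_sup_left fun h =>
    hEF (eq_of_le_of_card_le (sup_eq_left.mp h.symm) (by rw [hE4, hFcard])).symm
  have hJge : p ^ 5 ≤ Nat.card J := by rw [pow_succ', ← hE4]; exact mul_card_le_of_lt hG hEltJ
  have hJA : J ⊓ C = A := eq_of_le_of_card_le (hCA J hJe) (by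
    rw [ha]
    refine Nat.le_of_mul_le_mul_right (c := p ^ 2) ?_ (pow_pos hp.out.pos 2)
    rw [← pow_add]
    exact hJge.trans (card_inf_mul_relIndex J C ▸ Nat.mul_le_mul le_rfl hJi))
  -- `E ⊓ F` is larger than `V`
  have hDV : ¬ E ⊓ F ≤ V := by
    intro hle
    have hle' := Nat.le_of_dvd Nat.card_pos (card_dvd_of_le hle)
    have h1 := card_inf_mul_relIndex J E
    rw [inf_eq_right.mpr le_sup_left, hE4] at h1
    have h2 : E.relIndex F ≤ E.relIndex J :=
      relIndex_le_of_le_right le_sup_right index_ne_zero_of_finite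
    have h3 := card_inf_mul_relIndex F E
    rw [hFcard, inf_comm] at h3
    have h4 : p ^ 4 * p ^ 4 ≤ p ^ 2 * p ^ 5 :=
      calc p ^ 4 * p ^ 4 = p ^ 4 * (Nat.card (E ⊓ F : Subgroup G) * E.relIndex F) := by rw [h3]
        _ ≤ p ^ 4 * (p ^ 2 * E.relIndex J) := Nat.mul_le_mul le_rfl (Nat.mul_le_mul (hV ▸ hle') h2)
        _ = p ^ 2 * (p ^ 4 * E.relIndex J) := by ring
        _ ≤ p ^ 2 * p ^ 5 := Nat.mul_le_mul le_rfl (h1 ▸ hJ5)
    rw [← pow_add, ← pow_add] at h4
    exact absurd ((Nat.pow_le_pow_iff_right hpp).mp h4) (by norm_num)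
  obtain ⟨d, hd, hdV⟩ := SetLike.not_le_iff_exists.mp hDV
  refine hdV (hWeq ▸ hW ▸ ⟨hd.1, mem_centralizer_iff.mpr fun y hy => ?_⟩)
  exact (mem_centralizer_iff.mp (hDJ (hJA.ge hy).1) d hd).symm

end Cfsg.Agent.PGroup
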