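/-
`p`-groups in which every normal abelian subgroup is cyclic.

* `exists_normal_elementary_sq_or_cases`: a noncyclic `p`-group has a normal elementary abelian
  subgroup of order `p ^ 2`, or is quaternion, dihedral or quasidihedral.
-/
import Cfsg.Agent.Lib.PGroup.CyclicMaximal
import Cfsg.Agent.Lib.PGroup.UniqueOrderP
import Cfsg.Agent.Lib.PGroup.NormalAbelian
import Cfsg.Agent.Lib.PNormal.RankTwo

set_option autoImplicit false

namespace Cfsg.Agent.PGroup

open Subgroup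

variable {G : Type*} [Group G] [Finite G]

theorem exists_normal_elementary_sq_of_abelian {p : ℕ} [Fact p.Prime] (hG : IsPGroup p G)
    {A : Subgroup G} [hAn : A.Normal] (hA : ∀ x ∈ A, ∀ y ∈ A, x * y = y * x)
    (hcyc : ¬ ∃ a ∈ A, zpowers a = A) :
    ∃ E : Subgroup G, E.Normal ∧ Cfsg.IsElementaryAbelian p E ∧ Nat.card E = p ^ 2 := by
  obtain ⟨x, hxA, y, hyA, hx, hy, hyx⟩ :
      ∃ x ∈ A, ∃ y ∈ A, orderOf x = p ∧ y ^ p = 1 ∧ y ∉ zpowers x := by
    by_contra h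
    push Not at h
    exact hcyc (isCyclic_of_abelian_unique hG hA h)
  let O : Subgroup G :=
    { carrier := {g | g ∈ A ∧ g ^ p = 1}
      one_mem' := ⟨one_mem A, one_pow p⟩
      mul_mem' := fun {u v} hu hv =>
        ⟨mul_mem hu.1 hv.1, by rw [Commute.mul_pow (hA u hu.1 v hv.1), hu.2, hv.2, one_mul]⟩
      inv_mem' := fun {u} hu => ⟨inv_mem hu.1, by rw [inv_pow, hu.2, inv_one]⟩ }
  have hO : ∀ g, g ∈ O ↔ g ∈ A ∧ g ^ p = 1 := fun g => Iff.rfl
  haveI : O.Normal := ⟨fun g hg k =>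
    (hO _).2 ⟨hAn.conj_mem g hg.1 k, by rw [conj_pow, hg.2]; group⟩⟩
  obtain ⟨a, ha⟩ := (hG.to_subgroup O).exists_card_eq
  have hle : zpowers x ≤ O := zpowers_le.2 ((hO x).2 ⟨hxA, hx ▸ pow_orderOf_eq_one x⟩)
  have h2 : 2 ≤ a := by
    by_contra hlt
    have hp := (Fact.out : p.Prime)
    have h1 : Nat.card O ≤ Nat.card (zpowers x) := by
      rw [ha, Nat.card_zpowers, hx]
      calc p ^ a ≤ p ^ 1 := Nat.pow_le_pow_right hp.pos (by omega)
        _ = p := pow_one p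
    exact hyx (eq_of_le_of_card_ge hle h1 ▸ (hO y).2 ⟨hyA, hy⟩)
  obtain ⟨E, hEn, hEO, hEc⟩ := exists_normal_le_card hG ha 2 h2
  exact ⟨E, hEn, ⟨⟨⟨fun u v => Subtype.ext (hA u (hEO u.2).1 v (hEO v.2).1)⟩⟩,
    fun u hu => (hEO hu).2⟩, hEc⟩

theorem conj_eq_of_zpow {a b : G} {r : ℤ} (hb : b * a * b⁻¹ = a ^ r) {w : G} (hw : w ∈ zpowers a) :
    b * w * b⁻¹ = w ^ r := by
  obtain ⟨i, rfl⟩ := hw
  rw [show b * a ^ i * b⁻¹ = (b * a * b⁻¹) ^ i by rw [conj_zpow], hb, ← zpow_mul, ← zpow_mul, mul_comm]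

/-- A noncyclic `p`-group has a normal elementary abelian subgroup of order `p ^ 2`, unless it is
quaternion, dihedral or quasidihedral. -/
theorem exists_normal_elementary_sq_or_cases {p : ℕ} [Fact p.Prime] (hG : IsPGroup p G)
    (hnc : ¬ IsCyclic G) :
    (∃ E : Subgroup G, E.Normal ∧ Cfsg.IsElementaryAbelian p E ∧ Nat.card E = p ^ 2) ∨
      (p = 2 ∧ ((∃ n, Nonempty (G ≃* QuaternionGroup n)) ∨ (∃ n, Nonempty (G ≃* DihedralGroup n)) ∨
        Cfsg.IsQuasiDihedral G)) := by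
  rcases eq_or_ne p 2 with rfl | hp2
  swap
  · left
    have : ¬ IsCyclic (⊤ : Subgroup G) := fun h => hnc (Subgroup.topEquiv.isCyclic.1 h)
    obtain ⟨A, -, h⟩ := exists_normal_elementary_sq hp2 hG this
    exact ⟨A, h⟩
  by_contra hcon
  push Not at hcon
  obtain ⟨hno, hQ, hD, hS⟩ : (∀ E : Subgroup G, E.Normal → Cfsg.IsElementaryAbelian 2 E → Nat.card E ≠ 2 ^ 2) ∧
      (∀ n, IsEmpty (G ≃* QuaternionGroup n)) ∧ (∀ n, IsEmpty (G ≃* DihedralGroup n)) ∧
      ¬ Cfsg.IsQuasiDihedral G := ⟨hcon.1, (hcon.2 rfl).1, (hcon.2 rfl).2.1, (hcon.2 rfl).2.2⟩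
  have hcyc : ∀ (A : Subgroup G), A.Normal → (∀ x ∈ A, ∀ y ∈ A, x * y = y * x) → ∃ a ∈ A, zpowers a = A := by
    intro A hAn hA
    by_contra h
    obtain ⟨E, h1, h2, h3⟩ := exists_normal_elementary_sq_of_abelian (hAn := hAn) hG hA h
    exact hno E h1 h2 h3
  obtain ⟨A, hA⟩ := (Set.toFinite {B : Subgroup G | B.Normal ∧ IsMulCommutative B}).exists_maximal
    ⟨⊥, inferInstance, ⟨⟨fun _ _ => Subsingleton.elim _ _⟩⟩⟩
  obtain ⟨hAn, hAc⟩ := hA.prop
  haveI := hAn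
  obtain ⟨a, haA, ha⟩ := hcyc A hAn fun x hx y hy =>
    congrArg Subtype.val (hAc.is_comm.comm ⟨x, hx⟩ ⟨y, hy⟩)
  have hC : Subgroup.centralizer (A : Set G) ≤ A := PNormal.centralizer_le_of_maximal hG hAc
    fun B h1 h2 h3 => le_antisymm (hA.le_of_ge ⟨h1, h2⟩ h3) h3
  obtain ⟨m, hm⟩ : ∃ m, orderOf a = 2 ^ m := IsPGroup.iff_orderOf.1 hG a
  have hself : ∀ g : G, g * a * g⁻¹ = a → g ∈ A := fun g hg => hC (by
    rw [← ha, Subgroup.mem_centralizer_iff]
    rintro w ⟨i, rfl⟩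
    exact ((show Commute g a from mul_inv_eq_iff_eq_mul.1 hg).zpow_right i).eq.symm)
  have hconj : ∀ g : G, g * a * g⁻¹ ∈ zpowers a := fun g => by
    rw [ha]; exact hAn.conj_mem a haA g
  -- no element acts as `1 + 2 ^ (m - 1)`
  have hno3 : 3 ≤ m → ∀ b : G, b ^ 2 = 1 → b * a * b⁻¹ ≠ a ^ ((1 : ℤ) + 2 ^ (m - 1)) := by
    intro hm3 b hb2 hb
    set z := a ^ ((2 : ℤ) ^ (m - 1)) with hz
    set r : ℤ := 1 + 2 ^ (m - 1) with hr
    have hzz : z ^ 2 = 1 := by
      rw [hz, ← zpow_natCast, ← zpow_mul, ← orderOf_dvd_iff_zpow_eq_one, hm]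
      push_cast
      rw [← pow_succ, show m - 1 + 1 = m by omega]
    have hbz : b * z = z * b := by
      have h := conj_eq_of_zpow hb (w := z) (zpow_mem (mem_zpowers a) _)
      have he : z ^ r = z := by
        rw [hr, zpow_add, zpow_one, show ((2 : ℤ) ^ (m - 1)) = 2 * 2 ^ (m - 2) by
          rw [← pow_succ', show m - 2 + 1 = m - 1 by omega], zpow_mul, zpow_ofNat, hzz, one_zpow, mul_one]
      rw [he] at h
      exact mul_inv_eq_iff_eq_mul.1 h
    have hzn : z ≠ 1 := by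
      rw [hz, ne_eq, ← orderOf_dvd_iff_zpow_eq_one, hm]
      push_cast
      intro h
      have h' : (2 : ℕ) ^ m ∣ 2 ^ (m - 1) := by exact_mod_cast h
      have := (Nat.pow_dvd_pow_iff_le_right one_lt_two).1 h'
      omega
    have hbA : b ∉ A := fun hbA => by
      rw [← ha] at hbA
      obtain ⟨i, rfl⟩ := hbA
      rw [show a ^ i * a * (a ^ i)⁻¹ = a by group] at hb
      apply hzn
      rw [hz]
      have : a ^ r = a * z := by rw [hr, zpow_add, zpow_one, hz]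
      rw [this] at hb
      exact mul_eq_left.1 hb.symm
    let V : Subgroup G := Subgroup.closure {z, b}
    have hVc : IsMulCommutative V := Subgroup.isMulCommutative_closure (by
      rintro x (rfl | rfl) y (rfl | rfl) <;> first | rfl | exact hbz | exact hbz.symm)
    have hVn : V.Normal := by
      rw [← Subgroup.normalizer_eq_top_iff, eq_top_iff]
      intro g _
      have hmem : ∀ g : G, ∀ x ∈ V, g * x * g⁻¹ ∈ V := by
        intro g x hx
        obtain ⟨s, hs⟩ := hconj g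
        have hs' : g * a * g⁻¹ = a ^ s := hs.symm
        have hgz : g * z * g⁻¹ ∈ V := by
          rw [conj_eq_of_zpow hs' (zpow_mem (mem_zpowers a) _)]
          exact zpow_mem (show z ∈ V from Subgroup.subset_closure (Or.inl rfl)) s
        have hgb : g * b * g⁻¹ ∈ V := by
          obtain ⟨t, ht⟩ := hconj g⁻¹
          have ht' : g⁻¹ * a * g = a ^ t := by simpa using ht.symm
          have hact : (g * b * g⁻¹) * a * (g * b * g⁻¹)⁻¹ = a ^ r := by
            calc (g * b * g⁻¹) * a * (g * b * g⁻¹)⁻¹ = g * (b * (g⁻¹ * a * g) * b⁻¹) * g⁻¹ := by group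
              _ = g * (g⁻¹ * a * g) ^ r * g⁻¹ := by
                rw [conj_eq_of_zpow hb (by rw [ht']; exact zpow_mem (mem_zpowers a) t)]
              _ = a ^ r := by rw [← conj_zpow]; group
          have hA' : g * b * g⁻¹ * b⁻¹ ∈ zpowers a := by
            rw [ha]
            apply hself
            have hbi : b⁻¹ * a * b⁻¹⁻¹ = a ^ r := by
              rw [inv_eq_of_mul_eq_one_left (show b * b = 1 by rwa [← sq]), hb]
            calc g * b * g⁻¹ * b⁻¹ * a * (g * b * g⁻¹ * b⁻¹)⁻¹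
                = (g * b * g⁻¹) * (b⁻¹ * a * b⁻¹⁻¹) * (g * b * g⁻¹)⁻¹ := by group
              _ = (g * b * g⁻¹ * a * (g * b * g⁻¹)⁻¹) ^ r := by rw [hbi, conj_zpow]
              _ = b * (b * a * b⁻¹) * b⁻¹ := by rw [hact, hb, conj_eq_of_zpow hb (zpow_mem (mem_zpowers a) _)]
              _ = b ^ 2 * a * (b ^ 2)⁻¹ := by simp only [pow_two]; group
              _ = a := by rw [hb2]; group
          obtain ⟨j, hj⟩ := hA'
          have hgb' : g * b * g⁻¹ = a ^ j * b := by rw [show a ^ j = g * b * g⁻¹ * b⁻¹ from hj]; group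
          have hsq : (a ^ j * b) ^ 2 = 1 := by rw [← hgb', conj_pow, hb2]; group
          have hdiv : a ^ (j * (1 + r)) = 1 := by
            calc a ^ (j * (1 + r)) = a ^ j * (b * a ^ j * b⁻¹) := by
                  rw [conj_eq_of_zpow hb (zpow_mem (mem_zpowers a) _), ← zpow_mul, ← zpow_add]; ring_nf
              _ = (a ^ j * b) ^ 2 * (b ^ 2)⁻¹ := by simp only [pow_two]; group
              _ = 1 := by rw [hsq, hb2]; group
          rw [← orderOf_dvd_iff_zpow_eq_one, hm] at hdiv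
          obtain ⟨k, hk⟩ : (2 : ℤ) ^ (m - 1) ∣ j := by
            push_cast at hdiv
            have h1 : (1 + r : ℤ) = 2 * (1 + 2 ^ (m - 2)) := by
              rw [hr, show m - 1 = m - 2 + 1 by omega, pow_succ]; ring
            rw [h1, show (2 : ℤ) ^ m = 2 * 2 ^ (m - 1) by rw [← pow_succ', show m - 1 + 1 = m by omega],
              mul_left_comm] at hdiv
            refine IsCoprime.dvd_of_dvd_mul_right ?_ (Int.dvd_of_mul_dvd_mul_left two_ne_zero hdiv)
            refine IsCoprime.pow_left ?_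
            refine ⟨-(2 ^ (m - 3)), 1, ?_⟩
            rw [show m - 2 = m - 3 + 1 by omega, pow_succ]
            ring
          rw [hgb', hk, zpow_mul]
          exact mul_mem (zpow_mem (Subgroup.subset_closure (by simp [hz])) k) (Subgroup.subset_closure (by simp))
        induction hx using Subgroup.closure_induction with
        | mem w hw => rcases hw with rfl | rfl <;> assumption
        | one => simp
        | mul u v _ _ hu hv => rw [show g * (u * v) * g⁻¹ = g * u * g⁻¹ * (g * v * g⁻¹) by group]; exact mul_mem hu hv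
        | inv u _ hu => rw [show g * u⁻¹ * g⁻¹ = (g * u * g⁻¹)⁻¹ by group]; exact inv_mem hu
      exact Subgroup.mem_normalizer_iff.2 fun x => ⟨hmem g x, fun hx => by
        simpa [mul_assoc] using hmem g⁻¹ _ hx⟩
    obtain ⟨v, -, hv⟩ := hcyc V hVn fun x hx y hy => congrArg Subtype.val (hVc.is_comm.comm ⟨x, hx⟩ ⟨y, hy⟩)
    have hzb : ∀ x ∈ V, x ^ 2 = 1 := by
      intro x hx
      induction hx using Subgroup.closure_induction with
      | mem w hw => rcases hw with rfl | rfl <;> assumption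
      | one => simp
      | mul u w hu hw iu iw =>
        rw [Commute.mul_pow (congrArg Subtype.val (hVc.is_comm.comm ⟨u, hu⟩ ⟨w, hw⟩)), iu, iw, one_mul]
      | inv u _ iu => rw [inv_pow, iu, inv_one]
    have hv2 : v ^ 2 = 1 := hzb v (hv ▸ mem_zpowers v)
    have hall : ∀ x ∈ V, x = 1 ∨ x = v := by
      intro x hx
      rw [← hv] at hx
      obtain ⟨i, rfl⟩ := hx
      rcases Int.even_or_odd' i with ⟨k, rfl | rfl⟩
      · exact Or.inl (by show v ^ (2 * k) = 1; rw [zpow_mul, zpow_ofNat, hv2, one_zpow])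
      · exact Or.inr (by show v ^ (2 * k + 1) = v; rw [zpow_add, zpow_mul, zpow_ofNat, hv2, one_zpow, one_mul, zpow_one])
    have hbne : b ≠ 1 := fun h => hbA (h ▸ one_mem A)
    rcases hall z (Subgroup.subset_closure (by simp)) with h | h
    · exact hzn h
    · rcases hall b (Subgroup.subset_closure (by simp)) with h' | h'
      · exact hbne h'
      · refine hbA (h'.trans h.symm ▸ ?_)
        rw [← ha]
        exact zpow_mem (mem_zpowers a) _
  -- every element squares into `A`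
  have hcases : ∀ b : G, b ∉ A → b ^ 2 ∈ A → 2 ≤ m ∧
      (b * a * b⁻¹ = a ^ (-1 : ℤ) ∨ (3 ≤ m ∧ b * a * b⁻¹ = a ^ ((2 : ℤ) ^ (m - 1) - 1))) ∧
      ∃ i : ℤ, ((b * a ^ i) ^ 2 = 1 ∧ (b * a ^ i) * a * (b * a ^ i)⁻¹ = a⁻¹) ∨
        ((b * a ^ i) ^ 2 = a ^ (2 ^ (m - 1)) ∧ (b * a ^ i) * a * (b * a ^ i)⁻¹ = a⁻¹) ∨
        (3 ≤ m ∧ (b * a ^ i) ^ 2 = 1 ∧ (b * a ^ i) * a * (b * a ^ i)⁻¹ = a ^ (2 ^ (m - 1) - 1)) := by
    intro b hbA hb2
    obtain ⟨h2, i, h⟩ := two_local hm (hconj b) (ha ▸ hb2)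
      fun h => hbA (hself b (mul_inv_eq_iff_eq_mul.2 h))
    have e : b * a ^ i * a * (b * a ^ i)⁻¹ = b * a * b⁻¹ := by group
    rcases h with h | h | ⟨h3, h4, h5⟩ | ⟨h3, h4, h5⟩
    · exact ⟨h2, Or.inl (by rw [← e, h.2, zpow_neg_one]), i, Or.inl h⟩
    · exact ⟨h2, Or.inl (by rw [← e, h.2, zpow_neg_one]), i, Or.inr (Or.inl h)⟩
    · refine absurd ?_ (hno3 h3 _ h4)
      rw [h5, ← zpow_natCast]
      push_cast
      rfl
    · refine ⟨h2, Or.inr ⟨h3, ?_⟩, i, Or.inr (Or.inr ⟨h3, h4, h5⟩)⟩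
      rw [← e, h5, ← zpow_natCast, Nat.cast_sub Nat.one_le_two_pow]
      push_cast
      rfl
  have hdvd : ∀ {s t : ℤ}, a ^ s = a ^ t → (2 : ℤ) ^ m ∣ s - t := fun {s t} h => by
    have := orderOf_dvd_iff_zpow_eq_one.2 (show a ^ (s - t) = 1 by rw [zpow_sub, h, mul_inv_cancel])
    rw [hm] at this
    exact_mod_cast this
  have hsq : ∀ c : G, c ^ 2 ∈ A := by
    by_contra h
    push Not at h
    obtain ⟨c, hc⟩ := h
    obtain ⟨k, hk⟩ : ∃ k, c ^ 2 ^ k = 1 := hG c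
    have hex : ∃ k, c ^ 2 ^ k ∈ A := ⟨k, by rw [hk]; exact one_mem A⟩
    classical
    obtain ⟨j, hj⟩ : ∃ j, Nat.find hex = j + 2 := by
      refine ⟨Nat.find hex - 2, ?_⟩
      have := Nat.find_spec hex
      rcases hh : Nat.find hex with - | - | j
      · rw [hh, pow_zero, pow_one] at this; exact absurd (pow_mem this 2) hc
      · rw [hh] at this; exact absurd this hc
      · omega
    set d := c ^ 2 ^ j with hd
    have hd2 : d ^ 2 ∉ A := by
      rw [hd, ← pow_mul, ← pow_succ]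
      exact Nat.find_min hex (by omega)
    have hd4 : (d ^ 2) ^ 2 ∈ A := by
      rw [hd, ← pow_mul, ← pow_mul, show 2 ^ j * (2 * 2) = 2 ^ (j + 2) by rw [pow_add]; norm_num, ← hj]
      exact Nat.find_spec hex
    obtain ⟨h2, hact, -⟩ := hcases _ hd2 hd4
    obtain ⟨r, hr⟩ := hconj d
    have hr' : d * a * d⁻¹ = a ^ r := hr.symm
    have hrr : d ^ 2 * a * (d ^ 2)⁻¹ = a ^ (r * r) := by
      rw [show d ^ 2 * a * (d ^ 2)⁻¹ = d * (d * a * d⁻¹) * d⁻¹ by simp only [pow_two]; group, hr',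
        conj_eq_of_zpow hr' (zpow_mem (mem_zpowers a) _), ← zpow_mul]
    have h4 : (4 : ℤ) ∣ r * r + 1 := by
      rcases hact with h | ⟨h3, h⟩ <;> rw [hrr] at h <;> have hh := hdvd h
      · exact (dvd_trans (show (4 : ℤ) ∣ 2 ^ m from by
          simpa using pow_dvd_pow (2 : ℤ) h2) hh).trans (by simp)
      · have e4 : (4 : ℤ) ∣ 2 ^ m := by simpa using pow_dvd_pow (2 : ℤ) h2
        have e5 : (4 : ℤ) ∣ 2 ^ (m - 1) := by simpa using pow_dvd_pow (2 : ℤ) (show 2 ≤ m - 1 by omega)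
        have := dvd_add (e4.trans hh) e5
        rwa [show r * r - ((2 : ℤ) ^ (m - 1) - 1) + 2 ^ (m - 1) = r * r + 1 by ring] at this
    obtain ⟨k, rfl | rfl⟩ := Int.even_or_odd' r
    · rw [show 2 * k * (2 * k) + 1 = 4 * (k * k) + 1 by ring] at h4; omega
    · rw [show (2 * k + 1) * (2 * k + 1) + 1 = 4 * (k * k + k) + 2 by ring] at h4; omega
  have hAtop : A ≠ ⊤ := fun h => hnc ⟨a, fun g => show g ∈ zpowers a by rw [ha, h]; exact mem_top g⟩
  obtain ⟨b, -, hbA⟩ := SetLike.exists_of_lt (lt_top_iff_ne_top.2 hAtop)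
  obtain ⟨h2, hact, i, hi⟩ := hcases b hbA (hsq b)
  have hindex : A.index = 2 := by
    rw [Subgroup.index_eq_two_iff]
    refine ⟨b, fun c => ?_⟩
    by_cases hc : c ∈ A
    · exact Or.inr ⟨hc, fun h => hbA ((mul_mem_cancel_left hc).1 h)⟩
    refine Or.inl ⟨?_, hc⟩
    by_contra hcb
    obtain ⟨-, hc1, -⟩ := hcases c hc (hsq c)
    obtain ⟨-, hcb1, -⟩ := hcases (c * b) hcb (hsq _)
    have hprod : ∀ s t : ℤ, c * a * c⁻¹ = a ^ s → b * a * b⁻¹ = a ^ t →
        c * b * a * (c * b)⁻¹ = a ^ (s * t) := fun s t hs ht => by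
      rw [show c * b * a * (c * b)⁻¹ = c * (b * a * b⁻¹) * c⁻¹ by group, ht, ← conj_zpow, hs, ← zpow_mul]
    have e4 : (4 : ℤ) ∣ 2 ^ m := by simpa using pow_dvd_pow (2 : ℤ) h2
    have e5 : 3 ≤ m → (4 : ℤ) ∣ 2 ^ (m - 1) := fun h3 => by
      simpa using pow_dvd_pow (2 : ℤ) (show 2 ≤ m - 1 by omega)
    have key : ∀ s t u : ℤ, (4 : ℤ) ∣ s + 1 → (4 : ℤ) ∣ t + 1 → (4 : ℤ) ∣ u + 1 →
        c * a * c⁻¹ = a ^ s → b * a * b⁻¹ = a ^ t → c * b * a * (c * b)⁻¹ = a ^ u → False := by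
      intro s t u hs ht hu h1 h1' h1''
      have hh := e4.trans (hdvd ((hprod s t h1 h1').symm.trans h1''))
      obtain ⟨x, hx⟩ := hs; obtain ⟨y, hy⟩ := ht; obtain ⟨z, hz⟩ := hu; obtain ⟨w, hw⟩ := hh
      obtain rfl : s = 4 * x - 1 := by linarith
      obtain rfl : t = 4 * y - 1 := by linarith
      obtain rfl : u = 4 * z - 1 := by linarith
      have : (4 : ℤ) ∣ 2 := ⟨w - (4 * x * y - x - y - z), by linear_combination hw⟩
      omega
    have hval : ∀ g : G, (g * a * g⁻¹ = a ^ (-1 : ℤ) ∨ (3 ≤ m ∧ g * a * g⁻¹ = a ^ ((2 : ℤ) ^ (m - 1) - 1))) →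
        ∃ s : ℤ, (4 : ℤ) ∣ s + 1 ∧ g * a * g⁻¹ = a ^ s := by
      rintro g (h | ⟨h3, h⟩)
      · exact ⟨-1, by simp, h⟩
      · exact ⟨_, by simpa using e5 h3, h⟩
    obtain ⟨s, hs, hs'⟩ := hval c hc1
    obtain ⟨t, ht, ht'⟩ := hval b hact
    obtain ⟨u, hu, hu'⟩ := hval _ hcb1
    exact key s t u hs ht hu hs' ht' hu'
  have hcard : Nat.card G = 2 * 2 ^ m := by
    rw [← A.index_mul_card, hindex, ← ha, Nat.card_zpowers, hm]
  have hbi : b * a ^ i ∉ zpowers a := fun h => hbA (by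
    rw [ha] at h
    exact (mul_mem_cancel_right (zpow_mem haA i)).1 h)
  rcases hi with ⟨e1, e2⟩ | ⟨e1, e2⟩ | ⟨h3, e1, e2⟩
  · obtain ⟨e⟩ := dihedralEquivOfGen hm e1 e2 hbi hcard
    exact (hD _).false e.symm
  · have : 2 * 2 ^ (m - 1) = 2 ^ m := by rw [← pow_succ', show m - 1 + 1 = m by omega]
    obtain ⟨e⟩ := quaternionEquivOfGen (N := 2 ^ (m - 1)) (hm.trans this.symm) e1 e2 hbi (by rw [hcard]; omega)
    exact (hQ _).false e.symm
  · refine hS ⟨m, h3, by rw [hcard, pow_succ'], a, b * a ^ i, hm, ?_, e2⟩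
    exact orderOf_eq_prime e1 fun h => hbi (h ▸ one_mem _)

end Cfsg.Agent.PGroup
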