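import Cfsg.Agent.Lib.PGroup.UniqueOrderP

/-!
# Polynomial sequences and Hall's theorem on `p`-groups of class less than `p`

* `IsPoly F k i f` : the iterated differences `Δ^j f` (`j ≤ k`) take values in `F (i + j)`;
  for a filtration `F` the sequences form a group and `⁅P_i, P_j⁆ ⊆ P_(i+j)` (Lazard).
* `IsFiltration`, `isFiltration_lowerCentralSeries` : the lower central series as a filtration.
* `mul_pow_eq_one_of_class_lt` : in a finite `p`-group of class `< p`, `x ^ p = y ^ p = 1` gives
  `(x * y) ^ p = 1`.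
-/

set_option autoImplicit false
set_option linter.unusedSectionVars false
set_option linter.style.haveILetI false

open Subgroup
open scoped commutatorElement

namespace Cfsg.Agent.PolySeq

variable {G : Type*} [Group G]

/-- The difference sequence. -/
def diff (f : ℕ → G) : ℕ → G := fun n => (f n)⁻¹ * f (n + 1)

/-- `f` is polynomial to depth `k` from level `i`. -/
def IsPoly (F : ℕ → Subgroup G) : ℕ → ℕ → (ℕ → G) → Prop
  | 0, i, f => ∀ n, f n ∈ F i
  | k + 1, i, f => (∀ n, f n ∈ F i) ∧ IsPoly F k (i + 1) (diff f)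

/-- An antitone sequence of subgroups with `⁅F i, F j⁆ ≤ F (i + j)`. -/
structure IsFiltration (F : ℕ → Subgroup G) : Prop where
  anti : Antitone F
  comm : ∀ i j, ⁅F i, F j⁆ ≤ F (i + j)

variable {F : ℕ → Subgroup G}

theorem IsPoly.mem {k i : ℕ} {f : ℕ → G} (h : IsPoly F k i f) (n : ℕ) : f n ∈ F i := by
  cases k with
  | zero => exact h n
  | succ k => exact h.1 n

theorem IsPoly.anti (hF : IsFiltration F) :
    ∀ {k i j : ℕ} {f : ℕ → G}, i ≤ j → IsPoly F k j f → IsPoly F k i f := by
  intro k
  induction k with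
  | zero => exact fun hij h n => hF.anti hij (h n)
  | succ k ih => exact fun hij h => ⟨fun n => hF.anti hij (h.1 n), ih (by omega) h.2⟩

theorem IsPoly.of_succ : ∀ {k i : ℕ} {f : ℕ → G}, IsPoly F (k + 1) i f → IsPoly F k i f := by
  intro k
  induction k with
  | zero => exact fun h => h.1
  | succ k ih => exact fun h => ⟨h.1, ih h.2⟩

/-- Lazard's theorem: products, inverses and commutators of polynomial sequences. -/
theorem isPoly_ops (hF : IsFiltration F) (k : ℕ) :
    (∀ {i : ℕ} {f g : ℕ → G}, IsPoly F k i f → IsPoly F k i g → IsPoly F k i fun n => f n * g n) ∧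
    (∀ {i : ℕ} {f : ℕ → G}, IsPoly F k i f → IsPoly F k i fun n => (f n)⁻¹) ∧
    ∀ {i j : ℕ} {f g : ℕ → G}, IsPoly F k i f → IsPoly F k j g →
      IsPoly F k (i + j) fun n => ⁅f n, g n⁆ := by
  induction k with
  | zero =>
    exact ⟨fun hf hg n => (F _).mul_mem (hf n) (hg n), fun hf n => (F _).inv_mem (hf n),
      fun hf hg n => hF.comm _ _ (commutator_mem_commutator (hf n) (hg n))⟩
  | succ k ih =>
    obtain ⟨hmul, hinv, hcomm⟩ := ih
    have hmul' : ∀ {i : ℕ} {f g : ℕ → G}, IsPoly F (k + 1) i f → IsPoly F (k + 1) i g →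
        IsPoly F (k + 1) i fun n => f n * g n := by
      intro i f g hf hg
      refine ⟨fun n => (F i).mul_mem (hf.1 n) (hg.1 n), ?_⟩
      have e : diff (fun n => f n * g n) =
          fun n => diff f n * ⁅(diff f n)⁻¹, (g n)⁻¹⁆ * diff g n := by
        funext n; simp only [diff, commutatorElement_def]; group
      rw [e]
      exact hmul (hmul hf.2 (IsPoly.anti hF (by omega) (hcomm (hinv hf.2) (hinv hg.of_succ)))) hg.2
    refine ⟨hmul', ?_, ?_⟩
    · intro i f hf
      refine ⟨fun n => (F i).inv_mem (hf.1 n), ?_⟩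
      have e : diff (fun n => (f n)⁻¹) = fun n => ⁅f n, (diff f n)⁻¹⁆ * (diff f n)⁻¹ := by
        funext n; simp only [diff, commutatorElement_def]; group
      rw [e]
      exact hmul (IsPoly.anti hF (by omega) (hcomm hf.of_succ (hinv hf.2))) (hinv hf.2)
    · intro i j f g hf hg
      refine ⟨fun n => hF.comm i j (commutator_mem_commutator (hf.1 n) (hg.1 n)), ?_⟩
      have e : diff (fun n => ⁅f n, g n⁆) = fun n =>
          (⁅f n, g n⁆)⁻¹ * (⁅f n, ⁅diff f n, g n * diff g n⁆⁆ * ⁅diff f n, g n * diff g n⁆) *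
            ⁅f n, g n⁆ * (⁅g n, ⁅f n, diff g n⁆⁆ * ⁅f n, diff g n⁆) := by
        funext n; simp only [diff, commutatorElement_def]; group
      rw [e]
      have hconj : ∀ {m r : ℕ} {u v : ℕ → G}, IsPoly F k m u → IsPoly F k r v →
          IsPoly F k m fun n => ⁅v n, u n⁆ * u n := fun hu hv =>
        hmul (IsPoly.anti hF (by omega) (hcomm hv hu)) hu
      have hc1 : IsPoly F k (i + j + 1) fun n => ⁅diff f n, g n * diff g n⁆ :=
        IsPoly.anti hF (by omega) (hcomm hf.2 (hmul hg.of_succ (IsPoly.anti hF (by omega) hg.2)))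
      have hc2 : IsPoly F k (i + j + 1) fun n => ⁅f n, diff g n⁆ :=
        IsPoly.anti hF (by omega) (hcomm hf.of_succ hg.2)
      have hc0 : IsPoly F k (i + j) fun n => ⁅f n, g n⁆ := hcomm hf.of_succ hg.of_succ
      have h1 := hconj hc1 hf.of_succ
      have h2 := hconj hc2 hg.of_succ
      have h3 := hconj h1 (hinv hc0)
      refine hmul ?_ h2
      convert h3 using 1
      funext n
      simp only [commutatorElement_def]; group

theorem IsPoly.mul (hF : IsFiltration F) {k i : ℕ} {f g : ℕ → G} (hf : IsPoly F k i f)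
    (hg : IsPoly F k i g) : IsPoly F k i fun n => f n * g n := (isPoly_ops hF k).1 hf hg

theorem IsPoly.inv (hF : IsFiltration F) {k i : ℕ} {f : ℕ → G} (hf : IsPoly F k i f) :
    IsPoly F k i fun n => (f n)⁻¹ := (isPoly_ops hF k).2.1 hf

theorem isPoly_one : ∀ k i, IsPoly F k i fun _ => (1 : G) := by
  intro k
  induction k with
  | zero => exact fun i _ => (F i).one_mem
  | succ k ih =>
    intro i
    refine ⟨fun _ => (F i).one_mem, ?_⟩
    have e : diff (fun _ : ℕ => (1 : G)) = fun _ => 1 := by funext n; simp [diff]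
    rw [e]; exact ih _

/-- `n ↦ c ^ C(n, r)` is polynomial from level `i` when `c ∈ F (i + r)`. -/
theorem isPoly_pow_choose (hF : IsFiltration F) : ∀ {k i r : ℕ} {c : G}, c ∈ F (i + r) →
    IsPoly F k i fun n => c ^ n.choose r := by
  intro k
  induction k with
  | zero => exact fun hc n => pow_mem (hF.anti (Nat.le_add_right _ _) hc) _
  | succ k ih =>
    intro i r c hc
    refine ⟨fun n => pow_mem (hF.anti (Nat.le_add_right _ _) hc) _, ?_⟩
    cases r with
    | zero =>
      have e : diff (fun n => c ^ n.choose 0) = fun _ => 1 := by funext n; simp [diff]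
      rw [e]; exact isPoly_one _ _
    | succ r =>
      have e : diff (fun n => c ^ n.choose (r + 1)) = fun n => c ^ n.choose r := by
        funext n; simp [diff, Nat.choose_succ_succ, pow_add]
        group
      rw [e]
      exact ih (by rwa [show i + 1 + r = i + (r + 1) by omega])

theorem isPoly_pow (hF : IsFiltration F) {k : ℕ} {c : G} (hc : c ∈ F 1) :
    IsPoly F k 0 fun n => c ^ n := by
  simpa using isPoly_pow_choose hF (k := k) (i := 0) (r := 1) hc

/-- If `f` vanishes below `r` then `f r` lies `r` levels down. -/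
theorem IsPoly.mem_of_vanish : ∀ {r k i : ℕ} {f : ℕ → G}, r ≤ k → IsPoly F k i f →
    (∀ m < r, f m = 1) → f r ∈ F (i + r) := by
  intro r
  induction r with
  | zero => exact fun _ h _ => h.mem 0
  | succ r ih =>
    intro k i f hk h hv
    obtain ⟨k, rfl⟩ : ∃ k', k = k' + 1 := ⟨k - 1, by omega⟩
    have := ih (by omega) h.2 (fun m hm => by simp [diff, hv m (by omega), hv (m + 1) (by omega)])
    simpa [diff, hv r (by omega), show i + 1 + r = i + (r + 1) by omega] using this

/-- A polynomial sequence of degree `< k` with `k` zeros is trivial. -/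
theorem IsPoly.eq_one : ∀ {k i : ℕ} {f : ℕ → G}, IsPoly F k i f → F (i + k) = ⊥ →
    (∀ m < k, f m = 1) → ∀ n, f n = 1 := by
  intro k
  induction k with
  | zero =>
    intro i f h hb _ n
    have := h n
    rwa [show i = i + 0 from rfl, hb, mem_bot] at this
  | succ k ih =>
    intro i f h hb hv n
    have hd := ih h.2 (by rwa [show i + 1 + k = i + (k + 1) by omega])
      (fun m hm => by simp [diff, hv m (by omega), hv (m + 1) (by omega)])
    induction n with
    | zero => exact hv 0 (by omega)
    | succ n ihn =>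
      have := hd n
      rwa [diff, ihn, inv_one, one_mul] at this

/-- The lower central series, shifted to start at index `1`. -/
def lcsFil (G : Type*) [Group G] (i : ℕ) : Subgroup G := (⊤ : Subgroup G).lowerCentralSeries (i - 1)

theorem isFiltration_lowerCentralSeries : IsFiltration (lcsFil G) := by
  have hanti : Antitone ((⊤ : Subgroup G).lowerCentralSeries) := Subgroup.lowerCentralSeries_antitone _
  have hn : ∀ a, ((⊤ : Subgroup G).lowerCentralSeries a).Normal := fun a => inferInstance
  have key : ∀ b a, ⁅(⊤ : Subgroup G).lowerCentralSeries a, (⊤ : Subgroup G).lowerCentralSeries b⁆ ≤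
      (⊤ : Subgroup G).lowerCentralSeries (a + b + 1) := by
    intro b
    induction b with
    | zero =>
      intro a
      rw [Subgroup.lowerCentralSeries_succ, Subgroup.lowerCentralSeries_zero]
    | succ b ih =>
      intro a
      set γ := (⊤ : Subgroup G).lowerCentralSeries with hγ
      have hs : ∀ c, ⁅γ c, (⊤ : Subgroup G)⁆ = γ (c + 1) := fun c => (Subgroup.lowerCentralSeries_succ _ c).symm
      have hN := hn (a + (b + 1) + 1)
      rw [← hs b, commutator_comm (γ a)]
      have key : ∀ D : Subgroup G, D ≤ γ (a + (b + 1) + 1) ↔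
          D.map (QuotientGroup.mk' (γ (a + (b + 1) + 1))) = ⊥ := fun D => by
        rw [Subgroup.map_eq_bot_iff, QuotientGroup.ker_mk']
      rw [key]
      simp only [Subgroup.map_commutator]
      apply Subgroup.commutator_commutator_eq_bot_of_rotate <;>
        simp only [← Subgroup.map_commutator, ← key]
      · rw [commutator_comm (⊤ : Subgroup G), hs, commutator_comm]
        calc ⁅γ b, γ (a + 1)⁆ = ⁅γ (a + 1), γ b⁆ := commutator_comm _ _
          _ ≤ γ (a + 1 + b + 1) := ih (a + 1)
          _ = γ (a + (b + 1) + 1) := by rw [show a + 1 + b + 1 = a + (b + 1) + 1 by omega]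
      · calc ⁅⁅γ a, γ b⁆, (⊤ : Subgroup G)⁆ ≤ ⁅γ (a + b + 1), (⊤ : Subgroup G)⁆ :=
              commutator_mono (ih a) le_rfl
          _ = γ (a + b + 1 + 1) := hs _
          _ = γ (a + (b + 1) + 1) := by rw [show a + b + 1 + 1 = a + (b + 1) + 1 by omega]
  constructor
  · intro i j hij
    exact hanti (by omega : i - 1 ≤ j - 1)
  · intro i j
    exact (key _ _).trans (hanti (by omega : i + j - 1 ≤ i - 1 + (j - 1) + 1))

/-- A polynomial sequence with values in a set of exponent `p`, trivial at `0`, is trivial at `p`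
when the filtration has length `< p`. -/
theorem IsPoly.apply_prime_eq_one (hF : IsFiltration F) {p : ℕ} (hp : p.Prime) (hb : F p = ⊥)
    (A : Subgroup G) (hA : ∀ a ∈ A, a ^ p = 1) {f : ℕ → G} (hf : IsPoly F p 0 f)
    (hfA : ∀ n, f n ∈ A) (hf0 : f 0 = 1) : f p = 1 := by
  suffices H : ∀ r ≤ p, ∃ h : ℕ → G, IsPoly F p 0 h ∧ (∀ n, h n ∈ A) ∧ (∀ m < r, h m = 1) ∧
      h 0 = 1 ∧ h p = f p by
    obtain ⟨h, hh, -, hv, -, hpp⟩ := H p le_rfl
    rw [← hpp]
    exact hh.eq_one (by simpa using hb) hv p
  intro r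
  induction r with
  | zero => exact fun _ => ⟨f, hf, hfA, fun m hm => absurd hm (Nat.not_lt_zero m), hf0, rfl⟩
  | succ r ih =>
    intro hr
    obtain ⟨h, hh, hA', hv, h0, hpp⟩ := ih (by omega)
    by_cases hr0 : r = 0
    · exact ⟨h, hh, hA', fun m hm => (show m = 0 by omega) ▸ h0, h0, hpp⟩
    have hc : h r ∈ F (0 + r) := hh.mem_of_vanish (by omega) hv
    refine ⟨fun n => h n * ((h r)⁻¹) ^ n.choose r, hh.mul hF (isPoly_pow_choose hF (inv_mem hc)),
      fun n => A.mul_mem (hA' n) (pow_mem (inv_mem (hA' r)) _), fun m hm => ?_, ?_, ?_⟩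
    · rcases eq_or_ne m r with rfl | hne
      · simp
      · simp [hv m (by omega), Nat.choose_eq_zero_of_lt (show m < r by omega)]
    · simp [h0, Nat.choose_eq_zero_of_lt (show 0 < r by omega)]
    · obtain ⟨t, ht⟩ := hp.dvd_choose_self hr0 (show r < p by omega)
      simp only [ht, pow_mul, hA _ (inv_mem (hA' r)), one_pow, mul_one, hpp]

/-- Hall: in a finite `p`-group of class `< p`, elements of order dividing `p` are closed under
multiplication. -/
theorem mul_pow_eq_one_of_class_lt {p : ℕ} [hp : Fact p.Prime] :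
    ∀ (m : ℕ) {G : Type*} [Group G] [Finite G], Nat.card G = m → IsPGroup p G →
      (⊤ : Subgroup G).lowerCentralSeries (p - 1) = ⊥ →
      ∀ x y : G, x ^ p = 1 → y ^ p = 1 → (x * y) ^ p = 1 := by
  intro m
  induction m using Nat.strong_induction_on with
  | _ m ih =>
    intro G _ _ hm hG hcl x y hx hy
    by_cases htop : zpowers x = ⊤
    · have hcxy : Commute x y := by
        obtain ⟨n, hn⟩ := mem_zpowers_iff.mp (htop.symm ▸ mem_top y : y ∈ zpowers x)
        rw [← hn]; exact Commute.self_zpow x n
      rw [hcxy.mul_pow, hx, hy, one_mul]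
    obtain ⟨M, hM, hxM⟩ := IsCoatomic.eq_top_or_exists_le_coatom (zpowers x) |>.resolve_left htop
    haveI := PGroup.isCoatom_normal hG hM
    have hcard : Nat.card M < m := by
      rw [← hm]
      exact lt_of_le_of_ne (Subgroup.card_le_card_group M) fun he => hM.1 (M.eq_top_of_card_eq he)
    have hclM : (⊤ : Subgroup M).lowerCentralSeries (p - 1) = ⊥ := by
      have : ((⊤ : Subgroup M).lowerCentralSeries (p - 1)).map M.subtype ≤ ⊥ := by
        rw [top_subtype_lowerCentralSeries, ← hcl]
        generalize p - 1 = c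
        induction c with
        | zero => exact le_top
        | succ c ihc =>
          rw [Subgroup.lowerCentralSeries_succ, Subgroup.lowerCentralSeries_succ]
          exact commutator_mono ihc le_top
      rwa [le_bot_iff, map_eq_bot_iff_of_injective _ M.subtype_injective] at this
    have hclosed := ih _ hcard rfl (hG.to_subgroup M) hclM
    let A : Subgroup G :=
      { carrier := {g | g ∈ M ∧ g ^ p = 1}
        mul_mem' := fun {a b} ha hb => ⟨M.mul_mem ha.1 hb.1, congrArg Subtype.val
          (hclosed ⟨a, ha.1⟩ ⟨b, hb.1⟩ (Subtype.ext ha.2) (Subtype.ext hb.2))⟩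
        one_mem' := ⟨M.one_mem, one_pow _⟩
        inv_mem' := fun {a} ha => ⟨M.inv_mem ha.1, by rw [inv_pow, ha.2, inv_one]⟩ }
    haveI hAn : A.Normal := ⟨fun a ha g => ⟨(inferInstance : M.Normal).conj_mem a ha.1 g,
      by rw [conj_pow, ha.2, mul_one, mul_inv_cancel]⟩⟩
    have hxA : x ∈ A := ⟨hxM (mem_zpowers x), hx⟩
    have hfA : ∀ n, (x * y) ^ n * y⁻¹ ^ n ∈ A := by
      intro n
      induction n with
      | zero => simp
      | succ n ihn =>
        have e : (x * y) ^ (n + 1) * y⁻¹ ^ (n + 1) =
            (x * y) ^ n * y⁻¹ ^ n * (y ^ n * x * (y ^ n)⁻¹) := by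
          rw [pow_succ, pow_succ', inv_pow]; group
        rw [e]
        exact A.mul_mem ihn (hAn.conj_mem x hxA _)
    have hF := isFiltration_lowerCentralSeries (G := G)
    have hmem : ∀ g : G, g ∈ lcsFil G 1 := fun g => mem_top g
    have key := IsPoly.apply_prime_eq_one hF hp.out (by simpa [lcsFil] using hcl) A
      (fun a ha => ha.2) ((isPoly_pow hF (hmem (x * y))).mul hF (isPoly_pow hF (hmem y⁻¹))) hfA
      (by simp)
    simpa [inv_pow, hy] using key

/-- Hall: in a finite `p`-group of class `< p` the solutions of `g ^ p = 1` form a subgroup. -/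
theorem exists_subgroup_pow_eq_one_of_class_lt {G : Type*} [Group G] [Finite G] {p : ℕ}
    [Fact p.Prime] (hG : IsPGroup p G) (hcl : (⊤ : Subgroup G).lowerCentralSeries (p - 1) = ⊥) :
    ∃ H : Subgroup G, (H : Set G) = {g : G | g ^ p = 1} :=
  ⟨{ carrier := {g : G | g ^ p = 1}
     mul_mem' := fun {a b} ha hb => mul_pow_eq_one_of_class_lt _ rfl hG hcl a b ha hb
     one_mem' := one_pow _
     inv_mem' := fun {a} (ha : a ^ p = 1) => by
       show a⁻¹ ^ p = 1
       rw [inv_pow, ha, inv_one] }, rfl⟩

end Cfsg.Agent.PolySeq
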