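import Cfsg.Agent.Lib.PGroup.Critical
import Cfsg.Agent.Lib.PGroup.NormalAbelian

/-!
# Automorphisms of p-groups of rank two

* `card_le_cube_of_exponent_rank_two`: exponent `p` and rank at most two: order at most `p^3`.
* `prime_dvd_card_sub_fixed`: counting the orbits of an automorphism of prime order.
* `prime_divisor_aut_rank_two`: primes dividing `|Aut R|`, `R` of rank at most two.
-/

set_option linter.style.haveILetI false
set_option linter.unusedSectionVars false

open Subgroup
open scoped commutatorElement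

namespace Cfsg.Agent.PGroup

variable {G : Type*} [Group G] [Finite G] {p : ℕ} [hp : Fact p.Prime]

theorem card_le_cube_of_exponent_rank_two (hG : IsPGroup p G) (he : ∀ g : G, g ^ p = 1)
    (hrk : ∀ A : Subgroup G, (∀ x ∈ A, ∀ y ∈ A, x * y = y * x) → Nat.card A ≤ p ^ 2) :
    Nat.card G ≤ p ^ 3 := by
  obtain ⟨A, -, hmax⟩ := Finite.exists_le_maximal (α := Subgroup G)
    (p := fun A => A.Normal ∧ ∀ x ∈ A, ∀ y ∈ A, x * y = y * x) (a := ⊥)
    ⟨inferInstance, fun x hx y hy => by rw [mem_bot.mp hx, mem_bot.mp hy]⟩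
  obtain ⟨hAn, hAc⟩ := hmax.prop
  haveI := hAn
  have hC := centralizer_eq_of_maximal_normal_abelian hG hAc
    fun B hB hBc hAB => le_antisymm (hmax.2 ⟨hB, hBc⟩ hAB) hAB
  obtain ⟨a, ha⟩ := exists_subgroup_card_eq_pow hG A
  have ha2 : a ≤ 2 := (Nat.pow_le_pow_iff_right hp.out.one_lt).mp (ha ▸ hrk A hAc)
  have hb := index_centralizer_le hG a A hAn ha
  rw [hC] at hb
  refine (card_le_of_index_le ha.le hb).trans ?_
  rw [← pow_add]
  exact Nat.pow_le_pow_right hp.out.pos (by interval_cases a <;> norm_num)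

/-- An automorphism `b` with `b ^ q = 1` moves a multiple of `q` elements. -/
theorem prime_dvd_card_sub_fixed {q : ℕ} (hq : q.Prime) {b : MulAut G} (hb : b ^ q = 1)
    (F : Subgroup G) (hF : ∀ g, g ∈ F ↔ b g = g) : q ∣ Nat.card G - Nat.card F := by
  haveI := Fact.mk hq
  have hP : IsPGroup q (zpowers b) := by
    refine IsPGroup.of_card_dvd_pow (n := 1) ?_
    rw [Nat.card_zpowers, pow_one]
    exact orderOf_dvd_of_pow_eq_one hb
  have h := hP.card_modEq_card_fixedPoints G
  have e : MulAction.fixedPoints (zpowers b) G = (F : Set G) := by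
    ext g
    rw [SetLike.mem_coe, hF, MulAction.mem_fixedPoints]
    constructor
    · intro hg; exact hg ⟨b, mem_zpowers b⟩
    · rintro hg ⟨c, hc⟩
      have : zpowers b ≤ MulAction.stabilizer (MulAut G) g := zpowers_le.mpr hg
      exact this hc
  rw [e] at h
  exact (Nat.modEq_iff_dvd' (Nat.le_of_dvd Nat.card_pos (card_subgroup_dvd_card F))).mp h.symm

theorem prime_divisor_bound {q k f : ℕ} (hq : q.Prime) (hqp : q ≠ p) (hfk : f < k)
    (h : q ∣ p ^ k - p ^ f) : q ∣ p ^ (k - f) - 1 := by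
  have e : p ^ k - p ^ f = p ^ f * (p ^ (k - f) - 1) := by
    rw [Nat.mul_sub, mul_one, ← pow_add, Nat.add_sub_cancel' hfk.le]
  rw [e] at h
  exact (hq.dvd_mul.mp h).resolve_left fun h' =>
    hqp ((Nat.prime_dvd_prime_iff_eq hq hp.out).mp (hq.dvd_of_dvd_pow h'))

theorem lt_of_dvd_sq_sub_one {q : ℕ} (hq : q.Prime) (hp2 : p ≠ 2) (h : q ∣ p ^ 2 - 1) : q < p := by
  rw [show (p : ℕ) ^ 2 - 1 = (p + 1) * (p - 1) by
    rw [← Nat.sq_sub_sq]; ] at h
  have := hp.out.two_le
  rcases hq.dvd_mul.mp h with h | h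
  · obtain ⟨j, hj⟩ := h
    rcases Nat.lt_or_ge j 2 with hj2 | hj2
    · exfalso
      interval_cases j
      · omega
      · have hodd := hp.out.odd_of_ne_two hp2
        have : Even q := by rw [show q = p + 1 by omega]; exact hodd.add_one
        have := hq.even_iff.mp this
        omega
    · nlinarith
  · have := Nat.le_of_dvd (by omega) h
    omega

theorem prime_divisor_aut_rank_two (hp2 : p ≠ 2) (hG : IsPGroup p G) (hrk : Cfsg.PRankLE p 2 G) {q : ℕ}
    (hq : q.Prime) (hqp : q ≠ p) (hdvd : q ∣ Nat.card (MulAut G)) : q ∣ p ^ 2 - 1 ∧ q < p := by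
  suffices h : q ∣ p ^ 2 - 1 from ⟨h, lt_of_dvd_sq_sub_one hq hp2 h⟩
  haveI := Fact.mk hq
  obtain ⟨a, ha⟩ := exists_prime_orderOf_dvd_card' q hdvd
  have hco : Nat.Coprime (orderOf a) p := ha ▸ (Nat.coprime_primes hq hp.out).mpr hqp
  obtain ⟨H, hH⟩ := exists_critical hG
  haveI := hH.char
  set K := closure {x : G | x ∈ H ∧ x ^ p = 1} with hK
  have hKH : K ≤ H := (closure_le H).mpr fun x hx => hx.1
  have hcen : ∀ u v : H, ⁅u, v⁆ ∈ center H := fun u v => mem_center_iff.mpr fun w =>
    Subtype.ext (mem_centralizer_iff.mp (hH.comm_mem u u.2 v).2 _ w.2)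
  have hKe : ∀ x ∈ K, x ^ p = 1 := by
    intro x hx
    have hxK : (⟨x, hKH hx⟩ : H) ∈ closure {y : H | y ^ p = 1} := by
      have hle : K ≤ (closure {y : H | y ^ p = 1}).map H.subtype := (closure_le _).mpr fun y hy =>
        ⟨⟨y, hy.1⟩, subset_closure (Subtype.ext (by simpa using hy.2)), rfl⟩
      obtain ⟨w, hw, hwx⟩ := hle hx
      rwa [show (⟨x, hKH hx⟩ : H) = w from Subtype.ext hwx.symm]
    simpa using congrArg Subtype.val (exponent_omega_classTwo hp.out hp2 hcen hxK)
  have hKinv : ∀ (φ : MulAut G), ∀ x ∈ K, φ x ∈ K := fun φ x hx =>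
    subset_closure ⟨(aut_mem_iff φ x).mpr (hKH hx), by rw [← map_pow, hKe x hx, map_one]⟩
  let b : MulAut K :=
    { toFun := fun x => ⟨a x, hKinv a x x.2⟩
      invFun := fun x => ⟨a.symm x, hKinv a.symm x x.2⟩
      left_inv := fun x => Subtype.ext (a.symm_apply_apply _)
      right_inv := fun x => Subtype.ext (a.apply_symm_apply _)
      map_mul' := fun x y => Subtype.ext (map_mul a _ _) }
  have hbpow : ∀ (j : ℕ) (x : K), ((b ^ j) x : G) = (a ^ j) x := by
    intro j x
    induction j with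
    | zero => rfl
    | succ j ih =>
      rw [pow_succ', pow_succ', MulAut.mul_apply, MulAut.mul_apply]
      show a ((b ^ j) x : G) = _
      rw [ih]
  have hbq : b ^ q = 1 := by
    ext x
    rw [hbpow, ← ha, pow_orderOf_eq_one]
    rfl
  obtain ⟨k, hk⟩ := exists_subgroup_card_eq_pow hG K
  have hk3 : k ≤ 3 := by
    refine (Nat.pow_le_pow_iff_right hp.out.one_lt).mp (hk ▸ card_le_cube_of_exponent_rank_two
      (hG.to_subgroup K) (fun x => Subtype.ext (by simpa using hKe x x.2)) fun A hA => ?_)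
    rw [← card_map_of_injective K.subtype_injective]
    refine hrk _ ⟨⟨fun u v => ?_⟩⟩ ?_
    · obtain ⟨_, u', hu', rfl⟩ := u
      obtain ⟨_, v', hv', rfl⟩ := v
      refine Subtype.ext ?_; show (u' : G) * v' = v' * u'; exact congrArg Subtype.val (hA u' hu' v' hv')
    · rintro _ ⟨u, hu, rfl⟩
      exact hKe u u.2
  let F : Subgroup K := MonoidHom.eqLocus b.toMonoidHom (MonoidHom.id K)
  have hF : ∀ g, g ∈ F ↔ b g = g := fun g => Iff.rfl
  have hF1 := prime_dvd_card_sub_fixed hq hbq F hF
  obtain ⟨f, hf⟩ := exists_subgroup_card_eq_pow (hG.to_subgroup K) F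
  have hfk : f < k := by
    have hne : F ≠ ⊤ := fun h => by
      have h1 : a = 1 := aut_eq_one_of_fix_omega_critical hp2 hG hco hH fun x hx hxp => by
        have := (hF ⟨x, subset_closure ⟨hx, hxp⟩⟩).mp (h ▸ mem_top _)
        exact congrArg Subtype.val this
      rw [h1, orderOf_one] at ha
      exact hq.ne_one ha.symm
    have h1 := mul_card_le_of_lt (hG.to_subgroup K) (lt_top_iff_ne_top.mpr hne)
    rw [card_top, hk, hf, ← pow_succ'] at h1
    exact (Nat.pow_le_pow_iff_right hp.out.one_lt).mp h1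
  rw [hk, hf] at hF1
  have h1 := prime_divisor_bound hq hqp hfk hF1
  have hle : q ∣ p - 1 → q ∣ p ^ 2 - 1 := fun h => h.trans (Nat.sub_one_dvd_pow_sub_one p 2)
  by_cases h2 : k - f ≤ 2
  · obtain h2 | h2 : k - f = 1 ∨ k - f = 2 := by omega
    · rw [h2, pow_one] at h1; exact hle h1
    · rwa [h2] at h1
  -- `K` has order `p^3` and no fixed points
  obtain ⟨rfl, rfl⟩ : k = 3 ∧ f = 0 := by omega
  haveI : Nontrivial K := (IsPGroup.nontrivial_iff_card (hG.to_subgroup K)).mpr ⟨3, by norm_num, hk⟩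
  obtain ⟨c, hc, hcK⟩ := IsPGroup.card_center_eq_prime_pow hk (by norm_num)
  have hc1 : c ≤ 1 := by
    by_contra hcon
    have hcomm : ∀ u v : K, u * v = v * u := by
      haveI : IsCyclic (K ⧸ center K) := by
        obtain ⟨j, hj⟩ := exists_card_eq_pow ((hG.to_subgroup K).to_quotient (center K))
        have h := card_eq_card_quotient_mul_card_subgroup (center K)
        rw [hk, hj, hcK, ← pow_add] at h
        have := Nat.pow_right_injective hp.out.two_le h
        obtain rfl | rfl : j = 0 ∨ j = 1 := by omega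
        · haveI : Subsingleton (K ⧸ center K) := (Nat.card_eq_one_iff_unique.mp (by simpa using hj)).1
          exact isCyclic_of_subsingleton
        · exact isCyclic_of_prime_card (p := p) (by simpa using hj)
      exact fun u v => (isMulCommutative_of_isCyclic_quotient_center_self (G := K)).is_comm.comm u v
    have := hrk K ⟨⟨hcomm⟩⟩ hKe
    rw [hk] at this
    exact absurd ((Nat.pow_le_pow_iff_right hp.out.one_lt).mp this) (by norm_num)
  obtain rfl : c = 1 := by omega
  let Z := center K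
  let bZ : MulAut Z :=
    { toFun := fun x => ⟨b x, (aut_mem_iff b (x : K)).mpr x.2⟩
      invFun := fun x => ⟨b.symm x, (aut_mem_iff b.symm (x : K)).mpr x.2⟩
      left_inv := fun x => Subtype.ext (b.symm_apply_apply _)
      right_inv := fun x => Subtype.ext (b.apply_symm_apply _)
      map_mul' := fun x y => Subtype.ext (map_mul b _ _) }
  have hZpow : ∀ (j : ℕ) (x : Z), ((bZ ^ j) x : K) = (b ^ j) x := by
    intro j x
    induction j with
    | zero => rfl
    | succ j ih =>
      rw [pow_succ', pow_succ', MulAut.mul_apply, MulAut.mul_apply]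
      show b ((bZ ^ j) x : K) = _
      rw [ih]
  have hZq : bZ ^ q = 1 := by
    ext x
    rw [hZpow, hbq]
    rfl
  have hFbot : F = ⊥ := eq_bot_of_card_eq F (by simpa using hf)
  have h3 := prime_dvd_card_sub_fixed hq hZq (F.subgroupOf Z) fun g => by
    rw [mem_subgroupOf, hF]
    exact ⟨fun h => Subtype.ext h, fun h => congrArg Subtype.val h⟩
  rw [hFbot, bot_subgroupOf, card_bot, hcK, pow_one] at h3
  exact hle h3

end Cfsg.Agent.PGroup
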