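import Cfsg.Agent.Lib.PGroup.RankTwo

/-!
# Huppert's criterion

* `isCyclic_commutator_of_smallExponent`: `p > 3`, exponent-`p` subgroups of order `≤ p^2`: derived subgroup cyclic.
* `exists_pow_eq_mul`: products of `p`-th powers are `p`-th powers (odd `p`, cyclic derived subgroup).
* `isMetacyclic_of_smallExponent`: such groups are metacyclic.
-/

set_option linter.style.haveILetI false
set_option linter.unusedSectionVars false

open Subgroup
open scoped commutatorElement

universe u

namespace Cfsg.Agent.PGroup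

variable {p : ℕ} [hp : Fact p.Prime]

theorem agemo_facts (hp3 : 3 < p) {G : Type u} [Group G] [Finite G] (hG : IsPGroup p G)
    (h : SmallExponent p G) :
    frattini G = closure (Set.range fun x : G => x ^ p) ∧ (frattini G).index ≤ p ^ 2 := by
  set M := closure (Set.range fun x : G => x ^ p) with hM
  haveI : M.Normal := ⟨fun n hn g => by
    induction hn using closure_induction with
    | mem x hx => obtain ⟨y, rfl⟩ := hx; exact subset_closure ⟨g * y * g⁻¹, conj_pow⟩
    | one => simp
    | mul x y _ _ hx hy => simpa [mul_assoc] using mul_mem hx hy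
    | inv x _ hx => simpa [mul_assoc] using inv_mem hx⟩
  have hexp : ∀ q : G ⧸ M, q ^ p = 1 := fun q => QuotientGroup.induction_on q fun x => by
    rw [← QuotientGroup.mk_pow]; exact (QuotientGroup.eq_one_iff _).mpr (subset_closure ⟨x, rfl⟩)
  have hcard : Nat.card (G ⧸ M) ≤ p ^ 2 := by
    rw [← card_top]
    exact smallExponent_quotient hp3 (Nat.card M) G hG h M le_rfl ⊤ fun q _ => hexp q
  have hcomm : _root_.commutator G ≤ M := by
    refine Subgroup.Normal.quotient_commutative_iff_commutator_le.mp ?_
    obtain ⟨k, hk⟩ := exists_card_eq_pow (hG.to_quotient M)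
    have hk2 : k ≤ 2 := (Nat.pow_le_pow_iff_right hp.out.one_lt).mp (hk ▸ hcard)
    interval_cases k
    · haveI : Subsingleton (G ⧸ M) := (Nat.card_eq_one_iff_unique.mp (by simpa using hk)).1
      exact ⟨⟨fun a b => Subsingleton.elim _ _⟩⟩
    · haveI : IsCyclic (G ⧸ M) := isCyclic_of_prime_card (p := p) (by simpa using hk)
      exact IsCyclic.isMulCommutative
    · exact IsPGroup.isMulCommutative_of_card_eq_prime_sq hk
  have e : frattini G = M := by rw [frattini_eq hG, ← hM, sup_eq_right.mpr hcomm]
  exact ⟨e, by rw [e, index_eq_card]; exact hcard⟩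

theorem exists_generators (hp3 : 3 < p) {G : Type u} [Group G] [Finite G] (hG : IsPGroup p G)
    (h : SmallExponent p G) : ∃ a b : G, closure {a, b} = ⊤ := by
  obtain ⟨-, hi⟩ := agemo_facts hp3 hG h
  by_cases hcyc : IsCyclic G
  · obtain ⟨g, hg⟩ := hcyc.exists_generator
    exact ⟨g, 1, eq_top_iff.mpr fun x _ => (zpowers_le.mpr (subset_closure (by simp))) (hg x)⟩
  have hne : frattini G ≠ ⊤ := fun h' =>
    hcyc (isCyclic_of_sup_frattini (x := (1 : G)) (by rw [h', sup_top_eq]))
  obtain ⟨a, -, ha⟩ := SetLike.exists_of_lt (lt_top_iff_ne_top.mpr hne)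
  have hlt : frattini G < zpowers a ⊔ frattini G :=
    lt_of_le_of_ne le_sup_right fun h' => ha (h' ▸ mem_sup_left (mem_zpowers a))
  have hne2 : zpowers a ⊔ frattini G ≠ ⊤ := fun h' => hcyc (isCyclic_of_sup_frattini h')
  obtain ⟨b, -, hb⟩ := SetLike.exists_of_lt (lt_top_iff_ne_top.mpr hne2)
  refine ⟨a, b, eq_top_of_sup_frattini (eq_of_le_of_card_le le_top ?_)⟩
  have hlt2 : zpowers a ⊔ frattini G < closure {a, b} ⊔ frattini G := by
    refine lt_of_le_of_ne (sup_le_sup_right (zpowers_le.mpr (subset_closure (by simp))) _) fun h' => hb ?_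
    rw [h']; exact mem_sup_left (subset_closure (by simp))
  rw [card_top, ← card_mul_index (frattini G)]
  calc Nat.card (frattini G) * (frattini G).index ≤ p * (p * Nat.card (frattini G)) := by
        calc _ ≤ Nat.card (frattini G) * p ^ 2 := Nat.mul_le_mul le_rfl hi
          _ = _ := by ring
    _ ≤ p * Nat.card (zpowers a ⊔ frattini G : Subgroup G) :=
        Nat.mul_le_mul le_rfl (mul_card_le_of_lt hG hlt)
    _ ≤ _ := mul_card_le_of_lt hG hlt2

theorem isCyclic_commutator_of_smallExponent (hp3 : 3 < p) : ∀ (n : ℕ) (G : Type u) [Group G] [Finite G],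
    IsPGroup p G → SmallExponent p G → Nat.card G ≤ n → IsCyclic (_root_.commutator G) := by
  intro n
  induction n with
  | zero => intro G _ _ _ _ hn; exact absurd hn (not_le.mpr Nat.card_pos)
  | succ n ih =>
    intro G _ _ hG h hn
    set D := _root_.commutator G with hD
    by_cases hD1 : D = ⊥
    · rw [hD1]; infer_instance
    obtain ⟨Z, hZn, hZD, hZc, hZ⟩ := exists_normal_card_eq_prime hG hD1
    haveI := hZn
    have hlt : Nat.card (G ⧸ Z) < Nat.card G := by
      rw [card_eq_card_quotient_mul_card_subgroup Z, hZ]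
      exact lt_mul_of_one_lt_right Nat.card_pos hp.out.one_lt
    have hq := ih (G ⧸ Z) (hG.to_quotient Z) (smallExponent_quotient hp3 _ G hG h Z le_rfl) (by omega)
    obtain ⟨c, hc⟩ := (Subgroup.isCyclic_iff_exists_zpowers_eq_top _).mp hq
    have hmap : D.map (QuotientGroup.mk' Z) = _root_.commutator (G ⧸ Z) := by
      rw [hD, _root_.commutator_def, map_commutator,
        map_top_of_surjective _ (QuotientGroup.mk'_surjective Z), _root_.commutator_def]
    obtain ⟨d, hdD, rfl⟩ : ∃ d ∈ D, QuotientGroup.mk' Z d = c := by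
      have : c ∈ D.map (QuotientGroup.mk' Z) := by rw [hmap, ← hc]; exact mem_zpowers c
      simpa using this
    have hdec : ∀ x ∈ D, ∃ k : ℤ, ∃ t ∈ Z, x = d ^ k * t := by
      intro x hx
      have : QuotientGroup.mk' Z x ∈ zpowers (QuotientGroup.mk' Z d) := by
        rw [hc, ← hmap]; exact mem_map_of_mem _ hx
      obtain ⟨k, hk⟩ := mem_zpowers_iff.mp this
      rw [← map_zpow, QuotientGroup.mk'_apply, QuotientGroup.mk'_apply, QuotientGroup.eq] at hk
      exact ⟨k, _, hk, by group⟩
    have hcommd : ∀ (k : ℤ) {t : G}, t ∈ Z → Commute (d ^ k) t := fun k t ht =>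
      commute_of_mem_center (hZc ht) _
    have hpowZ : ∀ t ∈ Z, t ^ p = 1 := fun t ht => by
      have := pow_card_eq_one' (G := Z) (x := ⟨t, ht⟩)
      rw [hZ] at this
      simpa using congrArg Subtype.val this
    by_cases hdp : d ^ p = 1
    · -- `D` has exponent `p`
      have hDexp : ∀ x ∈ D, x ^ p = 1 := by
        intro x hx
        obtain ⟨k, t, ht, rfl⟩ := hdec x hx
        rw [(hcommd k ht).mul_pow, hpowZ t ht, mul_one, ← zpow_natCast, zpow_comm, zpow_natCast, hdp,
          one_zpow]
      have hDcard : Nat.card D ≤ p ^ 2 := h D hDexp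
      set M := ⁅D, (⊤ : Subgroup G)⁆ with hMdef
      have hMc : M ≤ center G := by
        have h1 := mul_card_le_of_lt hG (commutator_lt_of_ne_bot hG hD1)
        rw [← hMdef] at h1
        obtain ⟨k, hk⟩ := exists_subgroup_card_eq_pow hG M
        have : k ≤ 1 := by
          rw [hk, ← pow_succ'] at h1
          have := (Nat.pow_le_pow_iff_right hp.out.one_lt).mp (h1.trans hDcard)
          omega
        interval_cases k
        · rw [eq_bot_of_card_eq M (by simpa using hk)]; exact bot_le
        · exact le_center_of_card_eq hG (by simpa using hk)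
      have h3 : ∀ a b c : G, ⁅a, ⁅b, c⁆⁆ ∈ center G := fun a b c => by
        rw [← commutatorElement_inv]
        exact inv_mem (hMc (commutator_mem_commutator
          (commutator_mem_commutator (mem_top b) (mem_top c)) (mem_top a)))
      have hexp : ∀ a b : G, ⁅a, b⁆ ^ p = 1 := fun a b =>
        hDexp _ (commutator_mem_commutator (mem_top a) (mem_top b))
      have hpowc : ∀ y : G, y ^ p ∈ center G := fun y => mem_center_iff.mpr fun x => by
        have hy := commute_of_mem_center (h3 y y x) y
        have := conj_pow_eq_three (x := x) hy (commute_of_mem_center (h3 y y x) ⁅y, x⁆) p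
        obtain ⟨j, hj⟩ := hp.out.dvd_choose_self (k := 2) (by norm_num) (by omega)
        rw [hexp y x, one_mul, hj, pow_mul, hexp y _, one_pow, one_mul] at this
        exact this.symm
      let f : G →* G := MonoidHom.mk' (fun x => x ^ p) fun x y =>
        mul_pow_classThree hp.out hp3 h3 (hpowc x) (hpowc y)
      have hran : closure (Set.range fun x : G => x ^ p) ≤ center G :=
        (closure_le _).mpr (by rintro _ ⟨x, rfl⟩; exact hpowc x)
      have hcent : D ≤ center G :=
        ((commutator_le_frattini hG).trans (agemo_facts hp3 hG h).1.le).trans hran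
      obtain ⟨a, b, hab⟩ := exists_generators hp3 hG h
      haveI := zpowers_normal_of_mem_center
        (hcent (commutator_mem_commutator (mem_top b) (mem_top a)))
      have hle : D ≤ zpowers ⁅b, a⁆ := by
        rw [hD, _root_.commutator_def, commutator_le]
        exact fun x _ y _ => commutator_mem_of_generators hab (mem_zpowers _) x y
      exact isCyclic_of_injective (inclusion hle) (inclusion_injective _)
    · -- `D ^ p` contains a central subgroup of order `p`
      set N := zpowers (d ^ p) with hN
      haveI hNn : N.Normal := by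
        refine ⟨fun x hx g => ?_⟩
        obtain ⟨j, rfl⟩ := mem_zpowers_iff.mp hx
        obtain ⟨k, t, ht, he⟩ := hdec _ (Normal.conj_mem inferInstance d hdD g)
        refine mem_zpowers_iff.mpr ⟨k * j, ?_⟩
        rw [← conj_zpow, ← conj_pow, he, (hcommd k ht).mul_pow, hpowZ t ht, mul_one]
        simp only [← zpow_natCast, ← zpow_mul]
        congr 1; ring
      have hNne : N ≠ ⊥ := by simpa [hN] using hdp
      obtain ⟨T, hTn, hTN, -, hT⟩ := exists_normal_card_eq_prime hG hNne
      haveI := hTn
      have hTD : T ≤ D := hTN.trans (zpowers_le.mpr (pow_mem hdD p))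
      have hlt' : Nat.card (G ⧸ T) < Nat.card G := by
        rw [card_eq_card_quotient_mul_card_subgroup T, hT]
        exact lt_mul_of_one_lt_right Nat.card_pos hp.out.one_lt
      have hq' := ih (G ⧸ T) (hG.to_quotient T) (smallExponent_quotient hp3 _ G hG h T le_rfl) (by omega)
      obtain ⟨c', hc'⟩ := (Subgroup.isCyclic_iff_exists_zpowers_eq_top _).mp hq'
      have hmap' : D.map (QuotientGroup.mk' T) = _root_.commutator (G ⧸ T) := by
        rw [hD, _root_.commutator_def, map_commutator,
          map_top_of_surjective _ (QuotientGroup.mk'_surjective T), _root_.commutator_def]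
      obtain ⟨e, heD, rfl⟩ : ∃ e ∈ D, QuotientGroup.mk' T e = c' := by
        have : c' ∈ D.map (QuotientGroup.mk' T) := by rw [hmap', ← hc']; exact mem_zpowers c'
        simpa using this
      obtain ⟨k, t, ht, he⟩ := hdec e heD
      have hep : e ^ p = (d ^ p) ^ k := by
        rw [he, (hcommd k ht).mul_pow, hpowZ t ht, mul_one, ← zpow_natCast, zpow_comm, zpow_natCast]
      have hTc := le_center_of_card_eq hG hT
      have hTe : T ≤ zpowers e := by
        obtain ⟨l, hl⟩ := mem_zpowers_iff.mp (show QuotientGroup.mk' T d ∈ zpowers (QuotientGroup.mk' T e) by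
          rw [hc', ← hmap']; exact mem_map_of_mem _ hdD)
        rw [← map_zpow, QuotientGroup.mk'_apply, QuotientGroup.mk'_apply, QuotientGroup.eq] at hl
        have hsp : ((e ^ l)⁻¹ * d) ^ p = 1 := by
          have := pow_card_eq_one' (G := T) (x := ⟨_, hl⟩)
          rw [hT] at this
          simpa using congrArg Subtype.val this
        have hdp' : d ^ p = (e ^ p) ^ l :=
          calc d ^ p = (e ^ l * ((e ^ l)⁻¹ * d)) ^ p := by rw [mul_inv_cancel_left]
            _ = (e ^ l) ^ p * ((e ^ l)⁻¹ * d) ^ p :=
                Commute.mul_pow (commute_of_mem_center (hTc hl) _) p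
            _ = _ := by rw [hsp, mul_one, ← zpow_natCast, zpow_comm, zpow_natCast]
        refine hTN.trans (zpowers_le.mpr ?_)
        rw [hdp']
        exact zpow_mem (pow_mem (mem_zpowers e) p) l
      have hle : D ≤ zpowers e := by
        intro x hx
        obtain ⟨j, hj⟩ := mem_zpowers_iff.mp (show QuotientGroup.mk' T x ∈ zpowers (QuotientGroup.mk' T e) by
          rw [hc', ← hmap']; exact mem_map_of_mem _ hx)
        rw [← map_zpow, QuotientGroup.mk'_apply, QuotientGroup.mk'_apply, QuotientGroup.eq] at hj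
        have := mul_mem (zpow_mem (mem_zpowers e) j) (hTe hj)
        rwa [mul_inv_cancel_left] at this
      exact isCyclic_of_injective (inclusion hle) (inclusion_injective _)

theorem isCyclic_commutator_quotient {G : Type u} [Group G] (hD : IsCyclic (_root_.commutator G))
    (Z : Subgroup G) [Z.Normal] : IsCyclic (_root_.commutator (G ⧸ Z)) := by
  obtain ⟨c, hc⟩ := (Subgroup.isCyclic_iff_exists_zpowers_eq_top _).mp hD
  refine (Subgroup.isCyclic_iff_exists_zpowers_eq_top _).mpr ⟨QuotientGroup.mk' Z c, ?_⟩
  rw [← MonoidHom.map_zpowers, hc, _root_.commutator_def, map_commutator,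
    map_top_of_surjective _ (QuotientGroup.mk'_surjective Z), _root_.commutator_def]

/-- Odd `p`, cyclic derived subgroup: a product of two `p`-th powers is a `p`-th power. -/
theorem exists_pow_eq_mul (hp2 : p ≠ 2) : ∀ (n : ℕ) (G : Type u) [Group G] [Finite G],
    IsPGroup p G → IsCyclic (_root_.commutator G) → Nat.card G ≤ n →
      ∀ x y : G, ∃ w : G, w ^ p = x ^ p * y ^ p := by
  intro n
  induction n with
  | zero => intro G _ _ _ _ hn; exact absurd hn (not_le.mpr Nat.card_pos)
  | succ n ih =>
    intro G _ _ hG hD hn x y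
    set D := _root_.commutator G with hDdef
    by_cases hD1 : D = ⊥
    · refine ⟨x * y, Commute.mul_pow ?_ p⟩
      rw [← commutatorElement_eq_one_iff_commute, ← mem_bot, ← hD1]
      exact commutator_mem_commutator (mem_top x) (mem_top y)
    obtain ⟨Z, hZn, hZD, hZc, hZ⟩ := exists_normal_card_eq_prime hG hD1
    haveI := hZn
    have hpowZ : ∀ t ∈ Z, t ^ p = 1 := fun t ht => by
      have := pow_card_eq_one' (G := Z) (x := ⟨t, ht⟩)
      rw [hZ] at this
      simpa using congrArg Subtype.val this
    by_cases hDZ : D = Z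
    · refine ⟨x * y, mul_pow_prime_eq hp.out hp2 ?_ ?_ (hpowZ _ (hDZ ▸ commutator_mem_commutator (mem_top y) (mem_top x)))⟩
        <;> exact commute_of_mem_center (hZc (hDZ ▸ commutator_mem_commutator (mem_top y) (mem_top x))) _
    have hlt : Nat.card (G ⧸ Z) < Nat.card G := by
      rw [card_eq_card_quotient_mul_card_subgroup Z, hZ]
      exact lt_mul_of_one_lt_right Nat.card_pos hp.out.one_lt
    obtain ⟨q, hq⟩ := ih (G ⧸ Z) (hG.to_quotient Z) (isCyclic_commutator_quotient hD Z) (by omega)
      (QuotientGroup.mk' Z x) (QuotientGroup.mk' Z y)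
    obtain ⟨w, rfl⟩ := QuotientGroup.mk'_surjective Z q
    rw [← map_pow, ← map_pow, ← map_pow, ← map_mul, QuotientGroup.mk'_apply,
      QuotientGroup.mk'_apply, QuotientGroup.eq] at hq
    obtain ⟨a, ha⟩ := exists_subgroup_card_eq_pow hG D
    have ha2 : 2 ≤ a := by
      by_contra hcon
      have : Nat.card D ≤ Nat.card Z := by
        rw [ha, hZ]
        calc p ^ a ≤ p ^ 1 := Nat.pow_le_pow_right hp.out.pos (by omega)
          _ = p := pow_one p
      exact hDZ (eq_of_le_of_card_le hZD this).symm
    obtain ⟨S, hSn, hSD, hS⟩ := exists_normal_le_card hG ha 2 ha2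
    haveI := hSn
    haveI hSc : IsCyclic S := isCyclic_of_injective (inclusion hSD) (inclusion_injective _)
    obtain ⟨s, hs⟩ := (Subgroup.isCyclic_iff_exists_zpowers_eq_top _).mp hSc
    have hso : orderOf s = p ^ 2 := by rw [← Nat.card_zpowers, hs, hS]
    have hsp : orderOf (s ^ p) = p := by
      rw [orderOf_pow' _ hp.out.ne_zero, hso, Nat.gcd_eq_right (dvd_pow_self p (by norm_num)), sq,
        Nat.mul_div_cancel_left _ hp.out.pos]
    have hsD : s ∈ D := hSD (hs ▸ mem_zpowers s)
    have hmem := mem_zpowers_of_isCyclic (p := p) hD (pow_mem hsD p) (hZD hq) hsp (hpowZ _ hq)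
    obtain ⟨j, hj⟩ := mem_zpowers_iff.mp hmem
    have hZS : Z < S := by
      refine lt_of_le_of_ne (fun t ht => ?_) fun h => ?_
      · have := mem_zpowers_of_isCyclic (p := p) hD (pow_mem hsD p) (hZD ht) hsp (hpowZ t ht)
        exact (zpowers_le.mpr (pow_mem (hs ▸ mem_zpowers s) p)) this
      · rw [h, hS] at hZ
        exact absurd ((pow_one p).symm ▸ hZ : p ^ 2 = p ^ 1)
          (fun e => absurd (Nat.pow_right_injective hp.out.two_le e) (by norm_num))
    have hsj : s ^ j ∈ S := zpow_mem (hs ▸ mem_zpowers s) j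
    have hc : ⁅s ^ j, w⁆ ∈ Z := by
      rw [← commutatorElement_inv]
      exact inv_mem (commutator_mem_of_card hG hZS (by rw [hS, hZ, sq]) hsj w)
    refine ⟨w * s ^ j, ?_⟩
    rw [mul_pow_prime_eq hp.out hp2 (commute_of_mem_center (hZc hc) _)
      (commute_of_mem_center (hZc hc) _) (hpowZ _ hc)]
    calc w ^ p * (s ^ j) ^ p = w ^ p * (s ^ p) ^ j := by
          rw [← zpow_natCast (s ^ j), zpow_comm, zpow_natCast]
      _ = _ := by rw [hj]; group

theorem isMetacyclic_of_smallExponent (hp3 : 3 < p) {G : Type u} [Group G] [Finite G]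
    (hG : IsPGroup p G) (h : SmallExponent p G) : Cfsg.IsMetacyclic G := by
  classical
  have hD := isCyclic_commutator_of_smallExponent hp3 _ G hG h le_rfl
  obtain ⟨c, hc⟩ := (Subgroup.isCyclic_iff_exists_zpowers_eq_top _).mp hD
  haveI : Nonempty {a : G // c ∈ zpowers a} := ⟨⟨c, mem_zpowers c⟩⟩
  obtain ⟨⟨a, hca⟩, hmax⟩ := Finite.exists_max (fun a : {a : G // c ∈ zpowers a} => orderOf a.1)
  haveI hN : (zpowers a).Normal :=
    Subgroup.Normal.of_commutator_le (G := G) (H := zpowers a) (by rw [← hc]; exact zpowers_le.mpr hca)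
  refine ⟨zpowers a, hN, inferInstance, ?_⟩
  by_cases htriv : Subsingleton G
  · exact isCyclic_of_surjective (QuotientGroup.mk' (zpowers a)) (QuotientGroup.mk'_surjective _)
  have haΦ : a ∉ frattini G := by
    intro ha
    rw [(agemo_facts hp3 hG h).1] at ha
    have key : ∀ z ∈ closure (Set.range fun x : G => x ^ p), ∃ w, w ^ p = z := by
      intro z hz
      induction hz using closure_induction with
      | mem x hx => exact hx
      | one => exact ⟨1, one_pow p⟩
      | mul x y _ _ hx hy =>
        obtain ⟨u, rfl⟩ := hx; obtain ⟨v, rfl⟩ := hy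
        exact exists_pow_eq_mul (by omega) _ G hG hD le_rfl u v
      | inv x _ hx => obtain ⟨u, rfl⟩ := hx; exact ⟨u⁻¹, inv_pow u p⟩
    obtain ⟨w, hw⟩ := key a ha
    by_cases ha1 : a = 1
    · obtain ⟨g, hg⟩ := not_forall.mp fun hall : ∀ g : G, g = 1 =>
        htriv ⟨fun x y => (hall x).trans (hall y).symm⟩
      have hc1 : c = 1 := by simpa [ha1] using hca
      have := hmax ⟨g, hc1 ▸ one_mem _⟩
      simp only [ha1, orderOf_one] at this
      exact hg (orderOf_eq_one_iff.mp (le_antisymm this (orderOf_pos g)))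
    · have hcw : c ∈ zpowers w := zpowers_le.mpr (hw ▸ pow_mem (mem_zpowers w) p) hca
      have := hmax ⟨w, hcw⟩
      simp only at this
      obtain ⟨k, hk⟩ := IsPGroup.iff_orderOf.mp hG w
      rcases Nat.eq_zero_or_pos k with rfl | hk0
      · exact ha1 (by rw [← hw, show w = 1 from orderOf_eq_one_iff.mp (hk.trans (pow_zero p)), one_pow])
      rw [hk, ← hw, orderOf_pow' _ hp.out.ne_zero, hk,
        Nat.gcd_eq_right (dvd_pow_self p hk0.ne')] at this
      have hlt := Nat.div_lt_self (pow_pos hp.out.pos k) hp.out.one_lt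
      omega
  obtain ⟨-, hi⟩ := agemo_facts hp3 hG h
  by_cases htop : zpowers a ⊔ frattini G = ⊤
  · haveI := isCyclic_of_sup_frattini htop
    exact isCyclic_of_surjective (QuotientGroup.mk' (zpowers a)) (QuotientGroup.mk'_surjective _)
  obtain ⟨b, -, hb⟩ := SetLike.exists_of_lt (lt_top_iff_ne_top.mpr htop)
  have hlt : frattini G < zpowers a ⊔ frattini G :=
    lt_of_le_of_ne le_sup_right fun h' => haΦ (h' ▸ mem_sup_left (mem_zpowers a))
  have hgen : zpowers a ⊔ zpowers b = ⊤ := by
    refine eq_top_of_sup_frattini (eq_of_le_of_card_le le_top ?_)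
    have hlt2 : zpowers a ⊔ frattini G < zpowers a ⊔ zpowers b ⊔ frattini G :=
      lt_of_le_of_ne (sup_le_sup_right le_sup_left _) fun h' =>
        hb (h' ▸ mem_sup_left (mem_sup_right (mem_zpowers b)))
    rw [card_top, ← card_mul_index (frattini G)]
    calc Nat.card (frattini G) * (frattini G).index ≤ p * (p * Nat.card (frattini G)) := by
          calc _ ≤ Nat.card (frattini G) * p ^ 2 := Nat.mul_le_mul le_rfl hi
            _ = _ := by ring
      _ ≤ p * Nat.card (zpowers a ⊔ frattini G : Subgroup G) :=
          Nat.mul_le_mul le_rfl (mul_card_le_of_lt hG hlt)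
      _ ≤ _ := mul_card_le_of_lt hG hlt2
  refine (_root_.isCyclic_iff_exists_zpowers_eq_top).mpr ⟨QuotientGroup.mk' _ b, ?_⟩
  have := congrArg (Subgroup.map (QuotientGroup.mk' (zpowers a))) hgen
  rwa [Subgroup.map_sup, MonoidHom.map_zpowers, map_top_of_surjective _ (QuotientGroup.mk'_surjective _),
    MonoidHom.map_zpowers,
    show QuotientGroup.mk' (zpowers a) a = 1 from (QuotientGroup.eq_one_iff a).mpr (mem_zpowers a),
    zpowers_one_eq_bot, bot_sup_eq] at this

end Cfsg.Agent.PGroup
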