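import Cfsg.Agent.Lib.PGroup.Omega

/-!
# Extraspecial groups

`IsES p G`: centre of order `p` containing all commutators and `p`-th powers (also allows order `p`).
* `isES_of_isExtraspecial`, `IsES.isPGroup`.
* `Pair`: a non-commuting pair `x, y` with `⁅y, x⁆ = z`; `Pair.existsUnique`, `Pair.card_eq`, `Pair.isES`.
* `IsES.card_eq_odd_pow`, `IsES.exists_inner`.
* `glue`, `iso_exponent_p`, `two_iso_of_three`: uniqueness results.
-/

set_option linter.style.haveILetI false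
set_option linter.unusedSectionVars false

open Subgroup
open scoped commutatorElement

universe u v w

namespace Cfsg.Agent.PGroup

/-- Centre of order `p` containing every commutator and every `p`-th power. -/
structure IsES (p : ℕ) (G : Type*) [Group G] : Prop where
  card_center : Nat.card (center G) = p
  comm_mem : ∀ a b : G, ⁅a, b⁆ ∈ center G
  pow_mem : ∀ x : G, x ^ p ∈ center G

variable {p : ℕ} [hp : Fact p.Prime]

theorem isES_of_isExtraspecial {G : Type*} [Group G] [Finite G] (h : Cfsg.IsExtraspecial p G) :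
    IsES p G := by
  obtain ⟨⟨hG, hΦ, hD⟩, hc⟩ := h
  exact ⟨hc, fun a b => hD ▸ commutator_mem_commutator (mem_top a) (mem_top b),
    fun x => hΦ ▸ pow_mem_frattini hG x⟩

section

variable {G : Type*} [Group G]

theorem IsES.pow_eq_one (h : IsES p G) {z : G} (hz : z ∈ center G) : z ^ p = 1 := by
  haveI : Finite (center G) := Nat.finite_of_card_ne_zero (by rw [h.card_center]; exact hp.out.ne_zero)
  have := pow_card_eq_one' (G := center G) (x := ⟨z, hz⟩)
  rw [h.card_center] at this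
  simpa using congrArg Subtype.val this

theorem IsES.isPGroup (h : IsES p G) : IsPGroup p G := fun x =>
  ⟨2, by rw [sq, pow_mul]; exact h.pow_eq_one (h.pow_mem x)⟩

theorem IsES.zpowers_eq_center (h : IsES p G) {z : G} (hz : z ∈ center G) (hz1 : z ≠ 1) :
    zpowers z = center G := by
  haveI : Finite (center G) := Nat.finite_of_card_ne_zero (by rw [h.card_center]; exact hp.out.ne_zero)
  refine SetLike.coe_injective (Set.eq_of_subset_of_ncard_le (zpowers_le.mpr hz) ?_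
    (Set.toFinite (center G : Set G)))
  rw [← Nat.card_coe_set_eq, ← Nat.card_coe_set_eq]
  show Nat.card (center G) ≤ Nat.card (zpowers z)
  rw [h.card_center, Nat.card_zpowers, orderOf_eq_prime (h.pow_eq_one hz) hz1]

theorem IsES.comm_mul_left (h : IsES p G) (a b c : G) : ⁅a * b, c⁆ = ⁅a, c⁆ * ⁅b, c⁆ := by
  rw [commutator_mul_left (mem_center_iff.mp (h.comm_mem b c) a)]
  exact ((mem_center_iff.mp (h.comm_mem b c)) _).symm

theorem IsES.comm_mul_right (h : IsES p G) (a b c : G) : ⁅a, b * c⁆ = ⁅a, b⁆ * ⁅a, c⁆ :=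
  commutator_mul_right (mem_center_iff.mp (h.comm_mem a c) b)

theorem IsES.comm_pow_left (h : IsES p G) (a b : G) (n : ℕ) : ⁅a ^ n, b⁆ = ⁅a, b⁆ ^ n :=
  commutator_pow_left (mem_center_iff.mp (h.comm_mem a b) a) n

theorem IsES.comm_pow_right (h : IsES p G) (a b : G) (n : ℕ) : ⁅a, b ^ n⁆ = ⁅a, b⁆ ^ n :=
  commutator_pow_right (mem_center_iff.mp (h.comm_mem a b) b) n

theorem IsES.exists_comm_eq [Finite G] (h : IsES p G) {x z : G} (hx : x ∉ center G) (hz : z ∈ center G) :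
    ∃ y : G, ⁅y, x⁆ = z := by
  obtain ⟨y, hy⟩ : ∃ y : G, ⁅y, x⁆ ≠ 1 := by
    by_contra hc
    push Not at hc
    exact hx (mem_center_iff.mpr fun g => commutatorElement_eq_one_iff_mul_comm.mp (hc g))
  rw [← h.zpowers_eq_center (h.comm_mem y x) hy] at hz
  obtain ⟨n, rfl⟩ := mem_powers_iff_mem_zpowers.mpr hz
  exact ⟨y ^ n, h.comm_pow_left y x n⟩

/-- A non-commuting pair with prescribed commutator. -/
structure Pair (p : ℕ) (G : Type*) [Group G] where
  x : G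
  y : G
  z : G
  hz : z ≠ 1
  hc : ⁅y, x⁆ = z

/-- The centralizer of both members of a pair. -/
def Pair.C (P : Pair p G) : Subgroup G := centralizer {P.x, P.y}

theorem Pair.mem_C (P : Pair p G) {c : G} : c ∈ P.C ↔ Commute c P.x ∧ Commute c P.y := by
  simp [Pair.C, mem_centralizer_iff, commute_iff_eq, eq_comm]

theorem Pair.z_mem (P : Pair p G) (h : IsES p G) : P.z ∈ center G := P.hc ▸ h.comm_mem _ _

theorem Pair.z_mem_C (P : Pair p G) (h : IsES p G) : P.z ∈ P.C :=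
  P.mem_C.mpr ⟨(mem_center_iff.mp (P.z_mem h) _).symm, (mem_center_iff.mp (P.z_mem h) _).symm⟩

theorem Pair.orderOf_z (P : Pair p G) (h : IsES p G) : orderOf P.z = p :=
  orderOf_eq_prime (h.pow_eq_one (P.z_mem h)) P.hz

theorem Pair.comm_x (P : Pair p G) (h : IsES p G) {c : G} (hc : c ∈ P.C) (i j : ℕ) :
    ⁅P.x ^ i * P.y ^ j * c, P.x⁆ = P.z ^ j := by
  rw [h.comm_mul_left, h.comm_mul_left, h.comm_pow_left, h.comm_pow_left, commutatorElement_self,
    one_pow, one_mul, P.hc, ((P.mem_C.mp hc).1).commutator_eq, mul_one]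

theorem Pair.comm_y (P : Pair p G) (h : IsES p G) {c : G} (hc : c ∈ P.C) (i j : ℕ) :
    ⁅P.x ^ i * P.y ^ j * c, P.y⁆ = P.z⁻¹ ^ i := by
  rw [h.comm_mul_left, h.comm_mul_left, h.comm_pow_left, h.comm_pow_left, commutatorElement_self,
    one_pow, mul_one, ← commutatorElement_inv P.y P.x, P.hc,
    ((P.mem_C.mp hc).2).commutator_eq, mul_one]

variable [Finite G]

theorem Pair.exists_decomp (P : Pair p G) (h : IsES p G) (g : G) :
    ∃ i j : Fin p, ∃ c : P.C, g = P.x ^ (i : ℕ) * P.y ^ (j : ℕ) * c := by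
  have hz := h.zpowers_eq_center (P.z_mem h) P.hz
  have hz' := h.zpowers_eq_center (inv_mem (P.z_mem h)) (inv_ne_one.mpr P.hz)
  obtain ⟨j, hj⟩ := mem_powers_iff_mem_zpowers.mpr (hz.ge (h.comm_mem g P.x))
  obtain ⟨i, hi⟩ := mem_powers_iff_mem_zpowers.mpr (hz'.ge (h.comm_mem g P.y))
  simp only at hi hj
  refine ⟨⟨i % p, Nat.mod_lt _ hp.out.pos⟩, ⟨j % p, Nat.mod_lt _ hp.out.pos⟩,
    ⟨(P.x ^ (i % p) * P.y ^ (j % p))⁻¹ * g, P.mem_C.mpr ⟨?_, ?_⟩⟩, by group⟩
  · rw [← commutatorElement_eq_one_iff_commute]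
    have h1 := h.comm_mul_left (P.x ^ (i % p) * P.y ^ (j % p))
      ((P.x ^ (i % p) * P.y ^ (j % p))⁻¹ * g) P.x
    have h2 := P.comm_x h P.C.one_mem (i % p) (j % p)
    rw [mul_one] at h2
    rw [mul_inv_cancel_left, h2, ← hj, ← pow_mod_orderOf P.z j, P.orderOf_z h] at h1
    exact left_eq_mul.mp h1
  · rw [← commutatorElement_eq_one_iff_commute]
    have h1 := h.comm_mul_left (P.x ^ (i % p) * P.y ^ (j % p))
      ((P.x ^ (i % p) * P.y ^ (j % p))⁻¹ * g) P.y
    have h2 := P.comm_y h P.C.one_mem (i % p) (j % p)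
    rw [mul_one] at h2
    rw [mul_inv_cancel_left, h2, ← hi, ← pow_mod_orderOf P.z⁻¹ i, orderOf_inv, P.orderOf_z h] at h1
    exact left_eq_mul.mp h1

theorem Pair.decomp_inj (P : Pair p G) (h : IsES p G) {i j k l : Fin p} {c d : P.C}
    (e : P.x ^ (i : ℕ) * P.y ^ (j : ℕ) * c = P.x ^ (k : ℕ) * P.y ^ (l : ℕ) * d) :
    i = k ∧ j = l ∧ c = d := by
  have h1 := congrArg (fun g => ⁅g, P.x⁆) e
  have h2 := congrArg (fun g => ⁅g, P.y⁆) e
  simp only [P.comm_x h c.2, P.comm_x h d.2] at h1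
  simp only [P.comm_y h c.2, P.comm_y h d.2] at h2
  have hj : j = l := Fin.ext (pow_injOn_Iio_orderOf (by rw [Set.mem_Iio, P.orderOf_z h]; exact j.isLt)
    (by rw [Set.mem_Iio, P.orderOf_z h]; exact l.isLt) h1)
  have hi : i = k := Fin.ext (pow_injOn_Iio_orderOf
    (by rw [Set.mem_Iio, orderOf_inv, P.orderOf_z h]; exact i.isLt)
    (by rw [Set.mem_Iio, orderOf_inv, P.orderOf_z h]; exact k.isLt) h2)
  subst hi hj
  exact ⟨rfl, rfl, Subtype.ext (mul_left_cancel e)⟩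

/-- The coordinates with respect to a pair. -/
noncomputable def Pair.equiv (P : Pair p G) (h : IsES p G) : Fin p × Fin p × P.C ≃ G :=
  Equiv.ofBijective (fun t => P.x ^ (t.1 : ℕ) * P.y ^ (t.2.1 : ℕ) * t.2.2)
    ⟨fun a b e => by obtain ⟨h1, h2, h3⟩ := P.decomp_inj h e; exact Prod.ext h1 (Prod.ext h2 h3),
      fun g => by obtain ⟨i, j, c, e⟩ := P.exists_decomp h g; exact ⟨(i, j, c), e.symm⟩⟩

theorem Pair.card_eq (P : Pair p G) (h : IsES p G) : Nat.card G = p ^ 2 * Nat.card P.C := by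
  rw [← Nat.card_congr (P.equiv h)]
  simp [Nat.card_prod, sq, mul_assoc]

theorem Pair.card_C_lt (P : Pair p G) (h : IsES p G) : Nat.card P.C < Nat.card G := by
  rw [P.card_eq h]
  exact lt_mul_of_one_lt_left Nat.card_pos (Nat.one_lt_pow (by norm_num) hp.out.one_lt)

theorem Pair.center_C (P : Pair p G) (h : IsES p G) : (center P.C).map P.C.subtype = center G := by
  refine le_antisymm ?_ fun g hg =>
    ⟨⟨g, P.mem_C.mpr ⟨(mem_center_iff.mp hg _).symm, (mem_center_iff.mp hg _).symm⟩⟩,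
      mem_center_iff.mpr fun d => Subtype.ext (mem_center_iff.mp hg d), rfl⟩
  rintro _ ⟨c, hc, rfl⟩
  refine mem_center_iff.mpr fun g => ?_
  obtain ⟨i, j, d, rfl⟩ := P.exists_decomp h g
  have hcd : Commute (d : G) c := congrArg Subtype.val (mem_center_iff.mp hc d)
  exact (((P.mem_C.mp c.2).1.symm.pow_left _).mul_left ((P.mem_C.mp c.2).2.symm.pow_left _)).mul_left hcd

theorem Pair.isES (P : Pair p G) (h : IsES p G) : IsES p P.C := by
  have key : ∀ c : P.C, (c : G) ∈ center G → c ∈ center P.C := fun c hc =>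
    mem_center_iff.mpr fun d => Subtype.ext (mem_center_iff.mp hc d)
  refine ⟨?_, fun a b => key _ (h.comm_mem a b), fun x => key _ (h.pow_mem x)⟩
  rw [← card_map_of_injective P.C.subtype_injective, P.center_C h, h.card_center]

theorem IsES.eq_center_or_pair (h : IsES p G) :
    Nat.card G = p ∨ ∃ x : G, x ∉ center G := by
  by_cases hc : center G = ⊤
  · left; rw [← card_top, ← hc, h.card_center]
  · obtain ⟨x, -, hx⟩ := SetLike.exists_of_lt (lt_top_iff_ne_top.mpr hc)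
    exact Or.inr ⟨x, hx⟩

theorem IsES.exists_center_ne_one (h : IsES p G) : ∃ z ∈ center G, z ≠ 1 := by
  by_contra hc
  push Not at hc
  have : center G = ⊥ := eq_bot_iff.mpr fun z hz => mem_bot.mpr (hc z hz)
  have := h.card_center
  rw [‹center G = ⊥›, card_bot] at this
  exact hp.out.ne_one this.symm

theorem IsES.exists_pair (h : IsES p G) {x : G} (hx : x ∉ center G) {z : G} (hz : z ∈ center G)
    (hz1 : z ≠ 1) : ∃ P : Pair p G, P.x = x ∧ P.z = z := by
  obtain ⟨y, hy⟩ := h.exists_comm_eq hx hz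
  exact ⟨⟨x, y, z, hz1, hy⟩, rfl, rfl⟩

end

theorem IsES.card_eq_odd_pow : ∀ (n : ℕ) (G : Type u) [Group G] [Finite G], IsES p G → Nat.card G ≤ n →
    ∃ m, Nat.card G = p ^ (2 * m + 1) := by
  intro n
  induction n with
  | zero => intro G _ _ _ hn; exact absurd hn (not_le.mpr Nat.card_pos)
  | succ n ih =>
    intro G _ _ h hn
    rcases h.eq_center_or_pair with hc | ⟨x, hx⟩
    · exact ⟨0, by simpa using hc⟩
    obtain ⟨z, hz, hz1⟩ := h.exists_center_ne_one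
    obtain ⟨P, -, -⟩ := h.exists_pair hx hz hz1
    obtain ⟨m, hm⟩ := ih P.C (P.isES h) (by have := P.card_C_lt h; omega)
    exact ⟨m + 1, by rw [P.card_eq h, hm, ← pow_add]; congr 1; ring⟩

/-- Every homomorphism to the centre that kills the centre is a commutator map. -/
theorem IsES.exists_inner : ∀ (n : ℕ) (G : Type u) [Group G] [Finite G], IsES p G → Nat.card G ≤ n →
    ∀ ψ : G → G, (∀ a b, ψ (a * b) = ψ a * ψ b) → (∀ a, ψ a ∈ center G) →
      (∀ a ∈ center G, ψ a = 1) → ∃ a : G, ∀ g : G, ⁅a, g⁆ = ψ g := by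
  intro n
  induction n with
  | zero => intro G _ _ _ hn; exact absurd hn (not_le.mpr Nat.card_pos)
  | succ n ih =>
    intro G _ _ h hn ψ hmul hcen hker
    rcases h.eq_center_or_pair with hc | ⟨x, hx⟩
    · have htop : center G = ⊤ := eq_top_of_card_eq _ (h.card_center.trans hc.symm)
      exact ⟨1, fun g => by rw [commutatorElement_one_left, hker g (htop ▸ mem_top g)]⟩
    obtain ⟨z, hz, hz1⟩ := h.exists_center_ne_one
    obtain ⟨P, -, -⟩ := h.exists_pair hx hz hz1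
    have hzp := h.zpowers_eq_center (P.z_mem h) P.hz
    obtain ⟨s, hs⟩ := mem_powers_iff_mem_zpowers.mpr (hzp.ge (hcen P.x))
    obtain ⟨t, ht⟩ := mem_powers_iff_mem_zpowers.mpr
      ((h.zpowers_eq_center (inv_mem (P.z_mem h)) (inv_ne_one.mpr P.hz)).ge (hcen P.y))
    simp only at hs ht
    have hmapC : ∀ c : P.C, ψ c ∈ P.C := fun c =>
      P.mem_C.mpr ⟨(mem_center_iff.mp (hcen _) _).symm, (mem_center_iff.mp (hcen _) _).symm⟩
    obtain ⟨a, ha⟩ := ih P.C (P.isES h) (by have := P.card_C_lt h; omega)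
      (fun c => ⟨ψ c, hmapC c⟩) (fun a b => Subtype.ext (hmul _ _))
      (fun c => mem_center_iff.mpr fun d => Subtype.ext (mem_center_iff.mp (hcen _) d))
      (fun c hc => Subtype.ext (hker _ (P.center_C h ▸ mem_map_of_mem P.C.subtype hc)))
    refine ⟨P.x ^ t * P.y ^ s * a, fun g => ?_⟩
    have hone : ψ 1 = 1 := hker 1 (one_mem _)
    have hpow : ∀ b (k : ℕ), ψ (b ^ k) = ψ b ^ k := fun b k => by
      induction k with
      | zero => simp [hone]
      | succ k ihk => rw [pow_succ, hmul, ihk, pow_succ]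
    obtain ⟨i, j, d, rfl⟩ := P.exists_decomp h g
    have h1 : ⁅(a : G), (d : G)⁆ = ψ d := congrArg Subtype.val (ha d)
    have h3 : ⁅P.x ^ t * P.y ^ s, (d : G)⁆ = 1 := commutatorElement_eq_one_iff_commute.mpr
      (((P.mem_C.mp d.2).1.symm.pow_left _).mul_left ((P.mem_C.mp d.2).2.symm.pow_left _))
    rw [hmul, hmul, hpow, hpow, h.comm_mul_right, h.comm_mul_right, h.comm_pow_right, h.comm_pow_right,
      P.comm_x h a.2, P.comm_y h a.2, hs, ht, h.comm_mul_left _ (a : G) (d : G), h3, h1, one_mul]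

omit hp in
/-- Reduce exponents below `p` using `x ^ p = z ^ a`, `y ^ p = z ^ b` with `z` central. -/
theorem reduce_exponents {G : Type*} [Group G] (x y z : G) (a b : ℕ) (hx : x ^ p = z ^ a)
    (hy : y ^ p = z ^ b) (hz : ∀ g, Commute z g) (c : G) (i j : ℕ) :
    x ^ i * y ^ j * c = x ^ (i % p) * y ^ (j % p) * (z ^ (a * (i / p) + b * (j / p)) * c) := by
  conv_lhs => rw [← Nat.mod_add_div i p, ← Nat.mod_add_div j p, pow_add, pow_add, pow_mul x, hx,
    pow_mul y, hy, ← pow_mul, ← pow_mul]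
  have := ((hz (y ^ (j % p))).pow_left (a * (i / p))).eq
  calc x ^ (i % p) * z ^ (a * (i / p)) * (y ^ (j % p) * z ^ (b * (j / p))) * c
      = x ^ (i % p) * (z ^ (a * (i / p)) * y ^ (j % p)) * z ^ (b * (j / p)) * c := by group
    _ = _ := by rw [this, pow_add]; group

/-- The multiplication rule in the coordinates of a pair. -/
theorem pair_mul_law {G : Type*} [Group G] (h : IsES p G) (R : Pair p G) (c d : R.C) (i j k l : ℕ) :
    R.x ^ i * R.y ^ j * c * (R.x ^ k * R.y ^ l * d) =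
      R.x ^ (i + k) * R.y ^ (j + l) * ((⟨R.z, R.z_mem_C h⟩ : R.C) ^ (j * k) * c * d : R.C) := by
  have hzc : ∀ g, Commute R.z g := fun g => (mem_center_iff.mp (R.z_mem h) g).symm
  have h1 : (c : G) * (R.x ^ k * R.y ^ l) = R.x ^ k * R.y ^ l * c :=
    (((R.mem_C.mp c.2).1.pow_right k).mul_right ((R.mem_C.mp c.2).2.pow_right l)).eq
  have h2 : R.y ^ j * R.x ^ k = R.z ^ (j * k) * R.x ^ k * R.y ^ j := by
    rw [← commutator_mul_self_eq (R.y ^ j) (R.x ^ k), h.comm_pow_left, h.comm_pow_right, R.hc,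
      ← pow_mul, mul_comm k j]
  simp only [Subgroup.coe_mul, SubgroupClass.coe_pow]
  calc R.x ^ i * R.y ^ j * c * (R.x ^ k * R.y ^ l * d)
      = R.x ^ i * R.y ^ j * ((c : G) * (R.x ^ k * R.y ^ l)) * d := by group
    _ = R.x ^ i * (R.y ^ j * R.x ^ k) * R.y ^ l * c * d := by rw [h1]; group
    _ = R.x ^ i * R.z ^ (j * k) * (R.x ^ k * R.y ^ j * R.y ^ l) * c * d := by rw [h2]; group
    _ = R.x ^ i * (R.x ^ k * R.y ^ j * R.y ^ l) * R.z ^ (j * k) * c * d := by
        rw [mul_assoc (R.x ^ i) (R.z ^ (j * k)), ((hzc (R.x ^ k * R.y ^ j * R.y ^ l)).pow_left (j * k)).eq]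
        group
    _ = _ := by rw [pow_add, pow_add]; group

/-- Gluing isomorphisms of the centralizers of two pairs of the same type. -/
theorem glue {G₁ : Type u} {G₂ : Type v} [Group G₁] [Group G₂] [Finite G₁] [Finite G₂]
    (h₁ : IsES p G₁) (h₂ : IsES p G₂) (P : Pair p G₁) (Q : Pair p G₂) {a b : ℕ}
    (hxa : P.x ^ p = P.z ^ a) (hxa' : Q.x ^ p = Q.z ^ a) (hyb : P.y ^ p = P.z ^ b)
    (hyb' : Q.y ^ p = Q.z ^ b) (φ : P.C ≃* Q.C) (hφ : φ ⟨P.z, P.z_mem_C h₁⟩ = ⟨Q.z, Q.z_mem_C h₂⟩) :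
    ∃ f : G₁ ≃* G₂, f P.z = Q.z := by
  let e : G₁ ≃ G₂ := ((P.equiv h₁).symm.trans
    ((Equiv.refl (Fin p)).prodCongr ((Equiv.refl (Fin p)).prodCongr φ.toEquiv))).trans (Q.equiv h₂)
  have he : ∀ (i j : Fin p) (c : P.C),
      e (P.x ^ (i : ℕ) * P.y ^ (j : ℕ) * c) = Q.x ^ (i : ℕ) * Q.y ^ (j : ℕ) * φ c := by
    intro i j c
    have : (P.equiv h₁).symm (P.x ^ (i : ℕ) * P.y ^ (j : ℕ) * c) = (i, j, c) :=
      (Equiv.symm_apply_eq _).mpr rfl
    simp only [e, Equiv.trans_apply, this]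
    rfl
  have hz₁ : ∀ g, Commute P.z g := fun g => (mem_center_iff.mp (P.z_mem h₁) g).symm
  have hz₂ : ∀ g, Commute Q.z g := fun g => (mem_center_iff.mp (Q.z_mem h₂) g).symm
  have hφp : ∀ k : ℕ, φ (⟨P.z, P.z_mem_C h₁⟩ ^ k) = (⟨Q.z, Q.z_mem_C h₂⟩ : Q.C) ^ k := fun k => by
    rw [map_pow, hφ]
  have hnat : ∀ (i j : ℕ) (c : P.C),
      e (P.x ^ i * P.y ^ j * c) = Q.x ^ i * Q.y ^ j * φ c := by
    intro i j c
    rw [reduce_exponents P.x P.y P.z a b hxa hyb hz₁ c i j, reduce_exponents Q.x Q.y Q.z a b hxa' hyb' hz₂ (φ c) i j]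
    have := he ⟨i % p, Nat.mod_lt _ hp.out.pos⟩ ⟨j % p, Nat.mod_lt _ hp.out.pos⟩
      ((⟨P.z, P.z_mem_C h₁⟩ : P.C) ^ (a * (i / p) + b * (j / p)) * c)
    rw [map_mul φ, hφp] at this
    simpa using this
  refine ⟨MulEquiv.mk' e ?_, ?_⟩
  swap
  · have := hnat 0 0 ⟨P.z, P.z_mem_C h₁⟩
    rw [hφ] at this
    simp only [pow_zero, one_mul] at this
    exact this
  intro g g'
  obtain ⟨i, j, c, rfl⟩ := P.exists_decomp h₁ g
  obtain ⟨k, l, d, rfl⟩ := P.exists_decomp h₁ g'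
  rw [pair_mul_law h₁ P, hnat, he, he, pair_mul_law h₂ Q, map_mul, map_mul, hφp]

theorem iso_exponent_p : ∀ (n : ℕ) (G₁ : Type u) (G₂ : Type v) [Group G₁] [Group G₂] [Finite G₁] [Finite G₂],
    IsES p G₁ → IsES p G₂ → (∀ g : G₁, g ^ p = 1) → (∀ g : G₂, g ^ p = 1) →
    Nat.card G₁ = Nat.card G₂ → Nat.card G₁ ≤ n → ∀ (z₁ : G₁) (z₂ : G₂), z₁ ∈ center G₁ → z₁ ≠ 1 →
      z₂ ∈ center G₂ → z₂ ≠ 1 → ∃ φ : G₁ ≃* G₂, φ z₁ = z₂ := by
  intro n
  induction n with
  | zero => intro G₁ _ _ _ _ _ _ _ _ _ _ hn; exact absurd hn (not_le.mpr Nat.card_pos)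
  | succ n ih =>
    intro G₁ G₂ _ _ _ _ h₁ h₂ he₁ he₂ hc hn z₁ z₂ hz₁ hz₁' hz₂ hz₂'
    rcases h₁.eq_center_or_pair with hp1 | ⟨x₁, hx₁⟩
    · have ht₁ : center G₁ = ⊤ := eq_top_of_card_eq _ (h₁.card_center.trans hp1.symm)
      have ht₂ : center G₂ = ⊤ := eq_top_of_card_eq _ (h₂.card_center.trans (hp1.symm.trans hc))
      have g₁ : ∀ g : G₁, g ∈ zpowers z₁ := fun g => by
        rw [h₁.zpowers_eq_center hz₁ hz₁', ht₁]; exact mem_top g
      have g₂ : ∀ g : G₂, g ∈ zpowers z₂ := fun g => by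
        rw [h₂.zpowers_eq_center hz₂ hz₂', ht₂]; exact mem_top g
      have ho : orderOf z₁ = orderOf z₂ := by
        rw [orderOf_eq_prime (h₁.pow_eq_one hz₁) hz₁', orderOf_eq_prime (h₂.pow_eq_one hz₂) hz₂']
      exact ⟨mulEquivOfOrderOfEq g₁ g₂ ho, mulEquivOfOrderOfEq_apply_gen ..⟩
    rcases h₂.eq_center_or_pair with hp2 | ⟨x₂, hx₂⟩
    · exact absurd (eq_top_of_card_eq _ (h₁.card_center.trans (hp2.symm.trans hc.symm)) ▸ mem_top x₁) hx₁
    obtain ⟨P, -, rfl⟩ := h₁.exists_pair hx₁ hz₁ hz₁'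
    obtain ⟨Q, -, rfl⟩ := h₂.exists_pair hx₂ hz₂ hz₂'
    have hcC : Nat.card P.C = Nat.card Q.C := by
      have := P.card_eq h₁
      rw [hc, Q.card_eq h₂] at this
      exact (Nat.eq_of_mul_eq_mul_left (pow_pos hp.out.pos 2) this).symm
    obtain ⟨φ, hφ⟩ := ih P.C Q.C (P.isES h₁) (Q.isES h₂)
      (fun g => Subtype.ext (by simpa using he₁ g)) (fun g => Subtype.ext (by simpa using he₂ g)) hcC
      (by have := P.card_C_lt h₁; omega) ⟨P.z, P.z_mem_C h₁⟩ ⟨Q.z, Q.z_mem_C h₂⟩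
      (mem_center_iff.mpr fun d => Subtype.ext (mem_center_iff.mp hz₁ d))
      (fun h => hz₁' (congrArg Subtype.val h))
      (mem_center_iff.mpr fun d => Subtype.ext (mem_center_iff.mp hz₂ d))
      (fun h => hz₂' (congrArg Subtype.val h))
    exact glue h₁ h₂ P Q (a := 0) (b := 0) (by simp [he₁]) (by simp [he₂]) (by simp [he₁])
      (by simp [he₂]) φ hφ

/-- An extraspecial 2-group has a pair of involutions, or all non-central squares equal `z`. -/
theorem two_pair_cases {G : Type u} [Group G] [Finite G] (h : IsES 2 G) (hG : Nat.card G ≠ 2) :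
    (∃ P : Pair 2 G, P.x ^ 2 = P.z ^ 0 ∧ P.y ^ 2 = P.z ^ 0) ∨
      ((∀ x : G, x ^ 2 = 1 → x ∈ center G) ∧ ∃ P : Pair 2 G, P.x ^ 2 = P.z ^ 1 ∧ P.y ^ 2 = P.z ^ 1) := by
  haveI : Fact (Nat.Prime 2) := ⟨Nat.prime_two⟩
  obtain ⟨z, hz, hz1⟩ := h.exists_center_ne_one
  have hzu : ∀ u ∈ center G, u = 1 ∨ u = z := by
    intro u hu
    have hu' := (h.zpowers_eq_center hz hz1).ge hu
    obtain ⟨k, rfl⟩ := mem_powers_iff_mem_zpowers.mpr hu'
    simp only
    rw [← pow_mod_orderOf, orderOf_eq_prime (h.pow_eq_one hz) hz1]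
    rcases Nat.mod_two_eq_zero_or_one k with e | e <;> simp [e]
  by_cases hinv : ∃ x : G, x ^ 2 = 1 ∧ x ∉ center G
  · obtain ⟨x, hx, hxc⟩ := hinv
    obtain ⟨P, rfl, rfl⟩ := h.exists_pair hxc hz hz1
    left
    rcases hzu (P.y ^ 2) (h.pow_mem _) with hy | hy
    · exact ⟨P, by simpa using hx, by simpa using hy⟩
    · let Q : Pair 2 G := ⟨P.x, P.x * P.y, P.z, P.hz, by
        rw [h.comm_mul_left, commutatorElement_self, one_mul, P.hc]⟩
      refine ⟨Q, by simpa using hx, ?_⟩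
      rw [pow_zero]
      show (P.x * P.y) ^ 2 = 1
      rw [mul_pow_eq (commute_of_mem_center (h.comm_mem _ _) _) (commute_of_mem_center (h.comm_mem _ _) _),
        P.hc, hy, hx]
      simpa [sq] using (sq P.z).symm.trans (h.pow_eq_one hz)
  · push Not at hinv
    right
    refine ⟨hinv, ?_⟩
    rcases h.eq_center_or_pair with h2 | ⟨x, hx⟩
    · exact absurd h2 hG
    obtain ⟨P, rfl, rfl⟩ := h.exists_pair hx hz hz1
    have hy : P.y ∉ center G := fun hy => P.hz (P.hc ▸ commutator_eq_one_of_mem_center hy _)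
    refine ⟨P, ?_, ?_⟩
    · rcases hzu (P.x ^ 2) (h.pow_mem _) with e | e
      · exact absurd (hinv _ e) hx
      · simpa using e
    · rcases hzu (P.y ^ 2) (h.pow_mem _) with e | e
      · exact absurd (hinv _ e) hy
      · simpa using e

/-- Above order `8` there is a pair of involutions. -/
theorem two_pair_of_large {G : Type u} [Group G] [Finite G] (h : IsES 2 G) (hG : 8 < Nat.card G) :
    ∃ P : Pair 2 G, P.x ^ 2 = P.z ^ 0 ∧ P.y ^ 2 = P.z ^ 0 := by
  haveI : Fact (Nat.Prime 2) := ⟨Nat.prime_two⟩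
  rcases two_pair_cases h (by omega) with h0 | ⟨hinv, P, hPx, -⟩
  · exact h0
  exfalso
  have hC : 2 < Nat.card P.C := by
    have := P.card_eq h
    omega
  rcases (P.isES h).eq_center_or_pair with h2 | ⟨c, hc⟩
  · omega
  have hcG : (c : G) ∉ center G := fun h' => hc (mem_center_iff.mpr fun d => Subtype.ext (mem_center_iff.mp h' d))
  have hcomm : Commute (c : G) P.x := (P.mem_C.mp c.2).1
  -- `c ^ 2 = z`, so `x * c` is a non-central involution
  have hz : (c : G) ^ 2 = P.z := by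
    obtain ⟨k, hk⟩ := mem_powers_iff_mem_zpowers.mpr
      ((h.zpowers_eq_center (P.z_mem h) P.hz).ge (h.pow_mem (c : G)))
    simp only at hk
    rw [← pow_mod_orderOf, P.orderOf_z h] at hk
    rcases Nat.mod_two_eq_zero_or_one k with e | e
    · rw [e, pow_zero] at hk; exact absurd (hinv _ hk.symm) hcG
    · rw [e, pow_one] at hk; exact hk.symm
  have hxc : (P.x * c) ^ 2 = 1 := by
    rw [Commute.mul_pow hcomm.symm, hPx, hz, pow_one, ← sq]
    exact h.pow_eq_one (P.z_mem h)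
  have h1 := mem_center_iff.mp (hinv _ hxc) P.y
  have h2 : ⁅P.x * c, P.y⁆ = 1 := commutatorElement_eq_one_iff_mul_comm.mpr h1.symm
  rw [h.comm_mul_left, ((P.mem_C.mp c.2).2).commutator_eq, mul_one, ← commutatorElement_inv,
    P.hc, inv_eq_one] at h2
  exact P.hz h2

theorem glue_two {G₁ : Type u} {G₂ : Type v} [Group G₁] [Group G₂] [Finite G₁] [Finite G₂]
    (h₁ : IsES 2 G₁) (h₂ : IsES 2 G₂) {a b : ℕ} (P : Pair 2 G₁) (Q : Pair 2 G₂)
    (hP : P.x ^ 2 = P.z ^ a ∧ P.y ^ 2 = P.z ^ b) (hQ : Q.x ^ 2 = Q.z ^ a ∧ Q.y ^ 2 = Q.z ^ b)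
    (hφ : Nonempty (P.C ≃* Q.C)) : Nonempty (G₁ ≃* G₂) := by
  haveI : Fact (Nat.Prime 2) := ⟨Nat.prime_two⟩
  obtain ⟨φ⟩ := hφ
  have hmem : φ ⟨P.z, P.z_mem_C h₁⟩ ∈ center Q.C := mem_center_iff.mpr fun g => by
    rw [← φ.apply_symm_apply g, ← map_mul, ← map_mul]
    exact congrArg φ (Subtype.ext (mem_center_iff.mp (P.z_mem h₁) _))
  have hzc : (⟨Q.z, Q.z_mem_C h₂⟩ : Q.C) ∈ center Q.C :=
    mem_center_iff.mpr fun g => Subtype.ext (mem_center_iff.mp (Q.z_mem h₂) g)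
  have hne : φ ⟨P.z, P.z_mem_C h₁⟩ ≠ 1 := fun e => P.hz (by
    simpa using congrArg Subtype.val (φ.injective (e.trans (map_one φ).symm)))
  have hne' : (⟨Q.z, Q.z_mem_C h₂⟩ : Q.C) ≠ 1 := fun e => Q.hz (congrArg Subtype.val e)
  have hφz : φ ⟨P.z, P.z_mem_C h₁⟩ = ⟨Q.z, Q.z_mem_C h₂⟩ := by
    obtain ⟨k, hk⟩ := mem_powers_iff_mem_zpowers.mpr (((Q.isES h₂).zpowers_eq_center hzc hne').ge hmem)
    simp only at hk
    rw [← pow_mod_orderOf, orderOf_eq_prime ((Q.isES h₂).pow_eq_one hzc) hne'] at hk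
    rcases Nat.mod_two_eq_zero_or_one k with e | e
    · rw [e, pow_zero] at hk; exact absurd hk.symm hne
    · rw [e, pow_one] at hk; exact hk.symm
  exact ⟨(glue h₁ h₂ P Q hP.1 hQ.1 hP.2 hQ.2 φ hφz).choose⟩

theorem equiv_of_card_two {G₁ : Type u} {G₂ : Type v} [Group G₁] [Group G₂]
    (h₁ : Nat.card G₁ = 2) (h₂ : Nat.card G₂ = 2) : Nonempty (G₁ ≃* G₂) := by
  haveI : Fact (Nat.Prime 2) := ⟨Nat.prime_two⟩
  haveI : Finite G₁ := Nat.finite_of_card_ne_zero (by omega)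
  haveI : Finite G₂ := Nat.finite_of_card_ne_zero (by omega)
  haveI := isCyclic_of_prime_card h₁
  haveI := isCyclic_of_prime_card h₂
  exact ⟨mulEquivOfCyclicCardEq (h₁.trans h₂.symm)⟩

theorem card_C_eq_two {G : Type u} [Group G] [Finite G] (h : IsES 2 G) (P : Pair 2 G)
    (e : Nat.card G = 8) : Nat.card P.C = 2 := by
  haveI : Fact (Nat.Prime 2) := ⟨Nat.prime_two⟩
  have := P.card_eq h; omega

/-- Among three extraspecial 2-groups of one order two are isomorphic. -/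
theorem two_iso_of_three : ∀ (n : ℕ) (G₁ : Type u) (G₂ : Type v) (G₃ : Type w) [Group G₁] [Group G₂]
    [Group G₃] [Finite G₁] [Finite G₂] [Finite G₃], IsES 2 G₁ → IsES 2 G₂ → IsES 2 G₃ →
    Nat.card G₁ = Nat.card G₂ → Nat.card G₂ = Nat.card G₃ → Nat.card G₁ ≤ n →
    Nonempty (G₁ ≃* G₂) ∨ Nonempty (G₂ ≃* G₃) ∨ Nonempty (G₁ ≃* G₃) := by
  haveI : Fact (Nat.Prime 2) := ⟨Nat.prime_two⟩
  intro n
  induction n with
  | zero => intro G₁ _ _ _ _ _ _ _ _ _ _ _ _ _ hn; exact absurd hn (not_le.mpr Nat.card_pos)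
  | succ n ih =>
    intro G₁ G₂ G₃ _ _ _ _ _ _ h₁ h₂ h₃ h12 h23 hn
    obtain ⟨m, hm⟩ := IsES.card_eq_odd_pow _ G₁ h₁ le_rfl
    rcases m with _ | _ | m
    · exact Or.inl (equiv_of_card_two (by simpa using hm) (h12 ▸ by simpa using hm))
    · have c1 : Nat.card G₁ = 8 := by simpa using hm
      have c2 : Nat.card G₂ = 8 := by omega
      have c3 : Nat.card G₃ = 8 := by omega
      rcases two_pair_cases h₁ (by omega) with ⟨P, hP⟩ | ⟨-, P, hP⟩ <;>
      rcases two_pair_cases h₂ (by omega) with ⟨Q, hQ⟩ | ⟨-, Q, hQ⟩ <;>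
      rcases two_pair_cases h₃ (by omega) with ⟨R, hR⟩ | ⟨-, R, hR⟩
      all_goals first
        | exact Or.inl (glue_two h₁ h₂ P Q hP hQ (equiv_of_card_two (card_C_eq_two h₁ P c1) (card_C_eq_two h₂ Q c2)))
        | exact Or.inr (Or.inl (glue_two h₂ h₃ Q R hQ hR (equiv_of_card_two (card_C_eq_two h₂ Q c2) (card_C_eq_two h₃ R c3))))
        | exact Or.inr (Or.inr (glue_two h₁ h₃ P R hP hR (equiv_of_card_two (card_C_eq_two h₁ P c1) (card_C_eq_two h₃ R c3))))
    · have hbig : 8 < Nat.card G₁ := by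
        rw [hm]
        calc 8 < 2 ^ 5 := by norm_num
          _ ≤ _ := Nat.pow_le_pow_right (by norm_num) (by omega)
      obtain ⟨P, hP⟩ := two_pair_of_large h₁ hbig
      obtain ⟨Q, hQ⟩ := two_pair_of_large h₂ (h12 ▸ hbig)
      obtain ⟨R, hR⟩ := two_pair_of_large h₃ (h23 ▸ h12 ▸ hbig)
      have e1 := P.card_eq h₁; have e2 := Q.card_eq h₂; have e3 := R.card_eq h₃
      rcases ih P.C Q.C R.C (P.isES h₁) (Q.isES h₂) (R.isES h₃) (by omega) (by omega)
          (by have := P.card_C_lt h₁; omega) with h | h | h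
      · exact Or.inl (glue_two h₁ h₂ P Q hP hQ h)
      · exact Or.inr (Or.inl (glue_two h₂ h₃ Q R hQ hR h))
      · exact Or.inr (Or.inr (glue_two h₁ h₃ P R hP hR h))

end Cfsg.Agent.PGroup
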