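import Cfsg.Agent.Lib.PGroup.Critical

/-!
# Coprime automorphisms trivial on characteristic abelian subgroups

* `char_le_center_of_fixed`: a fixed characteristic subgroup is central when `G = [G, A]`.
* `special_of_fix_char_abelian`: `G = [G, A]` and `A` trivial on characteristic abelian subgroups: `G` special.
-/

set_option linter.style.haveILetI false
set_option linter.unusedSectionVars false

open Subgroup
open scoped commutatorElement

namespace Cfsg.Agent.PGroup

variable {G : Type*} [Group G]

theorem char_le_center_of_fixed {A : Subgroup (MulAut G)}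
    (hGA : closure {x : G | ∃ g : G, ∃ a ∈ A, x = g⁻¹ * a g} = ⊤) {H : Subgroup G} [H.Normal]
    (hfix : ∀ a ∈ A, ∀ h ∈ H, a h = h) : H ≤ center G := by
  have hle : closure {x : G | ∃ g : G, ∃ a ∈ A, x = g⁻¹ * a g} ≤ centralizer (H : Set G) := by
    rw [closure_le]
    rintro _ ⟨g, a, ha, rfl⟩
    refine mem_centralizer_iff.mpr fun x hx => ?_
    have h2 := hfix a ha _ (Normal.conj_mem inferInstance x hx g)
    rw [map_mul, map_mul, map_inv, hfix a ha x hx] at h2
    calc x * (g⁻¹ * a g) = g⁻¹ * (g * x * g⁻¹) * a g := by group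
      _ = g⁻¹ * (a g * x * (a g)⁻¹) * a g := by rw [h2]
      _ = _ := by group
  rw [hGA] at hle
  exact fun x hx => mem_center_iff.mpr fun g => (mem_centralizer_iff.mp (hle (mem_top g)) x hx).symm

variable [Finite G] {p : ℕ} [hp : Fact p.Prime]

theorem special_of_fix_char_abelian (hG : IsPGroup p G) (A : Subgroup (MulAut G))
    (hA : Nat.Coprime (Nat.card A) p)
    (hGA : closure {x : G | ∃ g : G, ∃ a ∈ A, x = g⁻¹ * a g} = ⊤)
    (hchar : ∀ H : Subgroup G, H.Characteristic → IsMulCommutative H → ∀ a ∈ A, ∀ h ∈ H, a h = h) :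
    Cfsg.IsSpecial p G ∧ ∀ g : G, (g ∈ center G ↔ ∀ a ∈ A, a g = g) := by
  classical
  have hcz : ∀ H : Subgroup G, H.Characteristic → (∀ x ∈ H, ∀ y ∈ H, x * y = y * x) → H ≤ center G :=
    fun H hH hc =>
      haveI := hH
      char_le_center_of_fixed hGA (hchar H hH ⟨⟨fun u v => Subtype.ext (hc u u.2 v v.2)⟩⟩)
  haveI hnil := hG.isNilpotent
  set D := _root_.commutator G with hD
  set Z := center G with hZ
  haveI hDc : D.Characteristic := characteristic_of_forall_mem fun φ x hx => by
    have h : D.map φ.toMonoidHom = D := by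
      rw [hD, _root_.commutator_def, map_commutator, map_top_of_surjective _ φ.surjective]
    rw [← h]; exact mem_map_of_mem _ hx
  -- class two
  have hDZ : D ≤ Z := by
    by_contra hnot
    set f := QuotientGroup.mk' Z
    haveI : (D.map f).Normal := Subgroup.Normal.map inferInstance f (QuotientGroup.mk'_surjective Z)
    have hne : D.map f ≠ ⊥ := by rw [Ne, Subgroup.map_eq_bot_iff, QuotientGroup.ker_mk']; exact hnot
    obtain ⟨q, hqD, hqc, hqo⟩ := exists_central_order_p (hG.to_quotient Z) hne
    obtain ⟨x, hxD, rfl⟩ := hqD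
    set W := D ⊓ Subgroup.upperCentralSeries G 2 with hW
    have hxZ2 : x ∈ Subgroup.upperCentralSeries G 2 := by
      refine Subgroup.mem_upperCentralSeries_succ_iff.mpr fun y => ?_
      rw [Subgroup.upperCentralSeries_one, ← QuotientGroup.eq_one_iff]
      show f ⁅x, y⁆ = 1
      rw [map_commutatorElement, commutatorElement_eq_one_iff_mul_comm]
      exact (mem_center_iff.mp hqc (f y)).symm
    haveI : W.Characteristic := characteristic_of_forall_mem fun φ y hy =>
      ⟨(aut_mem_iff φ y).mpr hy.1, (aut_mem_iff φ y).mpr hy.2⟩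
    -- `Z₂` centralizes the derived subgroup
    have hcomm : ⁅Subgroup.upperCentralSeries G 2, D⁆ = ⊥ := by
      rw [commutator_comm, hD, _root_.commutator_def]
      have h1 : ⁅⁅(⊤ : Subgroup G), Subgroup.upperCentralSeries G 2⁆, (⊤ : Subgroup G)⁆ = ⊥ := by
        rw [commutator_top_right_eq_bot_iff_le_center, commutator_le]
        intro g _ y hy
        rw [← commutatorElement_inv]
        have := Subgroup.mem_upperCentralSeries_succ_iff.mp hy g
        rw [Subgroup.upperCentralSeries_one] at this
        exact inv_mem this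
      exact commutator_commutator_eq_bot_of_rotate h1 (by rw [commutator_comm (Subgroup.upperCentralSeries G 2)]; exact h1)
    have hWZ : W ≤ Z := hcz W inferInstance fun u hu v hv =>
      (mem_centralizer_iff.mp (commutator_eq_bot_iff_le_centralizer.mp hcomm hu.2) v hv.1).symm
    have : f x = 1 := (QuotientGroup.eq_one_iff x).mpr (hWZ ⟨hxD, hxZ2⟩)
    rw [this, orderOf_one] at hqo
    exact hp.out.ne_one hqo.symm
  have hfixZ : ∀ a ∈ A, ∀ z ∈ Z, a z = z := fun a ha z hz =>
    hchar Z inferInstance ⟨⟨fun u v => Subtype.ext (mem_center_iff.mp v.2 u)⟩⟩ a ha z hz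
  -- fixed points lie in `D`
  have hfixD : ∀ g : G, (∀ a ∈ A, a g = g) → g ∈ D := by
    intro g hg
    let q : G →* Abelianization G := Abelianization.of
    haveI := Fintype.ofFinite A
    let N : G →* Abelianization G := ∏ a : A, q.comp (a : MulAut G).toMonoidHom
    have hN : ∀ y, N y = ∏ a : A, q ((a : MulAut G) y) := fun y => by
      simp [N, MonoidHom.finsetProd_apply]
    have hinv : ∀ b ∈ A, ∀ y, N (b y) = N y := fun b hb y => by
      rw [hN, hN]
      exact Fintype.prod_equiv (Equiv.mulRight (⟨b, hb⟩ : A)) _ _ fun a => rfl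
    have hker : closure {x : G | ∃ g : G, ∃ a ∈ A, x = g⁻¹ * a g} ≤ N.ker := by
      rw [closure_le]
      rintro _ ⟨y, a, ha, rfl⟩
      rw [SetLike.mem_coe, MonoidHom.mem_ker, map_mul, map_inv, hinv a ha, inv_mul_cancel]
    have hg1 : N g = 1 := hker (hGA.ge (mem_top g))
    rw [hN, Finset.prod_congr rfl fun (a : A) _ => by rw [hg a a.2], Finset.prod_const,
      Finset.card_univ, ← Nat.card_eq_fintype_card] at hg1
    have hq : IsPGroup p (Abelianization G) := hG.to_quotient _
    exact (QuotientGroup.eq_one_iff g).mp (eq_one_of_pow_eq_one_coprime hq hA hg1)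
  have hZD : Z ≤ D := fun z hz => hfixD z fun a ha => hfixZ a ha z hz
  have hZeq : Z = D := le_antisymm hZD hDZ
  have hc2 : ∀ a b : G, ⁅a, b⁆ ∈ center G := fun a b => hDZ (commutator_mem_commutator (mem_top a) (mem_top b))
  have hexp : ∀ x y : G, ⁅x, y⁆ ^ p = 1 := by
    by_contra hcon
    have hex : ∃ e, ∀ x y : G, ⁅x, y⁆ ^ p ^ e = 1 := by
      obtain ⟨k, hk⟩ := exists_card_eq_pow hG
      exact ⟨k, fun x y => hk ▸ pow_card_eq_one'⟩
    set e := Nat.find hex with he
    have hspec := Nat.find_spec hex
    rw [← he] at hspec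
    have he2 : 2 ≤ e := by
      by_contra h
      refine hcon fun x y => ?_
      rcases Nat.le_one_iff_eq_zero_or_eq_one.mp (show e ≤ 1 by omega) with h0 | h1
      · rw [orderOf_eq_one_iff.mp (Nat.dvd_one.mp (orderOf_dvd_of_pow_eq_one
          (show ⁅x, y⁆ ^ 1 = 1 by simpa [h0] using hspec x y))), one_pow]
      · simpa [h1] using hspec x y
    set K := closure {y : G | ∃ x : G, y = x ^ p ^ (e - 1)} with hK
    haveI : K.Characteristic := characteristic_of_forall_mem fun φ y hy => by
      induction hy using closure_induction with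
      | mem y hy => obtain ⟨x, rfl⟩ := hy; exact subset_closure ⟨φ x, map_pow φ x _⟩
      | one => simp
      | mul u v _ _ hu hv => rw [map_mul]; exact mul_mem hu hv
      | inv u _ hu => rw [map_inv]; exact inv_mem hu
    have hKab : IsMulCommutative K := isMulCommutative_closure (by
      rintro _ ⟨x, rfl⟩ _ ⟨y, rfl⟩
      rw [← commutatorElement_eq_one_iff_mul_comm,
        commutator_pow_left (commute_of_mem_center (hc2 _ _) _),
        commutator_pow_right (commute_of_mem_center (hc2 _ _) _), ← pow_mul, ← pow_add]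
      obtain ⟨j, hj⟩ : p ^ e ∣ p ^ (e - 1 + (e - 1)) := pow_dvd_pow p (by omega)
      rw [hj, pow_mul, hspec, one_pow])
    have hKZ : K ≤ Z := hcz K inferInstance fun u hu v hv => setLike_mul_comm hu hv
    refine Nat.find_min hex (m := e - 1) (by omega) fun x y => ?_
    rw [← commutator_pow_left (commute_of_mem_center (hc2 _ _) _)]
    exact commutator_eq_one_of_mem_center (hKZ (subset_closure ⟨x, rfl⟩)) y
  refine ⟨⟨hG, ?_, hZeq.symm⟩, fun g => ⟨fun hg a ha => hfixZ a ha g hg, fun hg => hDZ (hfixD g hg)⟩⟩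
  refine le_antisymm (frattini_le_of_quotient_elementary (p := p) hDZ fun x => ?_)
    (hZD.trans (commutator_le_frattini hG))
  refine mem_center_iff.mpr fun y => (commutatorElement_eq_one_iff_mul_comm.mp ?_).symm
  rw [commutator_pow_left (commute_of_mem_center (hc2 _ _) _), hexp]

end Cfsg.Agent.PGroup
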