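import Cfsg.Agent.Lib.PGroup.NormalAbelian
import Cfsg.Agent.Lib.PNormal.RankTwo

/-!
`exists_scn_three_ge`: in a `p`-group (`p` odd) of rank at least 3, a normal elementary abelian
subgroup of order `p ^ 2` lies in a member of `SCN₃`.
-/

set_option autoImplicit false

namespace Cfsg.Agent.PGroup

variable {G : Type*} [Group G] [Finite G] {p : ℕ} [hp : Fact p.Prime]

theorem exists_scn_three_ge (hp2 : p ≠ 2) (hG : IsPGroup p G) (hr : ¬ Cfsg.PRankLE p 2 G)
    (E : Subgroup G) [E.Normal] (hE : Cfsg.IsElementaryAbelian p E) (hE2 : Nat.card E = p ^ 2) :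
    ∃ A : Subgroup G, E ≤ A ∧ A.Normal ∧ Subgroup.centralizer (A : Set G) = A ∧
      ¬ Cfsg.PRankLE p 2 A := by
  have hEc : ∀ a ∈ E, ∀ b ∈ E, a * b = b * a := fun a ha b hb =>
    congrArg Subtype.val (hE.1.is_comm.comm (⟨a, ha⟩ : E) ⟨b, hb⟩)
  obtain ⟨D, hED, hDn, hDc, hDe, hDmax⟩ :=
    exists_maximal_normal_elementary (p := p) E inferInstance hEc hE.2
  have := hDn
  have hDcard : p ^ 2 < Nat.card D := by
    by_contra hle
    have hDE : E = D := Subgroup.eq_of_le_of_card_ge hED (hE2 ▸ not_lt.1 hle)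
    subst hDE
    obtain ⟨B, hBc, hBe, hB⟩ : ∃ B : Subgroup G, IsMulCommutative B ∧ (∀ a ∈ B, a ^ p = 1) ∧
        p ^ 2 < Nat.card B := by
      simpa [Cfsg.PRankLE] using hr
    have h2 := PNormal.card_le_mul_centralizer hG hE hE2 B
    have hB0 : ∀ x ∈ B, x ∈ Subgroup.centralizer (E : Set G) → x ∈ E := fun x hx hxC =>
      mem_of_maximal_normal_elementary hG hp2 hDc hDe hDmax hxC (hBe x hx)
    have h3 : B ⊓ Subgroup.centralizer (E : Set G) ≤ E := fun x hx => hB0 x hx.1 hx.2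
    obtain ⟨j, hj⟩ := (hG.to_subgroup B).exists_card_eq
    have h4 : p ^ 2 ≤ Nat.card ↥(B ⊓ Subgroup.centralizer (E : Set G)) := by
      rw [hj] at hB h2
      have : p ^ 3 ≤ p ^ j := Nat.pow_le_pow_right hp.out.pos
        ((Nat.pow_lt_pow_iff_right hp.out.one_lt).1 hB)
      refine Nat.le_of_mul_le_mul_left ?_ hp.out.pos
      rw [← pow_succ']
      exact this.trans h2
    have h5 := Subgroup.eq_of_le_of_card_ge h3 (hE2 ▸ h4)
    have hEB : E ≤ B := h5.ge.trans inf_le_left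
    have hBE : B ≤ E := fun x hx => hB0 x hx (Subgroup.mem_centralizer_iff.2 fun a ha =>
      congrArg Subtype.val (hBc.is_comm.comm (⟨a, hEB ha⟩ : B) ⟨x, hx⟩))
    exact absurd (hB.trans_le ((Subgroup.card_le_of_le hBE).trans hE2.le)) (lt_irrefl _)
  obtain ⟨A, hDA, hmax⟩ := Finite.exists_le_maximal (α := Subgroup G)
    (p := fun A => A.Normal ∧ ∀ a ∈ A, ∀ b ∈ A, a * b = b * a) (a := D) ⟨hDn, hDc⟩
  have := hmax.prop.1
  refine ⟨A, hED.trans hDA, hmax.prop.1, centralizer_eq_of_maximal_normal_abelian hG hmax.prop.2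
    fun B h1 h2 hAB => le_antisymm (hmax.2 ⟨h1, h2⟩ hAB) hAB, fun hA => ?_⟩
  have h := hA (D.subgroupOf A)
    ⟨⟨fun a b => Subtype.ext (Subtype.ext (hDc _ a.2 _ b.2))⟩⟩ fun a ha => Subtype.ext (hDe _ ha)
  rw [Nat.card_congr (Subgroup.subgroupOfEquivOfLe hDA).toEquiv] at h
  exact absurd h (not_le_of_gt hDcard)

end Cfsg.Agent.PGroup
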