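import Cfsg.Agent.Lib.PGroup.Basic

/-!
# Regular p-groups: powers and Kemhadze's criterion

* `PowerLaw p n G`: `(ab)^(p^n) = a^(p^n) * b^(p^n) * c` with `c` in `℧_n(⟨a,b⟩')`, for all `a b`.
* `exists_pow_of_mem_powerClosure`: products of `p^n`-th powers are `p^n`-th powers.
* `commutator_powerClosure_le`: `[℧_n H, ℧_n H] ≤ ℧_n [H, H]`.
* `regular_of_powerLaw_one`: Kemhadze's criterion.
-/

set_option linter.style.haveILetI false
set_option linter.unusedSectionVars false

open Subgroup
open scoped commutatorElement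

universe u

namespace Cfsg.Agent.PGroup

variable {G : Type u} [Group G] {p : ℕ}

/-- The defining condition of a regular group at exponent `p ^ n`. -/
def PowerLaw (p n : ℕ) (G : Type*) [Group G] : Prop :=
  ∀ a b : G, ∃ c ∈ Cfsg.powerClosure p n ⁅closure ({a, b} : Set G), closure ({a, b} : Set G)⁆,
    (a * b) ^ (p ^ n) = a ^ (p ^ n) * b ^ (p ^ n) * c

theorem powerClosure_mono (n : ℕ) {H K : Subgroup G} (h : H ≤ K) :
    Cfsg.powerClosure p n H ≤ Cfsg.powerClosure p n K :=
  closure_mono fun _ ⟨x, hx, e⟩ => ⟨x, h hx, e⟩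

theorem pow_mem_powerClosure (n : ℕ) {H : Subgroup G} {x : G} (hx : x ∈ H) :
    x ^ p ^ n ∈ Cfsg.powerClosure p n H := subset_closure ⟨x, hx, rfl⟩

theorem map_powerClosure {G' : Type*} [Group G'] (f : G →* G') (n : ℕ) (H : Subgroup G) :
    (Cfsg.powerClosure p n H).map f = Cfsg.powerClosure p n (H.map f) := by
  rw [Cfsg.powerClosure, Cfsg.powerClosure, MonoidHom.map_closure]
  congr 1
  ext y
  constructor
  · rintro ⟨_, ⟨x, hx, rfl⟩, rfl⟩; exact ⟨f x, mem_map_of_mem f hx, map_pow f x _⟩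
  · rintro ⟨_, ⟨x, hx, rfl⟩, rfl⟩; exact ⟨_, ⟨x, hx, rfl⟩, map_pow f x _⟩

theorem map_commutator_closure_pair {G' : Type*} [Group G'] (f : G →* G') (a b : G) :
    (⁅closure ({a, b} : Set G), closure ({a, b} : Set G)⁆).map f
      = ⁅closure ({f a, f b} : Set G'), closure ({f a, f b} : Set G')⁆ := by
  rw [map_commutator, MonoidHom.map_closure, Set.image_pair]

theorem PowerLaw.of_injective {G' : Type*} [Group G'] {n : ℕ} (h : PowerLaw p n G) (f : G' →* G)
    (hf : Function.Injective f) : PowerLaw p n G' := by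
  intro a b
  obtain ⟨c, hc, he⟩ := h (f a) (f b)
  rw [← map_commutator_closure_pair, ← map_powerClosure] at hc
  obtain ⟨c', hc', rfl⟩ := hc
  exact ⟨c', hc', hf (by simpa using he)⟩

theorem PowerLaw.of_surjective {G' : Type*} [Group G'] {n : ℕ} (h : PowerLaw p n G) (f : G →* G')
    (hf : Function.Surjective f) : PowerLaw p n G' := by
  intro a b
  obtain ⟨a, rfl⟩ := hf a
  obtain ⟨b, rfl⟩ := hf b
  obtain ⟨c, hc, he⟩ := h a b
  refine ⟨f c, ?_, ?_⟩
  · rw [← map_commutator_closure_pair, ← map_powerClosure]; exact mem_map_of_mem f hc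
  · rw [← map_mul, ← map_pow, he, map_mul, map_mul, map_pow, map_pow]

variable [Finite G] [hp : Fact p.Prime]

theorem exists_pow_of_mem_powerClosure (hG : IsPGroup p G) {n : ℕ} (h : PowerLaw p n G) :
    ∀ H : Subgroup G, ∀ y ∈ Cfsg.powerClosure p n H, ∃ x ∈ H, x ^ p ^ n = y := by
  suffices key : ∀ m, ∀ H : Subgroup G, Nat.card H ≤ m → ∀ x ∈ H, ∀ y ∈ H,
      ∃ w ∈ H, w ^ p ^ n = x ^ p ^ n * y ^ p ^ n by
    intro H y hy
    unfold Cfsg.powerClosure at hy
    induction hy using closure_induction with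
    | mem z hz => obtain ⟨x, hx, rfl⟩ := hz; exact ⟨x, hx, rfl⟩
    | one => exact ⟨1, one_mem _, one_pow _⟩
    | mul u v _ _ hu hv =>
      obtain ⟨a, ha, rfl⟩ := hu; obtain ⟨b, hb, rfl⟩ := hv
      exact key _ H le_rfl a ha b hb
    | inv u _ hu => obtain ⟨a, ha, rfl⟩ := hu; exact ⟨a⁻¹, inv_mem ha, inv_pow a _⟩
  intro m
  induction m with
  | zero => intro H hm; exact absurd hm (not_le.mpr Nat.card_pos)
  | succ m ih =>
    intro H hm x hx y hy
    by_cases hc : IsCyclic H
    · refine ⟨x * y, mul_mem hx hy, Commute.mul_pow ?_ _⟩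
      exact congrArg Subtype.val ((IsCyclic.isMulCommutative (α := H)).is_comm.comm ⟨x, hx⟩ ⟨y, hy⟩)
    have hH1 : H ≠ ⊥ := fun h => hc (h ▸ inferInstance)
    set D := ⁅closure ({x, y} : Set G), closure ({x, y} : Set G)⁆
    have hD : D ≤ ⁅H, H⁆ :=
      commutator_mono ((closure_le H).mpr (by rintro z (rfl | rfl) <;> assumption))
        ((closure_le H).mpr (by rintro z (rfl | rfl) <;> assumption))
    have hDH : ⁅H, H⁆ < H := by
      haveI : Nontrivial H := H.nontrivial_iff_ne_bot.mpr hH1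
      have htop : (⊤ : Subgroup H) ≠ ⊥ := top_ne_bot
      have h1 := commutator_lt_of_ne_bot (hG.to_subgroup H) (N := (⊤ : Subgroup H)) htop
      refine lt_of_le_of_ne (commutator_le_self H) fun he => h1.ne ?_
      refine map_injective H.subtype_injective ?_
      rw [map_commutator, ← MonoidHom.range_eq_map, range_subtype, he]
    have hDlt : Nat.card D ≤ m := by
      have := mul_card_le_of_lt hG hDH
      have h2 := hp.out.two_le
      have h3 := Nat.le_of_dvd Nat.card_pos (card_dvd_of_le hD)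
      have h4 : 2 * Nat.card (⁅H, H⁆ : Subgroup G) ≤ Nat.card H := (Nat.mul_le_mul h2 le_rfl).trans this
      have : 0 < Nat.card (⁅H, H⁆ : Subgroup G) := Nat.card_pos
      omega
    obtain ⟨c, hcD, he⟩ := h x y
    obtain ⟨d, hd, hdc⟩ : ∃ d ∈ D, d ^ p ^ n = c⁻¹ := by
      have hc' := inv_mem hcD
      unfold Cfsg.powerClosure at hc'
      generalize c⁻¹ = z at hc'
      induction hc' using closure_induction with
      | mem z hz => obtain ⟨u, hu, rfl⟩ := hz; exact ⟨u, hu, rfl⟩
      | one => exact ⟨1, one_mem _, one_pow _⟩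
      | mul u v _ _ hu hv =>
        obtain ⟨a, ha, rfl⟩ := hu; obtain ⟨b, hb, rfl⟩ := hv
        exact ih D hDlt a ha b hb
      | inv u _ hu => obtain ⟨a, ha, rfl⟩ := hu; exact ⟨a⁻¹, inv_mem ha, inv_pow a _⟩
    set K := zpowers (x * y) ⊔ ⁅H, H⁆
    have hKH : K ≤ H := sup_le (zpowers_le.mpr (mul_mem hx hy)) (commutator_le_self H)
    have hKlt : K < H := by
      refine lt_of_le_of_ne hKH fun hK => hc ?_
      refine isCyclic_of_sup_frattini (x := (⟨x * y, mul_mem hx hy⟩ : H)) ?_
      rw [eq_top_iff]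
      refine le_trans ?_ (sup_le_sup_left (commutator_le_frattini (hG.to_subgroup H)) _)
      refine le_of_eq (map_injective H.subtype_injective ?_)
      rw [Subgroup.map_sup, MonoidHom.map_zpowers, map_subtype_commutator, ← MonoidHom.range_eq_map,
        range_subtype]
      exact hK.symm
    have hKm : Nat.card K ≤ m := by
      have := mul_card_le_of_lt hG hKlt
      have h2 := hp.out.two_le
      have h4 : 2 * Nat.card K ≤ Nat.card H := (Nat.mul_le_mul h2 le_rfl).trans this
      have : 0 < Nat.card K := Nat.card_pos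
      omega
    obtain ⟨w, hw, hwe⟩ := ih K hKm (x * y) (mem_sup_left (mem_zpowers _)) d (mem_sup_right (hD hd))
    exact ⟨w, hKH hw, by rw [hwe, he, hdc]; group⟩

theorem commutator_powerClosure_le (hG : IsPGroup p G) {n : ℕ} (h : PowerLaw p n G) (H : Subgroup G) :
    ⁅Cfsg.powerClosure p n H, Cfsg.powerClosure p n H⁆ ≤ Cfsg.powerClosure p n ⁅H, H⁆ := by
  rw [commutator_le]
  intro u hu v hv
  obtain ⟨x, hx, rfl⟩ := exists_pow_of_mem_powerClosure hG h H u hu
  obtain ⟨y, hy, rfl⟩ := exists_pow_of_mem_powerClosure hG h H v hv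
  set w := y ^ p ^ n * x⁻¹ * (y ^ p ^ n)⁻¹
  have hw : w ∈ H := mul_mem (mul_mem (pow_mem hy _) (inv_mem hx)) (inv_mem (pow_mem hy _))
  have he : ⁅x ^ p ^ n, y ^ p ^ n⁆ = x ^ p ^ n * w ^ p ^ n := by
    rw [conj_pow, commutatorElement_def, inv_pow]; group
  obtain ⟨c, hc, hce⟩ := h x w
  have hpair : closure ({x, w} : Set G) ≤ H := (closure_le H).mpr (by rintro z (rfl | rfl) <;> assumption)
  have hxw : x * w ∈ ⁅H, H⁆ := by
    have : x * w = ⁅x, y ^ p ^ n⁆ := by simp [w, commutatorElement_def, mul_assoc]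
    rw [this]
    exact commutator_mem_commutator hx (pow_mem hy _)
  rw [he, show x ^ p ^ n * w ^ p ^ n = (x * w) ^ p ^ n * c⁻¹ by rw [hce]; group]
  exact mul_mem (pow_mem_powerClosure n hxw)
    (inv_mem (powerClosure_mono n (commutator_mono hpair hpair) hc))

theorem mul_pow_of_exponent : ∀ (n : ℕ) (G : Type u) [Group G] [Finite G], IsPGroup p G →
    PowerLaw p 1 G → (∀ d ∈ _root_.commutator G, d ^ p ^ n = 1) →
    ∀ a b : G, (a * b) ^ p ^ n = a ^ p ^ n * b ^ p ^ n := by
  intro n
  induction n with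
  | zero => intro G _ _ _ _ _ a b; simp
  | succ n ih =>
    intro G _ _ hG h hexp a b
    set K := Cfsg.powerClosure p 1 (⊤ : Subgroup G)
    have hKexp : ∀ d ∈ _root_.commutator K, d ^ p ^ n = 1 := by
      intro d hd
      have h1 : (d : G) ∈ Cfsg.powerClosure p 1 ⁅(⊤ : Subgroup G), (⊤ : Subgroup G)⁆ := by
        refine commutator_powerClosure_le hG h ⊤ ?_
        rw [← map_subtype_commutator]
        exact mem_map_of_mem K.subtype hd
      obtain ⟨e, he, hed⟩ := exists_pow_of_mem_powerClosure hG h _ _ h1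
      refine Subtype.ext ?_
      rw [Subgroup.coe_pow, ← hed, pow_one, ← pow_mul, ← pow_succ', Subgroup.coe_one]
      exact hexp e he
    have hK := ih K (hG.to_subgroup K) (h.of_injective K.subtype K.subtype_injective) hKexp
    obtain ⟨c, hc, hce⟩ := h a b
    simp only [pow_one] at hce
    have hcD : c ∈ Cfsg.powerClosure p 1 ⁅(⊤ : Subgroup G), (⊤ : Subgroup G)⁆ :=
      powerClosure_mono 1 (commutator_mono le_top le_top) hc
    obtain ⟨e, he, hec⟩ := exists_pow_of_mem_powerClosure hG h _ _ hcD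
    rw [pow_one] at hec
    have hm : ∀ z : G, z ^ p ∈ K := fun z => by
      simpa using pow_mem_powerClosure (p := p) 1 (mem_top z)
    have h1 := congrArg Subtype.val (hK ⟨a ^ p * b ^ p, mul_mem (hm a) (hm b)⟩
      ⟨c, powerClosure_mono 1 le_top hcD⟩)
    have h2 := congrArg Subtype.val (hK ⟨a ^ p, hm a⟩ ⟨b ^ p, hm b⟩)
    simp only [Subgroup.coe_pow, Subgroup.coe_mul] at h1 h2
    rw [pow_succ', pow_mul, pow_mul, pow_mul, hce, h1, h2]
    have : c ^ p ^ n = 1 := by
      rw [← hec, ← pow_mul, ← pow_succ']; exact hexp e he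
    rw [this, mul_one]

/-- Kemhadze: regularity follows from the condition for exponent `p`. -/
theorem regular_of_powerLaw_one (hG : IsPGroup p G) (h : PowerLaw p 1 G) :
    Cfsg.IsRegularPGroup p G := by
  refine ⟨hG, fun a b n => ?_⟩
  set H := closure ({a, b} : Set G)
  have ha : a ∈ H := subset_closure (by simp)
  have hb : b ∈ H := subset_closure (by simp)
  set N := Cfsg.powerClosure p n (_root_.commutator H)
  haveI : N.Normal := ⟨fun d hd g => by
    have hmap : (_root_.commutator H).map (MulAut.conj g).toMonoidHom = _root_.commutator H := by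
      rw [_root_.commutator_def, map_commutator, map_top_of_surjective _ (MulAut.conj g).surjective]
    have h1 : (MulAut.conj g).toMonoidHom d ∈ N.map (MulAut.conj g).toMonoidHom := mem_map_of_mem _ hd
    rw [map_powerClosure, hmap] at h1
    exact h1⟩
  have hq := mul_pow_of_exponent n (H ⧸ N) ((hG.to_subgroup H).to_quotient N)
    ((h.of_injective H.subtype H.subtype_injective).of_surjective _ (QuotientGroup.mk'_surjective N))
    (fun d hd => by
      rw [_root_.commutator_def (H ⧸ N),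
        ← map_top_of_surjective (QuotientGroup.mk' N) (QuotientGroup.mk'_surjective N), ← map_commutator] at hd
      obtain ⟨d, hd, rfl⟩ := hd
      rw [← map_pow, QuotientGroup.mk'_apply, QuotientGroup.eq_one_iff]
      exact pow_mem_powerClosure n hd)
    (QuotientGroup.mk' N ⟨a, ha⟩) (QuotientGroup.mk' N ⟨b, hb⟩)
  rw [← map_mul, ← map_pow, ← map_pow, ← map_pow, ← map_mul, QuotientGroup.mk'_apply,
    QuotientGroup.mk'_apply, eq_comm, QuotientGroup.eq] at hq
  refine ⟨(a ^ p ^ n * b ^ p ^ n)⁻¹ * (a * b) ^ p ^ n, ?_, by group⟩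
  have hmem := mem_map_of_mem H.subtype hq
  rw [map_powerClosure, map_subtype_commutator] at hmem
  simpa using hmem

end Cfsg.Agent.PGroup
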