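import Cfsg.Agent.Lib.PGroup.Critical

/-!
# Sylow subgroups and central elements

* `centralizer_splits`: the centralizer of a self-centralizing normal subgroup of a Sylow subgroup.
* `mem_frattini_of_perfect_central`: in a perfect group a central element of a Sylow subgroup is in its Frattini subgroup.
* `not_perfect_of_cyclic_sylow_central`: a perfect group has no central element of order `p` if a Sylow `p` is cyclic.
-/

set_option linter.style.haveILetI false
set_option linter.unusedSectionVars false

open Subgroup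
open scoped commutatorElement

namespace Cfsg.Agent.PGroup

variable {G : Type*} [Group G] [Finite G] {p : ℕ} [hp : Fact p.Prime]

theorem centralizer_splits (R : Sylow p G) (A : Subgroup G) (hAR : A ≤ R)
    (hAn : (R : Subgroup G) ≤ normalizer (A : Set G))
    (hC : (R : Subgroup G) ⊓ centralizer (A : Set G) = A) :
    ∃ H : Subgroup G, H ≤ centralizer (A : Set G) ∧ Nat.Coprime (Nat.card H) p ∧
      centralizer (A : Set G) ≤ normalizer (H : Set G) ∧ H ⊓ A = ⊥ ∧
      H ⊔ A = centralizer (A : Set G) := by
  set C := centralizer (A : Set G) with hCdef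
  have hAC : A ≤ C := hC.ge.trans inf_le_right
  -- every p-subgroup of `C` containing `A` equals `A`
  have hmax : ∀ Q : Subgroup G, IsPGroup p Q → A ≤ Q → Q ≤ C → Q = A := by
    intro Q hQ hAQ hQC
    set N := normalizer (A : Set G)
    have hQN : Q ≤ N := hQC.trans (centralizer_le_normalizer _)
    obtain ⟨S, hS⟩ := (hQ.comap_subtype (K := N)).exists_le_sylow
    obtain ⟨n, hn⟩ := MulAction.exists_smul_eq N S (R.subtype hAn)
    refine (eq_of_le_of_card_le hAQ ?_).symm
    set Q' := Q.map (MulAut.conj (n : G)).toMonoidHom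
    have hQ'le : Q' ≤ (R : Subgroup G) ⊓ C := by
      rintro _ ⟨q, hq, rfl⟩
      constructor
      · have h1 : (MulAut.conj n) (⟨q, hQN hq⟩ : N) ∈ ((n • S : Sylow p N) : Subgroup N) := by
          rw [Sylow.coe_subgroup_smul]
          exact ⟨⟨q, hQN hq⟩, hS hq, rfl⟩
        rw [hn] at h1
        exact h1
      · refine mem_centralizer_iff.mpr fun a ha => ?_
        have h1 : (n : G)⁻¹ * a * n ∈ A := by
          have := (mem_normalizer_iff.mp (inv_mem n.2) a).mp ha
          rwa [inv_inv] at this
        have h2 := mem_centralizer_iff.mp (hQC hq) _ h1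
        show a * (n * q * (n : G)⁻¹) = n * q * (n : G)⁻¹ * a
        calc a * (n * q * (n : G)⁻¹) = n * ((n : G)⁻¹ * a * n * q) * (n : G)⁻¹ := by group
          _ = _ := by rw [h2]; group
    rw [hC] at hQ'le
    exact (card_map_of_injective (MulEquiv.injective _)).symm.le.trans
      (Nat.le_of_dvd Nat.card_pos (card_dvd_of_le hQ'le))
  have hsub : ∀ Q : Subgroup C, IsPGroup p Q → A.subgroupOf C ≤ Q → Q = A.subgroupOf C := by
    intro Q hQ hAQ
    have h1 := hmax (Q.map C.subtype) (hQ.map _) (fun a ha => ⟨⟨a, hAC ha⟩, hAQ ha, rfl⟩) (map_subtype_le Q)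
    ext x
    rw [mem_subgroupOf, ← h1]
    exact (mem_map_iff_mem C.subtype_injective).symm
  let P : Sylow p C := ⟨A.subgroupOf C, (R.2.to_le hAR).comap_subtype, fun {Q} hQ hAQ => hsub Q hQ hAQ⟩
  have hP : normalizer (P : Set C) ≤ centralizer (P : Set C) := fun x _ =>
    mem_centralizer_iff.mpr fun a ha => Subtype.ext (mem_centralizer_iff.mp x.2 a ha)
  obtain ⟨K, hKn, hKd, hKc⟩ : ∃ K : Subgroup C, K.Normal ∧ ¬ p ∣ Nat.card K ∧
      IsComplement' K (P : Subgroup C) :=
    ⟨(MonoidHom.transferSylow P hP).ker, MonoidHom.normal_ker _,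
      MonoidHom.not_dvd_card_ker_transferSylow P hP, MonoidHom.ker_transferSylow_isComplement' P hP⟩
  refine ⟨K.map C.subtype, map_subtype_le K, ?_, ?_, ?_, ?_⟩
  · rw [card_map_of_injective C.subtype_injective]
    exact Nat.Coprime.symm (hp.out.coprime_iff_not_dvd.mpr hKd)
  · intro c hc
    refine mem_normalizer_iff.mpr fun x => ⟨?_, ?_⟩
    · rintro ⟨k, hk, rfl⟩
      exact ⟨⟨c, hc⟩ * k * ⟨c, hc⟩⁻¹, hKn.conj_mem k hk _, rfl⟩
    · rintro ⟨k, hk, hkx⟩
      refine ⟨⟨c, hc⟩⁻¹ * k * ⟨c, hc⟩, ?_, ?_⟩
      · simpa using hKn.conj_mem k hk (⟨c, hc⟩⁻¹ : C)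
      · simp at hkx ⊢
        rw [hkx]; group
  · have h := hKc.disjoint.eq_bot
    rw [eq_bot_iff]
    rintro x ⟨⟨k, hk, rfl⟩, hxA⟩
    have : k ∈ K ⊓ (P : Subgroup C) := ⟨hk, hxA⟩
    rw [h, mem_bot] at this
    simp [this]
  · have h := congrArg (Subgroup.map C.subtype) hKc.sup_eq_top
    rw [Subgroup.map_sup, ← MonoidHom.range_eq_map, Subgroup.range_subtype] at h
    have hPmap : (P : Subgroup C).map C.subtype = A :=
      (subgroupOf_map_subtype A C).trans (inf_eq_left.mpr hAC)
    rwa [hPmap] at h

theorem mem_frattini_of_perfect_central (hH : _root_.commutator G = ⊤) (P : Sylow p G) {z : G}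
    (hzP : z ∈ P) (hz : z ∈ center G) : (⟨z, hzP⟩ : P) ∈ frattini P := by
  refine zpowers_le.mp (le_frattini fun M hM => zpowers_le.mpr ?_)
  haveI := isCoatom_normal P.2 hM
  haveI : IsCyclic (P ⧸ M) := isCyclic_of_prime_card (p := p) ((Subgroup.index_eq_card M).symm.trans (isCoatom_index P.2 hM))
  letI : CommGroup (P ⧸ M) := IsCyclic.commGroup
  set T := MonoidHom.transfer (QuotientGroup.mk' M) with hT
  have h1 : T z = 1 := by
    have := Abelianization.commutator_subset_ker T (hH.ge (mem_top z))
    exact this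
  have key : ∀ (k : ℕ) (g₀ : G), g₀⁻¹ * z ^ k * g₀ ∈ (P : Subgroup G) → g₀⁻¹ * z ^ k * g₀ = z ^ k := by
    intro k g₀ _
    rw [mul_assoc, ← (commute_of_mem_center (pow_mem hz k) g₀).eq, inv_mul_cancel_left]
  rw [hT, MonoidHom.transfer_eq_pow _ z key, QuotientGroup.mk'_apply, QuotientGroup.eq_one_iff] at h1
  obtain ⟨k, hk⟩ := P.2 ⟨z, hzP⟩
  obtain ⟨u, v, huv⟩ : IsCoprime ((p ^ k : ℕ) : ℤ) (((P : Subgroup G).index : ℕ) : ℤ) :=
    Nat.isCoprime_iff_coprime.mpr ((hp.out.coprime_iff_not_dvd.mpr P.not_dvd_index).pow_left k)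
  have e : (⟨z, hzP⟩ : P) = ((⟨z, hzP⟩ : P) ^ (P : Subgroup G).index) ^ v := by
    rw [← zpow_natCast, ← zpow_mul]
    conv_lhs => rw [← zpow_one (⟨z, hzP⟩ : P), ← huv, zpow_add, zpow_mul' _ u, zpow_natCast, hk, one_zpow, one_mul]
    rw [mul_comm]
  rw [e]
  exact zpow_mem h1 v

/-- A perfect group with a cyclic Sylow `p`-subgroup has no central element of order `p`. -/
theorem not_perfect_of_cyclic_sylow_central (hH : _root_.commutator G = ⊤) (P : Sylow p G)
    (hP : IsCyclic P) {z : G} (hz : z ∈ center G) (hzo : orderOf z = p) : False := by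
  have hzP : z ∈ (P : Subgroup G) := by
    haveI := zpowers_normal_of_mem_center hz
    have hzp : IsPGroup p (zpowers z) := IsPGroup.of_card (n := 1) (by rw [Nat.card_zpowers, hzo, pow_one])
    exact hzp.le_sylow_of_normal P (mem_zpowers z)
  have hcomm : ∀ a ∈ (P : Subgroup G), ∀ b ∈ (P : Subgroup G), a * b = b * a := fun a ha b hb =>
    congrArg Subtype.val ((IsCyclic.isMulCommutative (α := P)).is_comm.comm ⟨a, ha⟩ ⟨b, hb⟩)
  have hN : normalizer (P : Set G) ≤ centralizer (P : Set G) := by
    intro n hn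
    obtain ⟨k, r, hr, hmr⟩ :=
      Nat.exists_eq_pow_mul_and_not_dvd (Nat.card_pos (α := G)).ne' p hp.out.ne_one
    have hco : IsCoprime ((p ^ k : ℕ) : ℤ) (r : ℤ) :=
      Nat.isCoprime_iff_coprime.mpr ((hp.out.coprime_iff_not_dvd.mpr hr).pow_left k)
    obtain ⟨u, v, huv⟩ := hco
    have hcard : n ^ (p ^ k * r) = 1 := by rw [← hmr]; exact pow_card_eq_one' (G := G)
    -- the p'-part
    have h1 : n ^ (p ^ k) ∈ centralizer (P : Set G) := by
      let N := normalizer (P : Set G)
      let n' : N := ⟨n ^ (p ^ k), pow_mem hn _⟩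
      let a : MulAut P :=
        { toFun := fun x => ⟨(n' : G) * x * (n' : G)⁻¹, (mem_normalizer_iff.mp n'.2 x).mp x.2⟩
          invFun := fun x => ⟨(n' : G)⁻¹ * x * n', by
            have := (mem_normalizer_iff.mp (inv_mem n'.2) (x : G)).mp x.2
            rwa [inv_inv] at this⟩
          left_inv := fun x => Subtype.ext (by simp [mul_assoc])
          right_inv := fun x => Subtype.ext (by simp [mul_assoc])
          map_mul' := fun x y => Subtype.ext (by simp [mul_assoc]) }
      have hpow : ∀ (j : ℕ) (x : P), ((a ^ j) x : G) = (n' : G) ^ j * x * ((n' : G) ^ j)⁻¹ := by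
        intro j x
        induction j with
        | zero => simp
        | succ j ih =>
          rw [pow_succ', MulAut.mul_apply]
          show (n' : G) * ((a ^ j) x : G) * (n' : G)⁻¹ = _
          rw [ih, pow_succ']; group
      have ha : Nat.Coprime (orderOf a) p := by
        have : a ^ r = 1 := by
          ext x
          rw [hpow, MulAut.one_apply]
          show (n ^ p ^ k) ^ r * (x : G) * ((n ^ p ^ k) ^ r)⁻¹ = x
          rw [← pow_mul, hcard]; group
        exact Nat.Coprime.coprime_dvd_left (orderOf_dvd_of_pow_eq_one this)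
          (hp.out.coprime_iff_not_dvd.mpr hr).symm
      refine mem_centralizer_iff.mpr fun x hx => ?_
      have hfix := fixed_of_fix_order_p_abelian (A := (⊤ : Subgroup P)) P.2 ha
        (fun x _ y _ => Subtype.ext (hcomm x x.2 y y.2)) (fun _ _ => mem_top _) (fun y _ hy => by
          have hy' : (y : G) ∈ zpowers z := by
            rcases eq_or_ne (y : G) 1 with h | h
            · rw [h]; exact one_mem _
            · haveI := hP
              have hle : zpowers z ⊔ zpowers (y : G) ≤ (P : Subgroup G) :=
                sup_le (zpowers_le.mpr hzP) (zpowers_le.mpr y.2)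
              haveI : IsCyclic (zpowers z ⊔ zpowers (y : G) : Subgroup G) :=
                isCyclic_of_injective (inclusion hle) (inclusion_injective _)
              obtain ⟨g, hg⟩ := IsCyclic.exists_ofOrder_eq_natCard (α := (zpowers z ⊔ zpowers (y : G) : Subgroup G))
              have hgp : g ^ p = 1 := by
                have hpow' : ∀ w ∈ zpowers z ⊔ zpowers (y : G), w ^ p = 1 := by
                  intro w hw
                  haveI := zpowers_normal_of_mem_center hz
                  obtain ⟨s, hs, t, ht, rfl⟩ := mem_sup_of_normal_left.mp hw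
                  obtain ⟨i, rfl⟩ := mem_zpowers_iff.mp hs
                  obtain ⟨j, rfl⟩ := mem_zpowers_iff.mp ht
                  rw [Commute.mul_pow (hcomm _ (zpow_mem hzP i) _ (zpow_mem y.2 j)), ← zpow_natCast,
                    zpow_comm, zpow_natCast, orderOf_dvd_iff_pow_eq_one.mp hzo.dvd, one_zpow, one_mul,
                    ← zpow_natCast, zpow_comm, zpow_natCast, ← Subgroup.coe_pow, hy, Subgroup.coe_one, one_zpow]
                exact Subtype.ext (by simpa using hpow' g g.2)
              have hc := Nat.le_of_dvd hp.out.pos (orderOf_dvd_of_pow_eq_one hgp)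
              rw [hg] at hc
              have e : zpowers z = zpowers z ⊔ zpowers (y : G) :=
                eq_of_le_of_card_le le_sup_left (by rw [Nat.card_zpowers, hzo]; exact hc)
              rw [e]; exact mem_sup_right (mem_zpowers _)
          obtain ⟨i, hi⟩ := mem_zpowers_iff.mp hy'
          refine Subtype.ext ?_
          show (n' : G) * y * (n' : G)⁻¹ = y
          rw [← hi, (commute_of_mem_center (zpow_mem hz i) _).eq, mul_inv_cancel_right]) ⟨x, hx⟩ (mem_top _)
      have := congrArg Subtype.val hfix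
      exact (mul_inv_eq_iff_eq_mul.mp this).symm
    -- the p-part
    have h2 : n ^ r ∈ centralizer (P : Set G) := by
      have hmem : n ^ r ∈ (P : Subgroup G) := by
        let N := normalizer (P : Set G)
        have hPN : (P : Subgroup G) ≤ N := le_normalizer
        haveI : ((P.subtype hPN : Sylow p N) : Subgroup N).Normal := normal_in_normalizer
        let n' : N := ⟨n ^ r, pow_mem hn _⟩
        have hnp : IsPGroup p (zpowers n') := by
          refine IsPGroup.of_card_dvd_pow (n := k) ?_
          rw [Nat.card_zpowers, orderOf_dvd_iff_pow_eq_one]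
          refine Subtype.ext ?_
          show (n ^ r) ^ p ^ k = 1
          rw [← pow_mul, mul_comm, hcard]
        have := (P.subtype hPN).is_maximal' ((P.subtype hPN).2.to_sup_of_normal_left hnp)
          (le_sup_left : _ ≤ ((P.subtype hPN : Sylow p N) : Subgroup N) ⊔ zpowers n')
        have hmem' : n' ∈ ((P.subtype hPN : Sylow p N) : Subgroup N) :=
          this ▸ mem_sup_right (mem_zpowers n')
        exact hmem'
      exact mem_centralizer_iff.mpr fun x hx => hcomm x hx _ hmem
    rw [← zpow_one n, ← huv, zpow_add, zpow_mul', zpow_mul', zpow_natCast, zpow_natCast]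
    exact mul_mem (zpow_mem h1 u) (zpow_mem h2 v)
  haveI : IsMulCommutative P := ⟨⟨fun a b => Subtype.ext (hcomm a a.2 b b.2)⟩⟩
  have hker : (MonoidHom.transferSylow P hN).ker = ⊤ := by
    rw [eq_top_iff, ← hH, _root_.commutator_def, commutator_le]
    intro g _ h _
    rw [MonoidHom.mem_ker, map_commutatorElement, commutatorElement_eq_one_iff_mul_comm]
    exact IsMulCommutative.is_comm.comm _ _
  have hd := (MonoidHom.ker_transferSylow_isComplement' P hN).disjoint
  rw [hker, top_disjoint] at hd
  rw [hd, mem_bot] at hzP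
  exact hp.out.ne_one (by rw [← hzo, hzP, orderOf_one])

end Cfsg.Agent.PGroup
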